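/-
Insoluble groups of prime degree: the Sylow normalizer, its coordinates, and a trivial intersection
complement in it.
-/
import Cfsg.Agent.Lib.Perm.PrimeTwoP.Basic
import Cfsg.Agent.Lib.Perm.Groups.PrimeIndex
import Mathlib.GroupTheory.Transfer

set_option autoImplicit false
set_option linter.unusedSectionVars false

namespace CfsgLib.Perm.UniqueP

open MulAction

variable {α : Type*} [Fintype α] [DecidableEq α] {p : ℕ} [hp : Fact p.Prime]
  {G : Subgroup (Equiv.Perm α)}

/-- The data: `x` of order `p`, a point, and `y` fixing the point and raising `x` to the `u`-th power,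
with `zpowers y` a complement of `zpowers x` in its normalizer. -/
structure Ctx (G : Subgroup (Equiv.Perm α)) (p : ℕ) [Fact p.Prime] where
  hα : Fintype.card α = p
  x : G
  hx : orderOf x = p
  y : G
  ω : α
  u : ZMod p
  hyx : y * x * y⁻¹ = x ^ u.val
  hyω : y • ω = ω
  hsup : Subgroup.zpowers x ⊔ Subgroup.zpowers y = Subgroup.normalizer (Subgroup.zpowers x : Set G)
  hsyl : ¬ p ^ 2 ∣ Nat.card G
  hins : ¬ Group.IsSolvable G

namespace Ctx

variable (C : Ctx G p)

/-- `zpowers y`. -/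
def E : Subgroup G := Subgroup.zpowers C.y

/-- The power of `x` attached to a residue. -/
def X (i : ZMod p) : G := C.x ^ i.val

theorem X_zero : C.X 0 = 1 := by simp [X]

theorem X_one : C.X 1 = C.x := by
  haveI : Fact (1 < p) := ⟨hp.out.one_lt⟩
  simp [X, ZMod.val_one]

theorem X_nat (n : ℕ) : C.X n = C.x ^ n := by
  have h := pow_mod_orderOf C.x n
  rw [C.hx] at h
  rw [X, ZMod.val_natCast, h]

theorem X_add (i j : ZMod p) : C.X (i + j) = C.X i * C.X j := by
  haveI : NeZero p := ⟨hp.out.ne_zero⟩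
  have h := pow_mod_orderOf C.x (i.val + j.val)
  rw [C.hx] at h
  rw [X, X, X, ← pow_add, ZMod.val_add, h]

theorem X_mem (i : ZMod p) : C.X i ∈ Subgroup.zpowers C.x :=
  Subgroup.pow_mem _ (Subgroup.mem_zpowers _) _

theorem exists_X {g : G} (hg : g ∈ Subgroup.zpowers C.x) : ∃ i, C.X i = g := by
  obtain ⟨n, hn⟩ := (mem_powers_iff_mem_zpowers (x := C.x)).mpr hg
  exact ⟨(n : ZMod p), by rw [C.X_nat]; exact hn⟩

theorem X_smul_ω_injective : Function.Injective fun i : ZMod p => C.X i • C.ω := by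
  intro i j h
  by_contra hne
  have h1 : C.X (-i + j) • C.ω = C.ω := by
    rw [C.X_add, mul_smul]
    show C.X (-i) • C.X j • C.ω = C.ω
    rw [show C.X j • C.ω = C.X i • C.ω from h.symm, ← mul_smul, ← C.X_add, neg_add_cancel, C.X_zero, one_smul]
  refine TwoP.no_fix C.hα (g := C.X (-i + j)) ?_ C.ω h1
  have hd : orderOf (C.X (-i + j)) ∣ p := (orderOf_pow_dvd _).trans C.hx.dvd
  refine ((Nat.dvd_prime hp.out).1 hd).resolve_left fun h => ?_
  rw [orderOf_eq_one_iff, X, ← orderOf_dvd_iff_pow_eq_one, C.hx] at h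
  haveI : NeZero p := ⟨hp.out.ne_zero⟩
  have h0 : (-i + j).val = 0 := Nat.eq_zero_of_dvd_of_lt h (ZMod.val_lt _)
  rw [ZMod.val_eq_zero, neg_add_eq_zero] at h0
  exact hne h0

/-- The points are the residues. -/
noncomputable def pt : ZMod p ≃ α :=
  haveI : NeZero p := ⟨hp.out.ne_zero⟩
  Equiv.ofBijective (fun i => C.X i • C.ω)
    ((Fintype.bijective_iff_injective_and_card _).2 ⟨C.X_smul_ω_injective, by rw [ZMod.card, C.hα]⟩)

theorem pt_apply (i : ZMod p) : C.pt i = C.X i • C.ω := rfl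

theorem X_smul_pt (i j : ZMod p) : C.X i • C.pt j = C.pt (i + j) := by
  rw [pt_apply, pt_apply, ← mul_smul, ← C.X_add]

theorem y_conj (i : ZMod p) : C.y * C.X i * C.y⁻¹ = C.X (C.u * i) := by
  haveI : NeZero p := ⟨hp.out.ne_zero⟩
  conv_lhs => rw [X, ← conj_pow, C.hyx, ← pow_mul]
  rw [← C.X_nat, Nat.cast_mul, ZMod.natCast_zmod_val, ZMod.natCast_zmod_val]

theorem y_pow_conj (n : ℕ) (i : ZMod p) : C.y ^ n * C.X i * (C.y ^ n)⁻¹ = C.X (C.u ^ n * i) := by
  induction n with
  | zero => simp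
  | succ n ih =>
    rw [pow_succ', pow_succ', mul_assoc C.u, ← y_conj, ← ih]
    group

theorem y_pow_ω (n : ℕ) : C.y ^ n • C.ω = C.ω := by
  induction n with
  | zero => simp
  | succ n ih => rw [pow_succ', mul_smul, ih, C.hyω]

theorem y_smul_pt (n : ℕ) (i : ZMod p) : C.y ^ n • C.pt i = C.pt (C.u ^ n * i) := by
  have h : (C.y ^ n)⁻¹ • C.ω = C.ω := inv_smul_eq_iff.2 (C.y_pow_ω n).symm
  rw [pt_apply, pt_apply, ← C.y_pow_conj, mul_smul (C.y ^ n * C.X i), h, mul_smul]

theorem y_pow_eq_one_iff (n : ℕ) : C.y ^ n = 1 ↔ C.u ^ n = 1 := by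
  constructor
  · intro h
    have h2 := C.y_smul_pt n 1
    rw [h, one_smul] at h2
    have := C.pt.injective h2
    rw [mul_one] at this
    exact this.symm
  · intro h
    refine Subtype.ext (Equiv.ext fun a => ?_)
    obtain ⟨i, rfl⟩ := C.pt.surjective a
    show C.y ^ n • C.pt i = C.pt i
    rw [C.y_smul_pt, h, one_mul]

theorem u_ne_zero : C.u ≠ 0 := by
  intro h
  have h1 := C.hyx
  rw [h, ZMod.val_zero, pow_zero, conj_eq_one_iff] at h1
  have h2 := C.hx
  rw [h1, orderOf_one] at h2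
  exact hp.out.one_lt.ne h2

theorem orderOf_y : orderOf C.y = orderOf C.u :=
  orderOf_eq_orderOf_iff.2 C.y_pow_eq_one_iff

theorem orderOf_dvd : orderOf C.y ∣ p - 1 := by
  rw [C.orderOf_y]
  exact orderOf_dvd_of_pow_eq_one (ZMod.pow_card_sub_one_eq_one C.u_ne_zero)

theorem y_mem : C.y ∈ C.E := Subgroup.mem_zpowers _

theorem exists_pow_of_mem {g : G} (hg : g ∈ C.E) : ∃ n : ℕ, C.y ^ n = g :=
  (mem_powers_iff_mem_zpowers (x := C.y)).mpr hg

theorem x_ne_one : C.x ≠ 1 := fun h => by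
  have h2 := C.hx
  rw [h, orderOf_one] at h2
  exact hp.out.one_lt.ne h2

/-- The normalizer consists of the `X i * y ^ n`. -/
theorem exists_eq_of_mem {g : G} (hg : g ∈ Subgroup.normalizer (Subgroup.zpowers C.x : Set G)) :
    ∃ (i : ZMod p) (n : ℕ), g = C.X i * C.y ^ n := by
  rw [← C.hsup] at hg
  have hle : Subgroup.zpowers C.y ≤ Subgroup.normalizer (Subgroup.zpowers C.x : Set G) :=
    C.hsup ▸ le_sup_right
  rw [← SetLike.mem_coe, Subgroup.coe_mul_of_right_le_normalizer_left _ _ hle, Set.mem_mul] at hg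
  obtain ⟨a, ha, b, hb, rfl⟩ := hg
  obtain ⟨i, rfl⟩ := C.exists_X ha
  obtain ⟨n, rfl⟩ := C.exists_pow_of_mem hb
  exact ⟨i, n, rfl⟩

/-- Elements of `zpowers x` are their own centralizers. -/
theorem cent_X {i : ZMod p} (hi : i ≠ 0) {g : G} (h : Commute g (C.X i)) : g ∈ Subgroup.zpowers C.x := by
  haveI : NeZero p := ⟨hp.out.ne_zero⟩
  have hgx : Commute g C.x := by
    have h2 : C.x = C.X i ^ (i⁻¹).val := by
      rw [X, ← pow_mul, ← C.X_nat, Nat.cast_mul, ZMod.natCast_zmod_val, ZMod.natCast_zmod_val,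
        mul_inv_cancel₀ hi, C.X_one]
    rw [h2]
    exact h.pow_right _
  obtain ⟨j, hj⟩ := C.pt.surjective (g • C.ω)
  have : g = C.X j := by
    refine Subtype.ext (Equiv.ext fun a => ?_)
    obtain ⟨k, rfl⟩ := C.pt.surjective a
    show g • C.pt k = C.X j • C.pt k
    have hc : g * C.X k = C.X k * g := (hgx.pow_right k.val).eq
    rw [C.pt_apply k, ← mul_smul, hc, mul_smul, ← hj, C.X_smul_pt, ← C.pt_apply k, C.X_smul_pt,
      add_comm]
  exact this ▸ C.X_mem j

theorem centralizer_x : Subgroup.centralizer ({C.x} : Set G) = Subgroup.zpowers C.x := by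
  haveI : Fact (1 < p) := ⟨hp.out.one_lt⟩
  ext g
  rw [Subgroup.mem_centralizer_singleton_iff]
  constructor
  · intro h
    exact C.cent_X one_ne_zero (by rw [C.X_one]; exact h)
  · intro hg
    obtain ⟨k, rfl⟩ := Subgroup.mem_zpowers_iff.1 hg
    exact ((Commute.refl C.x).zpow_left k).eq

theorem isSylow : ∃ P : Sylow p G, (P : Subgroup G) = Subgroup.zpowers C.x := by
  have hc : Nat.card (Subgroup.zpowers C.x) = p ^ (Nat.card G).factorization p := by
    rw [Nat.card_zpowers, C.hx]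
    have h1 : (Nat.card G).factorization p = 1 := by
      have h2 : p ∣ Nat.card G := C.hx ▸ orderOf_dvd_natCard C.x
      have h3 := (hp.out.pow_dvd_iff_le_factorization Nat.card_pos.ne').not.1 C.hsyl
      have h4 := (hp.out.pow_dvd_iff_le_factorization (k := 1) Nat.card_pos.ne').1 (by simpa using h2)
      omega
    rw [h1, pow_one]
  exact ⟨Sylow.ofCard _ hc, rfl⟩

theorem y_ne_one : C.y ≠ 1 := by
  intro hy
  obtain ⟨P, hP⟩ := C.isSylow
  have hN : Subgroup.normalizer (Subgroup.zpowers C.x : Set G) ≤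
      Subgroup.centralizer (Subgroup.zpowers C.x : Set G) := by
    rw [← C.hsup, hy, Subgroup.zpowers_one_eq_bot, sup_bot_eq]
    intro g hg
    rw [Subgroup.mem_centralizer_iff]
    intro z hz
    obtain ⟨k, rfl⟩ := Subgroup.mem_zpowers_iff.1 hg
    obtain ⟨l, rfl⟩ := Subgroup.mem_zpowers_iff.1 hz
    exact (Commute.refl C.x).zpow_zpow l k
  rw [← hP] at hN
  have hK := MonoidHom.ker_transferSylow_isComplement' P hN
  set K := (MonoidHom.transferSylow P hN).ker with hKdef
  have hKd : ¬ p ∣ Nat.card K := MonoidHom.not_dvd_card_ker_transferSylow P hN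
  refine C.hins ?_
  have hKbot : K = ⊥ := by
    by_contra hne
    obtain ⟨k, hk, hk1⟩ := (Subgroup.bot_or_exists_ne_one K).resolve_left hne
    obtain ⟨a, ha⟩ : ∃ a : α, k • a ≠ a := by
      by_contra hall
      push Not at hall
      exact hk1 (Subtype.ext (Equiv.ext hall))
    haveI : IsPretransitive G α := TwoP.transitive_of_order C.hα C.hx
    refine hKd ?_
    have hd : ∀ b : α, Nat.card (orbit K b) = Nat.card (orbit K a) := by
      intro b
      obtain ⟨g, rfl⟩ := exists_smul_eq G a b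
      refine Nat.card_congr (Equiv.symm ?_)
      refine (Equiv.subtypeEquiv (MulAction.toPerm g) fun c => ?_)
      constructor
      · rintro ⟨⟨l, hl⟩, rfl⟩
        exact ⟨⟨g * l * g⁻¹, (inferInstance : K.Normal).conj_mem l hl g⟩, by
          show (g * l * g⁻¹) • g • a = g • l • a
          rw [← mul_smul, inv_mul_cancel_right, mul_smul]⟩
      · rintro ⟨⟨l, hl⟩, hlc⟩
        refine ⟨⟨g⁻¹ * l * g, by simpa using (inferInstance : K.Normal).conj_mem l hl g⁻¹⟩, ?_⟩
        show (g⁻¹ * l * g) • a = c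
        have hlc' : l • g • a = g • c := hlc
        rw [mul_smul, mul_smul, hlc', inv_smul_smul]
    have hsum : Fintype.card α = Nat.card (Quotient (orbitRel K α)) * Nat.card (orbit K a) := by
      classical
      rw [← Nat.card_eq_fintype_card, Nat.card_congr (MulAction.selfEquivSigmaOrbits K α), Nat.card_sigma,
        Finset.sum_congr rfl fun q _ => hd q.out, Finset.sum_const, Finset.card_univ, smul_eq_mul,
        ← Nat.card_eq_fintype_card]
    rw [C.hα] at hsum
    have h1 : Nat.card (orbit K a) ≠ 1 := by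
      intro h1
      obtain ⟨-, h2⟩ := Nat.card_eq_one_iff_unique.1 h1 |>.imp id id
      haveI : Subsingleton (orbit K a) := (Nat.card_eq_one_iff_unique.1 h1).1
      have := Subsingleton.elim (⟨k • a, ⟨⟨k, hk⟩, rfl⟩⟩ : orbit K a) ⟨a, mem_orbit_self a⟩
      exact ha (congrArg Subtype.val this)
    have h2 : Nat.card (orbit K a) = p :=
      ((Nat.dvd_prime hp.out).1 ⟨_, hsum.trans (mul_comm _ _)⟩).resolve_left h1
    have h3 := Nat.card_congr (MulAction.orbitProdStabilizerEquivGroup K a)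
    rw [Nat.card_prod, h2] at h3
    exact ⟨_, h3.symm⟩
  haveI : IsMulCommutative (P : Subgroup G) := hP ▸ inferInstance
  haveI : Group.IsSolvable (P : Subgroup G) := Group.isSolvable_of_comm fun a b => (IsMulCommutative.is_comm).comm a b
  refine Group.isSolvable_of_isSolvable_injective (f := MonoidHom.transferSylow P hN) ?_
  rw [← MonoidHom.ker_eq_bot_iff]
  exact hKbot

theorem u_ne_one : C.u ≠ 1 := fun h => C.y_ne_one (by
  have := (C.y_pow_eq_one_iff 1).2 (by rw [pow_one, h])
  rwa [pow_one] at this)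

theorem one_lt_order : 1 < orderOf C.y := by
  have := orderOf_pos C.y
  have h1 : orderOf C.y ≠ 1 := fun h => C.y_ne_one (orderOf_eq_one_iff.1 h)
  omega

theorem card_normalizer :
    Nat.card (Subgroup.normalizer (Subgroup.zpowers C.x : Set G)) = p * orderOf C.y := by
  classical
  haveI : NeZero p := ⟨hp.out.ne_zero⟩
  have hle : Subgroup.zpowers C.y ≤ Subgroup.normalizer (Subgroup.zpowers C.x : Set G) :=
    C.hsup ▸ le_sup_right
  let f : ZMod p × Fin (orderOf C.y) → Subgroup.normalizer (Subgroup.zpowers C.x : Set G) := fun q =>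
    ⟨C.X q.1 * C.y ^ q.2.val, mul_mem (Subgroup.le_normalizer (C.X_mem _))
      (hle (Subgroup.pow_mem _ (Subgroup.mem_zpowers _) _))⟩
  have hb : Function.Bijective f := by
    constructor
    · rintro ⟨i, n⟩ ⟨j, l⟩ h
      have h' : C.X i * C.y ^ n.val = C.X j * C.y ^ l.val := congrArg Subtype.val h
      have hij : i = j := by
        have := congrArg (· • C.ω) h'
        simp only [mul_smul, C.y_pow_ω] at this
        exact C.X_smul_ω_injective this
      subst hij
      exact Prod.ext rfl (Fin.ext (pow_injOn_Iio_orderOf n.isLt l.isLt (mul_left_cancel h')))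
    · rintro ⟨g, hg⟩
      obtain ⟨i, n, rfl⟩ := C.exists_eq_of_mem hg
      exact ⟨(i, ⟨n % orderOf C.y, Nat.mod_lt _ (orderOf_pos _)⟩), Subtype.ext (by
        show C.X i * C.y ^ (n % orderOf C.y) = _
        rw [pow_mod_orderOf])⟩
  rw [← Nat.card_congr (Equiv.ofBijective f hb), Nat.card_prod, Nat.card_zmod, Nat.card_fin]

/-- `X i * y ^ n` is conjugate to `y ^ n` when `y ^ n ≠ 1`. -/
theorem conj_section (i : ZMod p) {n : ℕ} (hn : C.y ^ n ≠ 1) : IsConj (C.y ^ n) (C.X i * C.y ^ n) := by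
  have hu : (1 : ZMod p) - C.u ^ n ≠ 0 := sub_ne_zero.2 fun h => hn ((C.y_pow_eq_one_iff n).2 h.symm)
  set j := i / (1 - C.u ^ n) with hj
  rw [isConj_iff]
  refine ⟨C.X j, ?_⟩
  have h := C.y_pow_conj n (-j)
  have hinv : (C.X j)⁻¹ = C.X (-j) := inv_eq_of_mul_eq_one_right (by rw [← C.X_add, add_neg_cancel, C.X_zero])
  rw [hinv, mul_assoc, show C.y ^ n * C.X (-j) = C.X (C.u ^ n * -j) * C.y ^ n by rw [← h]; group,
    ← mul_assoc, ← C.X_add, show j + C.u ^ n * -j = i by rw [hj]; field_simp; ring]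

end Ctx

end CfsgLib.Perm.UniqueP
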