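/-
Prime degree with a unique character of degree `p` and a trivial intersection complement: the frame.
-/
import Cfsg.Agent.Lib.Perm.UniqueP.Setup
import Cfsg.Prelude.Def_Blocks

set_option autoImplicit false
set_option linter.unusedSectionVars false

namespace CfsgLib.Perm.UniqueP

open MulAction

variable {α : Type*} [Fintype α] [DecidableEq α] {p : ℕ} [hp : Fact p.Prime]
  {G : Subgroup (Equiv.Perm α)}

/-- The hypotheses of the theorem in coordinates. -/
structure Hyp (G : Subgroup (Equiv.Perm α)) (p : ℕ) [Fact p.Prime] extends Ctx G p where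
  hNE : Nat.card (Subgroup.normalizer (Subgroup.zpowers y : Set G)) = 2 * orderOf y
  hTI : ∀ g : G, g ∉ Subgroup.normalizer (Subgroup.zpowers y : Set G) →
    Subgroup.zpowers y ⊓ (Subgroup.zpowers y).map (MulAut.conj g).toMonoidHom = ⊥
  huniq : ∃! χ : Cfsg.IrrCharacter G, Cfsg.charDegree (χ : G → ℂ) = p

namespace Hyp

variable (H : Hyp G p)

include H

/-- The order of the complement. -/
noncomputable def e : ℕ := orderOf H.y

/-- The normalizer of the complement. -/
def N : Subgroup G := Subgroup.normalizer (Subgroup.zpowers H.y : Set G)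

theorem card_N : Nat.card H.N = 2 * H.e := H.hNE

theorem one_lt_e : 1 < H.e := H.toCtx.one_lt_order

theorem e_dvd : H.e ∣ p - 1 := H.toCtx.orderOf_dvd

theorem e_le : H.e ≤ p - 1 :=
  Nat.le_of_dvd (by have := hp.out.two_le; omega) H.e_dvd

theorem E_le_N : H.toCtx.E ≤ H.N := Subgroup.le_normalizer

theorem card_E : Nat.card H.toCtx.E = H.e := Nat.card_zpowers H.y

theorem card_eq_index_mul : 2 * H.e ∣ Nat.card G :=
  H.card_N ▸ Subgroup.card_subgroup_dvd_card H.N

theorem five_le : 5 ≤ p := by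
  have h1 := H.one_lt_e
  have h2 := H.e_le
  by_contra hlt
  have h3 : p = 3 := by
    have := hp.out.two_le
    rcases eq_or_ne p 4 with h | h
    · exact absurd (h ▸ hp.out) (by decide)
    · omega
  subst h3
  have h4 : H.e = 2 := by omega
  have h5 := H.card_eq_index_mul
  have h6 : Nat.card G ∣ Nat.card (Equiv.Perm α) := Subgroup.card_subgroup_dvd_card G
  rw [Nat.card_perm, Nat.card_eq_fintype_card (α := α), H.hα] at h6
  rw [h4] at h5
  have h7 := h5.trans h6
  norm_num [Nat.factorial] at h7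

theorem p_odd : p % 2 = 1 :=
  hp.out.eq_two_or_odd.resolve_left (by have := H.five_le; omega)

theorem not_dvd_N : ¬ p ∣ Nat.card H.N := by
  rw [H.card_N]
  intro h
  rcases hp.out.dvd_mul.1 h with h | h
  · have := Nat.le_of_dvd two_pos h; have := H.five_le; omega
  · have := Nat.le_of_dvd (by have := H.one_lt_e; omega) h
    have := H.e_le; have := hp.out.two_le; omega

theorem not_dvd_orderOf {g : G} (hg : g ∈ H.N) : ¬ p ∣ orderOf g := fun h =>
  H.not_dvd_N (h.trans (Subgroup.orderOf_dvd_natCard H.N hg))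

/-- Fusion in the complement is controlled by its normalizer. -/
theorem mem_N_of_conj {h k : G} (hh : h ∈ H.toCtx.E) (h1 : h ≠ 1) (hk : k * h * k⁻¹ ∈ H.toCtx.E) :
    k ∈ H.N := by
  by_contra hk'
  have h2 : k * h * k⁻¹ ∈ Subgroup.zpowers H.y ⊓ (Subgroup.zpowers H.y).map (MulAut.conj k).toMonoidHom :=
    ⟨hk, ⟨h, hh, by simp⟩⟩
  rw [H.hTI k hk', Subgroup.mem_bot, conj_eq_one_iff] at h2
  exact h1 h2

theorem mem_N_of_commute {h g : G} (hh : h ∈ H.toCtx.E) (h1 : h ≠ 1) (hg : Commute g h) : g ∈ H.N :=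
  H.mem_N_of_conj hh h1 (by rw [hg.eq, mul_inv_cancel_right]; exact hh)

theorem index_two : (H.toCtx.E.subgroupOf H.N).index = 2 := by
  have h := (H.toCtx.E.subgroupOf H.N).card_mul_index
  rw [Nat.card_congr (Subgroup.subgroupOfEquivOfLe H.E_le_N).toEquiv, H.card_E, H.card_N, mul_comm 2] at h
  exact Nat.eq_of_mul_eq_mul_left (by have := H.one_lt_e; omega) h

theorem mul_mem_E {a b : G} (ha : a ∈ H.N) (hb : b ∈ H.N) (ha' : a ∉ H.toCtx.E) (hb' : b ∉ H.toCtx.E) :
    a * b ∈ H.toCtx.E := by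
  have := (Subgroup.mul_mem_iff_of_index_two H.index_two (a := ⟨a, ha⟩) (b := ⟨b, hb⟩))
  simp only [Subgroup.mem_subgroupOf, Subgroup.coe_mul] at this
  exact this.2 ⟨fun h => absurd h ha', fun h => absurd h hb'⟩

theorem exists_outside : ∃ t ∈ H.N, t ∉ H.toCtx.E := by
  by_contra h
  push Not at h
  have := Subgroup.card_le_of_le (show H.N ≤ H.toCtx.E from h)
  rw [H.card_N, H.card_E] at this
  have := H.one_lt_e
  omega

theorem exists_conj_exp {g : G} (hg : g ∈ H.N) :
    ∃ r : ℕ, ∀ n : ℕ, g * H.y ^ n * g⁻¹ = H.y ^ (r * n) := by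
  obtain ⟨r, hr⟩ := H.toCtx.exists_pow_of_mem ((Subgroup.mem_normalizer_iff.1 hg H.y).1 H.toCtx.y_mem)
  exact ⟨r, fun n => by rw [← conj_pow, ← hr, ← pow_mul]⟩

theorem centralizes_E {g : G} (hg : g ∈ H.toCtx.E) {h : G} (hh : h ∈ H.toCtx.E) : Commute g h := by
  obtain ⟨a, rfl⟩ := H.toCtx.exists_pow_of_mem hg
  obtain ⟨b, rfl⟩ := H.toCtx.exists_pow_of_mem hh
  exact Commute.pow_pow_self H.y a b

/-- Two elements outside act in the same way. -/
theorem conj_eq_conj {a b : G} (ha : a ∈ H.N) (hb : b ∈ H.N) (ha' : a ∉ H.toCtx.E) (hb' : b ∉ H.toCtx.E)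
    {h : G} (hh : h ∈ H.toCtx.E) : a * h * a⁻¹ = b * h * b⁻¹ := by
  have hm : b⁻¹ * a ∈ H.toCtx.E :=
    H.mul_mem_E (inv_mem hb) ha (fun h => hb' (by simpa using inv_mem h)) ha'
  have hc := (H.centralizes_E hm hh).eq
  calc a * h * a⁻¹ = b * (b⁻¹ * a * h) * a⁻¹ := by group
    _ = b * (h * (b⁻¹ * a)) * a⁻¹ := by rw [hc]
    _ = b * h * b⁻¹ := by group

end Hyp

end CfsgLib.Perm.UniqueP
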