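/-
Prime degree: the character of degree `p`, perfectness and simplicity.
-/
import Cfsg.Agent.Lib.Perm.UniqueP.Frame
import Cfsg.Agent.Lib.Char.CliffordOdd
import Cfsg.Agent.Lib.Char.InvariantAbove
import Cfsg.Agent.Lib.Char.DefectZero
import Cfsg.Agent.Lib.Block.Defect
import Mathlib.GroupTheory.FiniteAbelian.Duality
import Mathlib.Analysis.Complex.Polynomial.Basic
import Mathlib.RingTheory.RootsOfUnity.AlgebraicallyClosed

set_option autoImplicit false
set_option linter.unusedSectionVars false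

namespace CfsgLib.Perm.UniqueP.Hyp

open MulAction Cfsg CfsgLib.Char
open scoped ComplexConjugate

variable {α : Type*} [Fintype α] [DecidableEq α] {p : ℕ} [hp : Fact p.Prime]
  {G : Subgroup (Equiv.Perm α)} (H : Hyp G p)

include H

/-- The character of degree `p`. -/
noncomputable def θ : IrrCharacter G := H.huniq.choose

theorem θ_degree : charDegree (H.θ : G → ℂ) = p := H.huniq.choose_spec.1

theorem θ_one : (H.θ : G → ℂ) 1 = (p : ℂ) := by
  rw [(Block.charDegree_eq H.θ).1, H.θ_degree]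

theorem eq_θ {χ : IrrCharacter G} (h : charDegree (χ : G → ℂ) = p) : χ = H.θ := H.huniq.choose_spec.2 χ h

theorem θ_singular {g : G} (hg : p ∣ orderOf g) : (H.θ : G → ℂ) g = 0 :=
  haveI := Fintype.ofFinite G
  char_defect_zero_vanishes H.θ (n := 1) (d := p) (by rw [pow_one]; exact hg.trans (orderOf_dvd_natCard g))
    H.hsyl H.θ_one (by rw [pow_one]) hg

theorem θ_real (g : G) : conj ((H.θ : G → ℂ) g) = (H.θ : G → ℂ) g := by
  haveI := Fintype.ofFinite G
  have h := H.eq_θ (χ := ⟨_, isIrrCharacter_conj H.θ.2⟩) (by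
    show charDegree (fun g => conj ((H.θ : G → ℂ) g)) = p
    simp only [charDegree, H.θ_one, Complex.conj_natCast, Complex.natCast_re, Nat.floor_natCast])
  exact congrFun (congrArg Subtype.val h) g

/-- On the complement the character of degree `p` is a linear character. -/
theorem exists_θ_pow : ∃ c : ℂ, c ^ H.e = 1 ∧ ∀ n : ℕ, H.y ^ n ≠ 1 → (H.θ : G → ℂ) (H.y ^ n) = c ^ n := by
  classical
  haveI : NeZero p := ⟨hp.out.ne_zero⟩
  haveI := Fintype.ofFinite G
  obtain ⟨d, ρ, -, hρ⟩ := H.θ.2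
  set C := H.toCtx
  let P0 : (Fin d → ℂ) →ₗ[ℂ] (Fin d → ℂ) := (p : ℂ)⁻¹ • ∑ i : ZMod p, ρ (C.X i)
  have hp0 : (p : ℂ) ≠ 0 := Nat.cast_ne_zero.2 hp.out.ne_zero
  have hfix : ∀ j, ρ (C.X j) * P0 = P0 := by
    intro j
    simp only [P0, mul_smul_comm, Finset.mul_sum, ← map_mul, ← C.X_add]
    congr 1
    exact Fintype.sum_equiv (Equiv.addLeft j) _ _ fun i => rfl
  have hidem : P0 * P0 = P0 := by
    conv_lhs => arg 1; simp only [P0]
    rw [smul_mul_assoc, Finset.sum_mul, Finset.sum_congr rfl fun i _ => hfix i, Finset.sum_const,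
      Finset.card_univ, ZMod.card, ← Nat.cast_smul_eq_nsmul ℂ, smul_smul, inv_mul_cancel₀ hp0, one_smul]
  have htrace : ∀ g : G, LinearMap.trace ℂ _ (ρ g * P0) = (p : ℂ)⁻¹ * ∑ i, (H.θ : G → ℂ) (g * C.X i) := by
    intro g
    simp only [P0, mul_smul_comm, map_smul, smul_eq_mul, Finset.mul_sum, map_sum, ← map_mul, ← hρ,
      Representation.character]
  have hX : ∀ i : ZMod p, i ≠ 0 → (H.θ : G → ℂ) (C.X i) = 0 := fun i hi => by
    refine H.θ_singular ((fun h : orderOf (C.X i) = p => h.symm.dvd) ?_)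
    have hd : orderOf (C.X i) ∣ p := (orderOf_pow_dvd _).trans C.hx.dvd
    refine ((Nat.dvd_prime hp.out).1 hd).resolve_left fun h => hi ?_
    rw [orderOf_eq_one_iff, Ctx.X, ← orderOf_dvd_iff_pow_eq_one, C.hx] at h
    exact (ZMod.val_eq_zero i).1 (Nat.eq_zero_of_dvd_of_lt h (ZMod.val_lt i))
  have hrank : LinearMap.trace ℂ _ P0 = 1 := by
    have h := htrace 1
    rw [map_one, one_mul] at h
    rw [h, Finset.sum_eq_single (0 : ZMod p) (fun i _ hi => by rw [one_mul]; exact hX i hi) (by simp),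
      C.X_zero, one_mul, H.θ_one, inv_mul_cancel₀ hp0]
  have hproj := (LinearMap.isProj_range_iff_isIdempotentElem P0).mpr hidem
  have hd1 : Module.finrank ℂ (LinearMap.range P0) = 1 := by
    rw [hproj.trace] at hrank
    exact_mod_cast hrank
  obtain ⟨⟨v, hv⟩, hv0, hspan⟩ := finrank_eq_one_iff'.mp hd1
  have hv0' : v ≠ 0 := fun e => hv0 (Subtype.ext e)
  have hcomm : ρ H.y * P0 = P0 * ρ H.y := by
    simp only [P0, mul_smul_comm, smul_mul_assoc, Finset.mul_sum, Finset.sum_mul, ← map_mul]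
    congr 1
    refine Fintype.sum_equiv (Equiv.mulLeft₀ C.u C.u_ne_zero) _ _ fun i => ?_
    show _ = ρ (C.X (C.u * i) * H.y)
    rw [← C.y_conj, inv_mul_cancel_right]
  have hvP : P0 v = v := hproj.map_id v hv
  obtain ⟨c, hc⟩ : ∃ c : ℂ, ρ H.y v = c • v := by
    have hm : ρ H.y v ∈ LinearMap.range P0 := ⟨ρ H.y v, by
      rw [← Module.End.mul_apply, ← hcomm, Module.End.mul_apply, hvP]⟩
    obtain ⟨c, hc⟩ := hspan ⟨_, hm⟩
    exact ⟨c, (congrArg Subtype.val hc).symm⟩
  have hcn : ∀ n : ℕ, ρ (H.y ^ n) v = c ^ n • v := by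
    intro n
    induction n with
    | zero => simp
    | succ n ih => rw [pow_succ', map_mul, Module.End.mul_apply, ih, map_smul, hc, smul_smul, pow_succ]
  have hce : c ^ H.e = 1 := by
    have h := hcn H.e
    rw [e, pow_orderOf_eq_one, map_one, Module.End.one_apply] at h
    have h' : (c ^ H.e - 1) • v = 0 := by rw [sub_smul, one_smul, e, ← h, sub_self]
    exact sub_eq_zero.1 ((smul_eq_zero.1 h').resolve_right hv0')
  refine ⟨c, hce, fun n hn => ?_⟩
  have hT : ρ (H.y ^ n) * P0 = c ^ n • P0 := by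
    refine LinearMap.ext fun w => ?_
    obtain ⟨a, ha⟩ := hspan ⟨P0 w, LinearMap.mem_range_self P0 w⟩
    have ha' : a • v = P0 w := congrArg Subtype.val ha
    clear_value P0
    rw [Module.End.mul_apply, LinearMap.smul_apply, ← ha', map_smul, hcn, smul_comm]
  have h := htrace (H.y ^ n)
  rw [hT, map_smul, hrank, smul_eq_mul, mul_one] at h
  rw [h, Finset.sum_congr rfl (g := fun _ => (H.θ : G → ℂ) (H.y ^ n)) fun i _ => ?_, Finset.sum_const,
    Finset.card_univ, ZMod.card, nsmul_eq_mul, ← mul_assoc, inv_mul_cancel₀ hp0, one_mul]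
  have e1 : H.y ^ n * C.X i = C.X (C.u ^ n * i) * H.y ^ n := by
    rw [← C.y_pow_conj n i]
    exact (inv_mul_cancel_right _ _).symm
  obtain ⟨w, hw⟩ := isConj_iff.1 (C.conj_section (C.u ^ n * i) hn)
  rw [e1, ← hw]
  exact isClassFunction_irr H.θ (H.y ^ n) w

/-- The value on the generator. -/
theorem θ_y_ne_zero : (H.θ : G → ℂ) H.y ≠ 0 := by
  obtain ⟨c, hc, h⟩ := H.exists_θ_pow
  have := h 1 (by rw [pow_one]; exact H.toCtx.y_ne_one)
  rw [pow_one, pow_one] at this
  rw [this]
  intro h0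
  rw [h0, zero_pow (by have := H.one_lt_e; omega)] at hc
  exact zero_ne_one hc

theorem normal_cases (K : Subgroup G) [K.Normal] : K = ⊥ ∨ H.x ∈ K := by
  classical
  by_contra hcon
  push Not at hcon
  obtain ⟨hne, hxK⟩ := hcon
  obtain ⟨k, hk, hk1⟩ := (Subgroup.bot_or_exists_ne_one K).resolve_left hne
  obtain ⟨a, ha⟩ : ∃ a : α, k • a ≠ a := by
    by_contra hall
    push Not at hall
    exact hk1 (Subtype.ext (Equiv.ext hall))
  haveI : IsPretransitive G α := TwoP.transitive_of_order H.hα H.hx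
  have hd : ∀ b : α, Nat.card (orbit K b) = Nat.card (orbit K a) := by
    intro b
    obtain ⟨g, rfl⟩ := exists_smul_eq G a b
    refine Nat.card_congr (Equiv.symm ?_)
    refine (Equiv.subtypeEquiv (MulAction.toPerm g) fun c => ?_)
    constructor
    · rintro ⟨⟨l, hl⟩, rfl⟩
      exact ⟨⟨g * l * g⁻¹, (inferInstance : K.Normal).conj_mem l hl g⟩, by
        show (g * l * g⁻¹) • g • a = g • l • a
        rw [← mul_smul, inv_mul_cancel_right, mul_smul]⟩
    · rintro ⟨⟨l, hl⟩, hlc⟩
      refine ⟨⟨g⁻¹ * l * g, by simpa using (inferInstance : K.Normal).conj_mem l hl g⁻¹⟩, ?_⟩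
      show (g⁻¹ * l * g) • a = c
      have hlc' : l • g • a = g • c := hlc
      rw [mul_smul, mul_smul, hlc', inv_smul_smul]
  have hsum : Fintype.card α = Nat.card (Quotient (orbitRel K α)) * Nat.card (orbit K a) := by
    rw [← Nat.card_eq_fintype_card, Nat.card_congr (MulAction.selfEquivSigmaOrbits K α), Nat.card_sigma,
      Finset.sum_congr rfl fun q _ => hd q.out, Finset.sum_const, Finset.card_univ, smul_eq_mul,
      ← Nat.card_eq_fintype_card]
  rw [H.hα] at hsum
  have h1 : Nat.card (orbit K a) ≠ 1 := fun h1 => by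
    haveI : Subsingleton (orbit K a) := (Nat.card_eq_one_iff_unique.1 h1).1
    exact ha (congrArg Subtype.val
      (Subsingleton.elim (⟨k • a, ⟨⟨k, hk⟩, rfl⟩⟩ : orbit K a) ⟨a, mem_orbit_self a⟩))
  have h2 : Nat.card (orbit K a) = p :=
    ((Nat.dvd_prime hp.out).1 ⟨_, hsum.trans (mul_comm _ _)⟩).resolve_left h1
  have h3 := Nat.card_congr (MulAction.orbitProdStabilizerEquivGroup K a)
  rw [Nat.card_prod, h2] at h3
  obtain ⟨z, hz⟩ := exists_prime_orderOf_dvd_card' (G := K) p ⟨_, h3.symm⟩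
  -- both generate Sylow subgroups, which are conjugate
  obtain ⟨P, hP⟩ := H.toCtx.isSylow
  have hzc : Nat.card (Subgroup.zpowers (z : G)) = Nat.card (P : Subgroup G) := by
    rw [hP, Nat.card_zpowers, Nat.card_zpowers, Subgroup.orderOf_coe, hz, H.hx]
  let Q : Sylow p G := Sylow.ofCard (Subgroup.zpowers (z : G)) (hzc.trans P.card_eq_multiplicity)
  obtain ⟨g, hg⟩ := MulAction.exists_smul_eq G Q P
  have hQK : (Q : Subgroup G) ≤ K := Subgroup.zpowers_le.2 z.2
  have hxP : H.x ∈ (P : Subgroup G) := hP ▸ Subgroup.mem_zpowers H.x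
  rw [← hg, Sylow.coe_subgroup_smul] at hxP
  obtain ⟨w, hw, hwx⟩ := (Subgroup.mem_smul_pointwise_iff_exists _ _ _).1 hxP
  refine hxK (hwx ▸ ?_)
  exact (inferInstance : K.Normal).conj_mem w (hQK hw) g

theorem eq_top_of_mem (K : Subgroup G) [hK : K.Normal] (hx : H.x ∈ K) (hy : H.y ∈ K) : K = ⊤ := by
  obtain ⟨P, hP⟩ := H.toCtx.isSylow
  have hPK : (P : Subgroup G) ≤ K := by rw [hP]; exact Subgroup.zpowers_le.2 hx
  have hN : Subgroup.normalizer ((P : Subgroup G) : Set G) ≤ K := by
    rw [hP, ← H.hsup]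
    exact sup_le (Subgroup.zpowers_le.2 hx) (Subgroup.zpowers_le.2 hy)
  have h := Sylow.normalizer_sup_eq_top (P.subtype hPK)
  rw [Sylow.coe_subtype, Subgroup.map_subgroupOf_eq_of_le hPK] at h
  rw [eq_top_iff, ← h]
  exact sup_le hN le_rfl

theorem perfect : commutator G = ⊤ := by
  have hx : H.x ∈ commutator G := by
    refine (H.normal_cases (commutator G)).resolve_left fun h => H.hins ?_
    exact Group.isSolvable_of_comm fun a b => by
      have := Subgroup.commutator_mem_commutator (Subgroup.mem_top a) (Subgroup.mem_top b)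
      rw [← commutator_def, h, Subgroup.mem_bot, commutatorElement_eq_one_iff_mul_comm] at this
      exact this
  refine H.eq_top_of_mem _ hx ?_
  haveI := Fintype.ofFinite G
  by_contra hy
  have hne : (Abelianization.of H.y : Abelianization G) ≠ 1 := fun h => hy (by
    rwa [← MonoidHom.mem_ker, Abelianization.ker_of] at h)
  haveI : NeZero (Monoid.exponent (Abelianization G)) := ⟨Monoid.exponent_ne_zero_of_finite⟩
  obtain ⟨φ, hφ⟩ := CommGroup.exists_apply_ne_one_of_hasEnoughRootsOfUnity (Abelianization G) ℂ hne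
  have h := H.eq_θ (χ := ⟨_, isIrrCharacter_mul_linear H.θ (φ.comp Abelianization.of)⟩) (by
    show charDegree (fun g => ((φ.comp Abelianization.of) g : ℂ) * (H.θ : G → ℂ) g) = p
    simp only [charDegree, map_one, Units.val_one, one_mul, H.θ_one, Complex.natCast_re,
      Nat.floor_natCast])
  have h2 := congrFun (congrArg Subtype.val h) H.y
  refine hφ (Units.ext ?_)
  exact (mul_eq_right₀ H.θ_y_ne_zero).1 h2

theorem isSimple : IsSimpleGroup G := by
  haveI : Nontrivial G := ⟨⟨H.x, 1, H.toCtx.x_ne_one⟩⟩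
  refine ⟨fun K hK => ?_⟩
  rcases H.normal_cases K with h | hx
  · exact .inl h
  right
  have hN : Subgroup.normalizer (Subgroup.zpowers H.x : Set G) ⊔ K = ⊤ := by
    obtain ⟨P, hP⟩ := H.toCtx.isSylow
    have hPK : (P : Subgroup G) ≤ K := by rw [hP]; exact Subgroup.zpowers_le.2 hx
    have h := Sylow.normalizer_sup_eq_top (P.subtype hPK)
    rwa [Sylow.coe_subtype, Subgroup.map_subgroupOf_eq_of_le hPK, hP] at h
  have hEK : Subgroup.zpowers H.y ⊔ K = ⊤ := by
    rw [eq_top_iff, ← hN, ← H.hsup]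
    exact sup_le (sup_le (le_sup_of_le_right (Subgroup.zpowers_le.2 hx)) le_sup_left) le_sup_right
  have hcomm : commutator G ≤ K := by
    rw [commutator_def, Subgroup.commutator_le]
    intro a _ b _
    rw [← QuotientGroup.eq_one_iff]
    have hgen : ∀ g : G, (g : G ⧸ K) ∈ Subgroup.zpowers (H.y : G ⧸ K) := by
      intro g
      have hg : g ∈ Subgroup.zpowers H.y ⊔ K := hEK ▸ Subgroup.mem_top g
      rw [Subgroup.mem_sup_of_normal_right] at hg
      obtain ⟨u, hu, k, hk, rfl⟩ := hg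
      obtain ⟨n, rfl⟩ := Subgroup.mem_zpowers_iff.1 hu
      exact ⟨n, by simp [(QuotientGroup.eq_one_iff k).2 hk]⟩
    obtain ⟨i, hi⟩ := hgen a
    obtain ⟨j, hj⟩ := hgen b
    show ((a * b * a⁻¹ * b⁻¹ : G) : G ⧸ K) = 1
    simp only [QuotientGroup.mk_mul, QuotientGroup.mk_inv, ← hi, ← hj]
    group
  rw [H.perfect] at hcomm
  exact eq_top_iff.2 hcomm

theorem hom_trivial {A : Type*} [CommGroup A] (f : G →* A) (g : G) : f g = 1 := by
  have h := Abelianization.commutator_subset_ker f
  rw [H.perfect, top_le_iff] at h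
  exact MonoidHom.mem_ker.1 (h ▸ Subgroup.mem_top g)

/-- Even permutations only: the complement has index at least two. -/
theorem two_e_le : 2 * H.e ≤ p - 1 := by
  classical
  haveI : NeZero p := ⟨hp.out.ne_zero⟩
  obtain ⟨k, hk⟩ := H.e_dvd
  rcases Nat.lt_or_ge k 2 with h | h
  swap
  · calc 2 * H.e = H.e * 2 := mul_comm _ _
      _ ≤ H.e * k := Nat.mul_le_mul_left _ h
      _ = p - 1 := hk.symm
  exfalso
  interval_cases k
  · have := H.five_le; omega
  rw [mul_one] at hk
  have hs : Equiv.Perm.sign (H.y : Equiv.Perm α) = 1 :=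
    H.hom_trivial (Equiv.Perm.sign.comp G.subtype) H.y
  set C := H.toCtx
  have hsupp : (H.y : Equiv.Perm α).support = Finset.univ.erase C.ω := by
    ext a
    obtain ⟨i, rfl⟩ := C.pt.surjective a
    rw [Equiv.Perm.mem_support, Finset.mem_erase]
    have h1 : (H.y : Equiv.Perm α) (C.pt i) = C.pt (C.u * i) := by
      have := C.y_smul_pt 1 i
      rwa [pow_one, pow_one] at this
    have hω : C.ω = C.pt 0 := by rw [C.pt_apply, C.X_zero, one_smul]
    rw [h1, hω]
    simp only [ne_eq, EmbeddingLike.apply_eq_iff_eq, Finset.mem_univ, and_true]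
    constructor
    · rintro h rfl; exact h (mul_zero _)
    · exact fun h h' => C.u_ne_one ((mul_eq_right₀ h).1 h')
  have hcyc : (H.y : Equiv.Perm α).IsCycle := by
    refine ⟨C.pt 1, ?_, fun b hb => ?_⟩
    · rw [← Equiv.Perm.mem_support, hsupp, Finset.mem_erase]
      refine ⟨fun h => ?_, Finset.mem_univ _⟩
      rw [show C.ω = C.pt 0 by rw [C.pt_apply, C.X_zero, one_smul]] at h
      exact one_ne_zero (C.pt.injective h)
    obtain ⟨i, rfl⟩ := C.pt.surjective b
    rw [← Equiv.Perm.mem_support, hsupp, Finset.mem_erase] at hb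
    have hi : i ≠ 0 := fun h => hb.1 (by rw [h, C.pt_apply, C.X_zero, one_smul])
    -- the powers of `u` fill the non-zero residues
    have hmem : (Units.mk0 i hi) ∈ Subgroup.zpowers (Units.mk0 C.u C.u_ne_zero) := by
      have hc : Nat.card (Subgroup.zpowers (Units.mk0 C.u C.u_ne_zero)) = Nat.card (ZMod p)ˣ := by
        rw [Nat.card_zpowers, ← orderOf_units, Units.val_mk0, ← C.orderOf_y, Nat.card_eq_fintype_card,
          ZMod.card_units]
        exact hk.symm
      rw [(Subgroup.eq_top_of_card_eq _ hc : Subgroup.zpowers (Units.mk0 C.u C.u_ne_zero) = ⊤)]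
      trivial
    obtain ⟨n, hn⟩ := (mem_powers_iff_mem_zpowers).mpr hmem
    refine ⟨n, ?_⟩
    have := C.y_smul_pt n 1
    rw [mul_one] at this
    rw [zpow_natCast, ← Subgroup.coe_pow]
    show H.y ^ n • C.pt 1 = C.pt i
    rw [this]
    congr 1
    have := congrArg Units.val hn
    simpa using this
  rw [hcyc.sign, hsupp, Finset.card_erase_of_mem (Finset.mem_univ _), Finset.card_univ, C.hα] at hs
  have hodd : Even (p - 1) := ⟨(p - 1) / 2, by have := H.p_odd; omega⟩
  rw [hodd.neg_one_pow] at hs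
  exact absurd hs (by decide)

/-- The value on the complement. -/
theorem θ_pow (hcase : Odd H.e ∨ 2 * H.e = p - 1) (n : ℕ) (hn : H.y ^ n ≠ 1) :
    (H.θ : G → ℂ) (H.y ^ n) = 1 := by
  classical
  obtain ⟨c, hce, hc⟩ := H.exists_θ_pow
  have he0 : H.e ≠ 0 := by have := H.one_lt_e; omega
  have hc1 : (H.θ : G → ℂ) H.y = c := by
    have := hc 1 (by rw [pow_one]; exact H.toCtx.y_ne_one)
    rwa [pow_one, pow_one] at this
  have hsq : c * c = 1 := by
    have hr := H.θ_real H.y
    rw [hc1] at hr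
    have hn1 := Complex.norm_eq_one_of_pow_eq_one hce he0
    have := Complex.mul_conj' c
    rw [hr, hn1] at this
    simpa using this
  suffices hone : c = 1 by rw [hc n hn, hone, one_pow]
  rcases hcase with ho | hm
  · obtain ⟨k, hk⟩ := ho
    rw [hk, pow_succ, pow_mul, show c ^ 2 = c * c from sq c, hsq, one_pow, one_mul] at hce
    exact hce
  -- the determinant
  haveI := Fintype.ofFinite G
  obtain ⟨d, ρ, -, hρ⟩ := H.θ.2
  obtain ⟨b, μ, hμ, hb, htr⟩ := exists_eigen_data ρ H.y
  have hdet : ∏ i, μ i = 1 := by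
    have h1 : ((LinearMap.det.comp ρ).toHomUnits H.y : ℂˣ) = 1 := H.hom_trivial _ H.y
    have h2 : LinearMap.det (ρ H.y) = 1 := by
      have := congrArg Units.val h1
      simpa using this
    rw [← LinearMap.det_toMatrix b] at h2
    rw [← h2, show LinearMap.toMatrix b b (ρ H.y) = Matrix.diagonal μ from ?_, Matrix.det_diagonal]
    ext i j
    have hj := hb 1 j
    rw [pow_one, pow_one] at hj
    rw [LinearMap.toMatrix_apply, hj, map_smul, Module.Basis.repr_self, Finsupp.smul_apply,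
      Finsupp.single_apply, Matrix.diagonal_apply]
    by_cases hij : i = j
    · subst hij; simp
    · rw [if_neg (Ne.symm hij), if_neg hij, smul_zero]
  have he : orderOf H.y = H.e := rfl
  -- multiplicities
  let R : Finset ℂ := (Polynomial.nthRoots H.e (1 : ℂ)).toFinset
  have hR : ∀ z, z ∈ R ↔ z ^ H.e = 1 := fun z => by
    simp [R, Polynomial.mem_nthRoots (Nat.pos_of_ne_zero he0)]
  have hmult : ∀ z ∈ R, ((Finset.univ.filter fun i => μ i = z).card) = 2 + if c = z then 1 else 0 := by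
    intro z hz
    have hz1 := (hR z).1 hz
    have hz0 : z ≠ 0 := fun h => by rw [h, zero_pow he0] at hz1; exact zero_ne_one hz1
    have geo : ∀ w : ℂ, w ^ H.e = 1 → ∑ k ∈ Finset.range H.e, w ^ k = if w = 1 then (H.e : ℂ) else 0 := by
      intro w hw
      by_cases h : w = 1
      · rw [if_pos h]; simp [h]
      · rw [if_neg h, geom_sum_eq h, hw, sub_self, zero_div]
    have e1 : ∑ k ∈ Finset.range H.e, ρ.character (H.y ^ k) * (z⁻¹) ^ k =
        (H.e : ℂ) * (Finset.univ.filter fun i => μ i = z).card := by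
      simp only [htr, Finset.sum_mul, ← mul_pow]
      rw [Finset.sum_comm, Finset.sum_congr rfl fun i _ => geo (μ i * z⁻¹) (by
        rw [mul_pow, inv_pow, hz1, inv_one, mul_one, ← he, hμ i])]
      rw [← Finset.sum_filter, Finset.sum_const, nsmul_eq_mul, mul_comm]
      congr 2
      exact congrArg Finset.card (Finset.filter_congr fun i _ => by rw [mul_inv_eq_one₀ hz0])
    have e2 : ∑ k ∈ Finset.range H.e, ρ.character (H.y ^ k) * (z⁻¹) ^ k =
        ((p : ℂ) - 1) + ∑ k ∈ Finset.range H.e, (c * z⁻¹) ^ k := by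
      rw [← Finset.add_sum_erase _ _ (Finset.mem_range.2 (Nat.pos_of_ne_zero he0)),
        ← Finset.add_sum_erase _ (fun k => (c * z⁻¹) ^ k) (Finset.mem_range.2 (Nat.pos_of_ne_zero he0)),
        Finset.sum_congr rfl (g := fun k => (c * z⁻¹) ^ k) fun k hk => ?_]
      · rw [pow_zero, pow_zero, pow_zero, hρ, H.θ_one, mul_one]
        ring
      · rw [Finset.mem_erase, Finset.mem_range] at hk
        rw [hρ, hc k fun h => by
          have := Nat.le_of_dvd (Nat.pos_of_ne_zero hk.1) (he ▸ orderOf_dvd_iff_pow_eq_one.2 h)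
          omega, mul_pow]
    rw [e2, geo (c * z⁻¹) (by rw [mul_pow, hce, inv_pow, hz1, inv_one, mul_one])] at e1
    simp only [mul_inv_eq_one₀ hz0] at e1
    have hp1 : ((p : ℂ) - 1) = 2 * (H.e : ℂ) := by
      have h' : p - 1 = 2 * H.e := hm.symm
      have h'' := congrArg (fun n : ℕ => (n : ℂ)) h'
      push_cast [Nat.cast_sub hp.out.one_le] at h''
      exact h''
    rw [hp1] at e1
    have he' : (H.e : ℂ) ≠ 0 := Nat.cast_ne_zero.2 he0
    have : ((Finset.univ.filter fun i => μ i = z).card : ℂ) = ((2 + if c = z then 1 else 0 : ℕ) : ℂ) := by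
      apply mul_left_cancel₀ he'
      rw [← e1]
      push_cast
      split_ifs <;> ring
    exact_mod_cast this
  have hcR : c ∈ R := (hR c).2 hce
  have hprodR : (∏ z ∈ R, z) ^ 2 = 1 := by
    rw [sq]
    nth_rewrite 2 [show ∏ z ∈ R, z = ∏ z ∈ R, z⁻¹ from Finset.prod_nbij' (fun z => z⁻¹) (fun z => z⁻¹)
      (fun z hz => (hR _).2 (by rw [inv_pow, (hR z).1 hz, inv_one]))
      (fun z hz => (hR _).2 (by rw [inv_pow, (hR z).1 hz, inv_one]))
      (fun z _ => inv_inv z) (fun z _ => inv_inv z) (fun z _ => (inv_inv z).symm)]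
    rw [← Finset.prod_mul_distrib]
    refine Finset.prod_eq_one fun z hz => mul_inv_cancel₀ fun h => ?_
    have := (hR z).1 hz
    rw [h, zero_pow he0] at this
    exact zero_ne_one this
  rw [← Finset.prod_fiberwise_of_maps_to (g := μ) (t := R) (fun i _ => (hR _).2 (he ▸ hμ i)),
    Finset.prod_congr rfl (g := fun z => z ^ 2 * if c = z then z else 1) fun z hz => ?_,
    Finset.prod_mul_distrib, Finset.prod_pow, hprodR, one_mul, Finset.prod_ite_eq, if_pos hcR] at hdet
  · exact hdet
  · rw [Finset.prod_congr rfl (g := fun _ => z) fun i hi => (Finset.mem_filter.1 hi).2, Finset.prod_const,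
      hmult z hz, pow_add]
    split_ifs <;> simp

end CfsgLib.Perm.UniqueP.Hyp
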