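/-
Prime degree with a trivial intersection complement: action of the normalizer of the complement.
-/
import Cfsg.Agent.Lib.Perm.UniqueP.Theta
import Cfsg.Agent.Lib.Fusion.Transfer

set_option autoImplicit false
set_option linter.unusedSectionVars false

namespace CfsgLib.Perm.UniqueP.Hyp

open MulAction

variable {α : Type*} [Fintype α] [DecidableEq α] {p : ℕ} [hp : Fact p.Prime]
  {G : Subgroup (Equiv.Perm α)} (H : Hyp G p)

include H

/-- No non-trivial Sylow subgroup of the normalizer is central in its own normalizer. -/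
theorem no_central_sylow {r : ℕ} [hr : Fact r.Prime] (R : Subgroup G) (hR : IsPGroup r R) (hne : R ≠ ⊥)
    (hRN : R ≤ H.N) (hmax : ∀ S : Subgroup G, IsPGroup r S → R ≤ S → S ≤ H.N → S = R)
    (hnorm : Subgroup.normalizer (R : Set G) ≤ H.N)
    (hcen : ∀ g ∈ H.N, g ∈ Subgroup.normalizer (R : Set G) → ∀ h ∈ R, Commute g h) : False := by
  classical
  obtain ⟨S, hRS⟩ := hR.exists_le_sylow
  have hSR : (S : Subgroup G) = R := by
    by_contra hne'
    have hlt : R.subgroupOf S < ⊤ := lt_top_iff_ne_top.2 fun h =>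
      hne' (le_antisymm (Subgroup.subgroupOf_eq_top.1 h) hRS)
    haveI : Group.IsNilpotent S := S.isPGroup'.isNilpotent
    have hn := normalizerCondition_of_isNilpotent (G := S) (R.subgroupOf S) hlt
    obtain ⟨g, hg, hgR⟩ := SetLike.exists_of_lt hn
    have hgN : (g : G) ∈ Subgroup.normalizer (R : Set G) := by
      rw [Subgroup.mem_normalizer_iff] at hg ⊢
      intro h
      constructor <;> intro hh
      · exact (hg ⟨h, hRS hh⟩).1 hh
      · have h1 : h ∈ (S : Subgroup G) := by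
          have := mul_mem (mul_mem (inv_mem g.2) (hRS hh)) g.2
          simpa [mul_assoc] using this
        exact (hg ⟨h, h1⟩).2 hh
    let T : Subgroup G := R ⊔ Subgroup.zpowers (g : G)
    have hTS : T ≤ S := sup_le hRS (Subgroup.zpowers_le.2 g.2)
    have hT : IsPGroup r T := S.isPGroup'.to_le hTS
    have h2 := hmax T hT le_sup_left (sup_le hRN (Subgroup.zpowers_le.2 (hnorm hgN)))
    exact hgR (h2 ▸ le_sup_right (a := R) (Subgroup.mem_zpowers (g : G)))
  have hc : Subgroup.normalizer ((S : Subgroup G) : Set G) ≤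
      Subgroup.centralizer ((S : Subgroup G) : Set G) := by
    rw [hSR]
    intro g hg
    rw [Subgroup.mem_centralizer_iff]
    exact fun h hh => (hcen g (hnorm hg) hg h hh).eq.symm
  obtain ⟨P, K, hK, hcomp⟩ := CfsgLib.Fusion.hasNormalPComplement_of_normalizer_le_centralizer S hc
  have hPne : (P : Subgroup G) ≠ ⊥ := by
    intro h
    have h1 := P.card_eq_multiplicity
    rw [← S.card_eq_multiplicity, h, Subgroup.card_bot, hSR] at h1
    exact hne (Subgroup.card_eq_one.1 h1.symm)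
  haveI := H.isSimple
  rcases IsSimpleGroup.eq_bot_or_eq_top_of_normal K hK with h | h
  · rw [h] at hcomp
    have hP : (P : Subgroup G) = ⊤ := Subgroup.isComplement'_bot_left.1 hcomp
    have hG : IsPGroup r G := (hP ▸ P.isPGroup' : IsPGroup r (⊤ : Subgroup G)).of_equiv Subgroup.topEquiv
    haveI := hG.isNilpotent
    exact H.hins inferInstance
  · rw [h] at hcomp
    exact hPne (Subgroup.isComplement'_top_left.1 hcomp)

/-- An element of odd order of the normalizer lies in the complement. -/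
theorem mem_E_of_odd {g : G} (hg : g ∈ H.N) (ho : Odd (orderOf g)) : g ∈ H.toCtx.E := by
  by_contra hgE
  have h2 := H.mul_mem_E hg hg hgE hgE
  obtain ⟨k, hk⟩ := ho
  have h1 : g = ((g * g) ^ k)⁻¹ := by
    rw [eq_inv_iff_mul_eq_one, ← pow_two, ← pow_mul, ← pow_succ', ← hk, pow_orderOf_eq_one]
  exact hgE (h1 ▸ inv_mem (pow_mem h2 k))

/-- A non-trivial subgroup of odd prime power order in the complement, maximal such, is not centralized
by the normalizer. -/
theorem odd_part_not_central {r : ℕ} [hr : Fact r.Prime] (hr2 : r ≠ 2) (hre : r ∣ H.e)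
    (hcen : ∀ g ∈ H.N, ∀ b ∈ H.toCtx.E, (∃ k, orderOf b = r ^ k) → Commute g b) : False := by
  classical
  obtain ⟨R⟩ : Nonempty (Sylow r H.N) := inferInstance
  let R' : Subgroup G := (R : Subgroup H.N).map H.N.subtype
  have hR' : IsPGroup r R' := R.isPGroup'.map _
  have hodd : ∀ b ∈ R', (∃ k, orderOf b = r ^ k) ∧ b ∈ H.toCtx.E := by
    intro b hb
    obtain ⟨k, hk⟩ := hR' ⟨b, hb⟩
    have hk' : b ^ r ^ k = 1 := congrArg Subtype.val hk
    obtain ⟨j, -, hj⟩ := (Nat.dvd_prime_pow hr.out).1 (orderOf_dvd_of_pow_eq_one hk')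
    refine ⟨⟨j, hj⟩, H.mem_E_of_odd (Subgroup.map_subtype_le _ hb) ?_⟩
    rw [hj]
    exact (hr.out.odd_of_ne_two hr2).pow
  have hne : R' ≠ ⊥ := by
    intro h
    have h1 : (R : Subgroup H.N) = ⊥ := (Subgroup.map_eq_bot_iff_of_injective _ H.N.subtype_injective).1 h
    have hd : r ∣ Nat.card H.N := H.card_N ▸ dvd_mul_of_dvd_right hre 2
    have h2 := R.dvd_card_of_dvd_card hd
    rw [h1, Subgroup.card_bot] at h2
    exact hr.out.ne_one (Nat.dvd_one.1 h2)
  refine H.no_central_sylow R' hR' hne (Subgroup.map_subtype_le _) ?_ ?_ ?_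
  · intro S hS hle hSN
    have h1 : (R : Subgroup H.N) ≤ S.subgroupOf H.N := fun b hb => hle ⟨b, hb, rfl⟩
    have h2 := R.is_maximal' (Q := S.subgroupOf H.N) (hS.of_equiv (Subgroup.subgroupOfEquivOfLe hSN).symm) h1
    rw [show R' = (R : Subgroup H.N).map H.N.subtype from rfl, ← h2, Subgroup.map_subgroupOf_eq_of_le hSN]
  · intro g hg
    obtain ⟨b, hb, hb1⟩ := (Subgroup.bot_or_exists_ne_one R').resolve_left hne
    exact H.mem_N_of_conj (hodd b hb).2 hb1 (hodd _ ((Subgroup.mem_normalizer_iff.1 hg b).1 hb)).2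
  · intro g hg _ b hb
    exact hcen g hg b (hodd b hb).2 (hodd b hb).1

/-- For odd order the complement is inverted. -/
theorem inverted (ho : Odd H.e) {g : G} (hg : g ∈ H.N) (hgE : g ∉ H.toCtx.E) {h : G}
    (hh : h ∈ H.toCtx.E) : g * h * g⁻¹ = h⁻¹ := by
  classical
  by_contra hne
  set a := h * (g * h * g⁻¹) with ha
  have ha1 : a ≠ 1 := fun e1 => hne (eq_inv_of_mul_eq_one_right e1)
  have hconjE : ∀ {b}, b ∈ H.toCtx.E → g * b * g⁻¹ ∈ H.toCtx.E := fun hb =>
    (Subgroup.mem_normalizer_iff.1 hg _).1 hb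
  have haE : a ∈ H.toCtx.E := mul_mem hh (hconjE hh)
  have hsq : ∀ {b}, b ∈ H.toCtx.E → g * (g * b * g⁻¹) * g⁻¹ = b := by
    intro b hb
    have h2 := (H.centralizes_E (H.mul_mem_E hg hg hgE hgE) hb).eq
    calc g * (g * b * g⁻¹) * g⁻¹ = g * g * b * (g * g)⁻¹ := by group
      _ = b := by rw [h2, mul_inv_cancel_right]
  have hafix : g * a * g⁻¹ = a := by
    have hc := (H.centralizes_E hh (hconjE hh)).eq
    calc g * a * g⁻¹ = g * h * g⁻¹ * (g * (g * h * g⁻¹) * g⁻¹) := by rw [ha]; group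
      _ = g * h * g⁻¹ * h := by rw [hsq hh]
      _ = a := hc.symm
  obtain ⟨r, hr, hra⟩ := Nat.exists_prime_and_dvd (show orderOf a ≠ 1 from fun e1 => ha1 (orderOf_eq_one_iff.1 e1))
  haveI : Fact r.Prime := ⟨hr⟩
  have hre : r ∣ H.e := hra.trans (H.card_E ▸ Subgroup.orderOf_dvd_natCard H.toCtx.E haE)
  have hr2 : r ≠ 2 := fun e2 => by
    subst e2
    obtain ⟨k, hk⟩ := ho
    omega
  set a' := a ^ (orderOf a / r) with ha'
  have ha'o : orderOf a' = r := orderOf_pow_orderOf_div (orderOf_pos a).ne' hra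
  have ha'E : a' ∈ H.toCtx.E := pow_mem haE _
  have ha'fix : g * a' * g⁻¹ = a' := by rw [ha', ← conj_pow, hafix]
  refine H.odd_part_not_central hr2 hre fun g' hg' b hb hbo => ?_
  by_cases hg'E : g' ∈ H.toCtx.E
  · exact H.centralizes_E hg'E hb
  rw [commute_iff_eq, ← mul_inv_eq_iff_eq_mul, H.conj_eq_conj hg' hg hg'E hgE hb]
  by_contra hbne
  set c := b * (g * b * g⁻¹)⁻¹ with hc
  have hc1 : c ≠ 1 := fun e1 => hbne (mul_inv_eq_one.1 e1).symm
  have hcE : c ∈ H.toCtx.E := mul_mem hb (inv_mem (hconjE hb))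
  have hcinv : g * c * g⁻¹ = c⁻¹ := by
    calc g * c * g⁻¹ = (g * b * g⁻¹) * (g * (g * b * g⁻¹) * g⁻¹)⁻¹ := by rw [hc]; group
      _ = g * b * g⁻¹ * b⁻¹ := by rw [hsq hb]
      _ = c⁻¹ := by rw [hc]; group
  obtain ⟨k, hk⟩ := hbo
  have hb' : (g * b * g⁻¹) ^ r ^ k = 1 := by rw [conj_pow, ← hk, pow_orderOf_eq_one]; group
  have hcr : c ^ r ^ k = 1 := by
    rw [hc, (H.centralizes_E hb (inv_mem (hconjE hb))).mul_pow, inv_pow, hb', ← hk, pow_orderOf_eq_one]
    group
  obtain ⟨j, -, hj⟩ := (Nat.dvd_prime_pow hr).1 (orderOf_dvd_of_pow_eq_one hcr)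
  have hj0 : j ≠ 0 := fun e0 => hc1 (orderOf_eq_one_iff.1 (by rw [hj, e0, pow_zero]))
  set c' := c ^ (orderOf c / r) with hc'
  have hc'o : orderOf c' = r := orderOf_pow_orderOf_div (orderOf_pos c).ne' (hj ▸ dvd_pow_self r hj0)
  have hc'inv : g * c' * g⁻¹ = c'⁻¹ := by rw [hc', ← conj_pow, hcinv, inv_pow]
  obtain ⟨q, hq⟩ := hre
  have hroot : ∀ z ∈ H.toCtx.E, z ^ r = 1 → z ∈ Subgroup.zpowers (H.y ^ q) := by
    intro z hz hzr
    obtain ⟨n, rfl⟩ := H.toCtx.exists_pow_of_mem hz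
    rw [← pow_mul] at hzr
    have hd : r * q ∣ n * r := hq ▸ orderOf_dvd_of_pow_eq_one hzr
    obtain ⟨l, rfl⟩ : q ∣ n := Nat.dvd_of_mul_dvd_mul_left hr.pos (by rwa [mul_comm n r] at hd)
    rw [pow_mul]
    exact Subgroup.pow_mem _ (Subgroup.mem_zpowers _) _
  have hq0 : q ≠ 0 := fun h0 => by
    rw [h0, mul_zero] at hq
    have := H.one_lt_e; omega
  have hord : Nat.card (Subgroup.zpowers (H.y ^ q)) ≤ r := by
    rw [Nat.card_zpowers]
    refine Nat.le_of_dvd hr.pos (orderOf_dvd_of_pow_eq_one ?_)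
    rw [← pow_mul, mul_comm, ← hq]
    exact pow_orderOf_eq_one H.y
  have hc'le : Subgroup.zpowers c' = Subgroup.zpowers (H.y ^ q) :=
    Subgroup.eq_of_le_of_card_ge
      (Subgroup.zpowers_le.2 (hroot c' (pow_mem hcE _) (hc'o ▸ pow_orderOf_eq_one c')))
      (by rw [Nat.card_zpowers c', hc'o]; exact hord)
  obtain ⟨l, hl⟩ := Subgroup.mem_zpowers_iff.1 (hc'le.symm ▸ hroot a' ha'E (ha'o ▸ pow_orderOf_eq_one a') :
    a' ∈ Subgroup.zpowers c')
  have h2 : a' = a'⁻¹ := by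
    conv_lhs => rw [← ha'fix, ← hl, ← conj_zpow, hc'inv, inv_zpow, hl]
  have h3 : a' ^ 2 = 1 := by rw [sq]; nth_rewrite 2 [h2]; exact mul_inv_cancel _
  have h4 := orderOf_dvd_of_pow_eq_one h3
  rw [ha'o] at h4
  exact hr2 ((Nat.prime_dvd_prime_iff_eq hr Nat.prime_two).1 h4)

/-- A complement of even order at least four is moved by its normalizer. -/
theorem exists_moving (he : Even H.e) (h4 : H.e ≠ 2) : ∃ g ∈ H.N, g * H.y * g⁻¹ ≠ H.y := by
  classical
  by_contra hall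
  push Not at hall
  have hyc : ∀ g ∈ H.N, ∀ b ∈ H.toCtx.E, Commute g b := by
    intro g hg b hb
    obtain ⟨n, rfl⟩ := H.toCtx.exists_pow_of_mem hb
    exact Commute.pow_right (mul_inv_eq_iff_eq_mul.1 (hall g hg)) n
  by_cases hodd : ∃ r : ℕ, r.Prime ∧ r ≠ 2 ∧ r ∣ H.e
  · obtain ⟨r, hr, hr2, hre⟩ := hodd
    haveI : Fact r.Prime := ⟨hr⟩
    exact H.odd_part_not_central hr2 hre fun g hg b hb _ => hyc g hg b hb
  push Not at hodd
  have he0 : H.e ≠ 0 := by have := H.one_lt_e; omega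
  obtain ⟨k, hk⟩ : ∃ k, H.e = 2 ^ k :=
    ⟨_, Nat.eq_prime_pow_of_unique_prime_dvd (p := 2) he0 fun {d} hd hde => by
      by_contra hd2
      exact hodd d hd hd2 hde⟩
  haveI : Fact (Nat.Prime 2) := ⟨Nat.prime_two⟩
  have hN2 : IsPGroup 2 H.N := IsPGroup.of_card (n := k + 1) (by rw [H.card_N, hk, pow_succ'])
  have hcomm : ∀ g ∈ H.N, ∀ h ∈ H.N, Commute g h := by
    obtain ⟨t, ht, htE⟩ := H.exists_outside
    intro g hg h hh
    have key : ∀ {g}, g ∈ H.N → g ∈ H.toCtx.E ∨ ∃ b ∈ H.toCtx.E, g = t * b := by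
      intro g hg
      by_cases h : g ∈ H.toCtx.E
      · exact .inl h
      · exact .inr ⟨t⁻¹ * g, H.mul_mem_E (inv_mem ht) hg (fun h' => htE (by simpa using inv_mem h')) h,
          (mul_inv_cancel_left t g).symm⟩
    rcases key hh with hhE | ⟨b, hb, rfl⟩
    · exact hyc g hg h hhE
    · rcases key hg with hgE | ⟨c, hc, rfl⟩
      · exact ((hyc t ht g hgE).symm).mul_right (H.centralizes_E hgE hb)
      · exact ((Commute.refl t).mul_right (hyc t ht b hb)).mul_left
          (((hyc t ht c hc).symm).mul_right (H.centralizes_E hc hb))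
  refine H.no_central_sylow H.N hN2 ?_ le_rfl (fun S _ h1 h2 => le_antisymm h2 h1) ?_
    (fun g hg _ h hh => hcomm g hg h hh)
  · intro h
    have := H.card_N
    rw [h, Subgroup.card_bot] at this
    omega
  intro g hg
  by_contra hgN
  have hinj : Function.Injective
      (fun q : H.toCtx.E × H.toCtx.E => (⟨(q.1 : G) * (g * q.2 * g⁻¹),
        mul_mem (H.E_le_N q.1.2) ((Subgroup.mem_normalizer_iff.1 hg _).1 (H.E_le_N q.2.2))⟩ : H.N)) := by
    rintro ⟨a, b⟩ ⟨c, d⟩ h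
    have h' : (a : G) * (g * b * g⁻¹) = c * (g * d * g⁻¹) := congrArg Subtype.val h
    have h2 : (c : G)⁻¹ * a = g * ((d : G) * (b : G)⁻¹) * g⁻¹ := by
      calc (c : G)⁻¹ * a = (c : G)⁻¹ * (a * (g * b * g⁻¹)) * (g * b * g⁻¹)⁻¹ := by group
        _ = g * ((d : G) * (b : G)⁻¹) * g⁻¹ := by rw [h']; group
    by_cases hdb : (d : G) * (b : G)⁻¹ = 1
    · rw [hdb, mul_one, mul_inv_cancel, inv_mul_eq_one] at h2
      exact Prod.ext (Subtype.ext h2.symm) (Subtype.ext (mul_inv_eq_one.1 hdb).symm)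
    · exact absurd (H.mem_N_of_conj (mul_mem d.2 (inv_mem b.2)) hdb (h2 ▸ mul_mem (inv_mem c.2) a.2)) hgN
  have hle := Nat.card_le_card_of_injective _ hinj
  rw [Nat.card_prod, H.card_E, H.card_N] at hle
  have := Nat.le_of_mul_le_mul_right hle (Nat.pos_of_ne_zero he0)
  have := H.one_lt_e
  omega

end CfsgLib.Perm.UniqueP.Hyp
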