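/-
Prime degree with a trivial intersection complement: characters of degree `p + 1` from induced
differences of linear characters of the complement.
-/
import Cfsg.Agent.Lib.Perm.UniqueP.Local
import Cfsg.Agent.Lib.Char.Virtual
import Cfsg.Agent.Lib.Char.Induction

set_option autoImplicit false
set_option linter.unusedSectionVars false

namespace CfsgLib.Perm.UniqueP.Hyp

open MulAction Cfsg CfsgLib.Char
open scoped ComplexConjugate

variable {α : Type*} [Fintype α] [DecidableEq α] {p : ℕ} [hp : Fact p.Prime]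
  {G : Subgroup (Equiv.Perm α)} (H : Hyp G p)

/-- A fixed element of the normalizer outside the complement. -/
noncomputable def t : G := H.exists_outside.choose

/-- The exponent of its action. -/
noncomputable def r : ℕ := (H.exists_conj_exp H.exists_outside.choose_spec.1).choose

include H

theorem t_mem : H.t ∈ H.N := H.exists_outside.choose_spec.1

theorem t_not_mem : H.t ∉ H.toCtx.E := H.exists_outside.choose_spec.2

theorem t_conj (n : ℕ) : H.t * H.y ^ n * H.t⁻¹ = H.y ^ (H.r * n) :=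
  (H.exists_conj_exp H.exists_outside.choose_spec.1).choose_spec n

theorem pow_mul_r (n : ℕ) : H.y ^ n = 1 ↔ H.y ^ (H.r * n) = 1 := by
  rw [← H.t_conj, conj_eq_one_iff]

/-- The element `y ^ n` of the complement. -/
noncomputable def idx (h : H.toCtx.E) : ℕ :=
  ((finEquivZPowers (isOfFinOrder_of_finite H.y)).symm h).val

theorem pow_idx (h : H.toCtx.E) : H.y ^ H.idx h = h := by
  have := (finEquivZPowers (isOfFinOrder_of_finite H.y)).apply_symm_apply h
  exact congrArg Subtype.val this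

/-- The linear character sending `y` to `z`. -/
noncomputable def lam (z : ℂ) (h : H.toCtx.E) : ℂ := z ^ H.idx h

theorem lam_pow {z : ℂ} (hz : z ^ H.e = 1) (h : H.toCtx.E) {n : ℕ} (hn : H.y ^ n = h) :
    H.lam z h = z ^ n := by
  have h1 : H.idx h ≡ n [MOD orderOf H.y] := pow_eq_pow_iff_modEq.1 (by rw [H.pow_idx, hn])
  rw [lam, pow_eq_pow_mod (H.idx h) hz, pow_eq_pow_mod n hz]
  exact congrArg _ h1

/-- Sums over the complement. -/
theorem sum_E [Fintype H.toCtx.E] (f : H.toCtx.E → ℂ) :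
    ∑ h : H.toCtx.E, f h = ∑ n ∈ Finset.range H.e, f ⟨H.y ^ n, Subgroup.pow_mem _ H.toCtx.y_mem n⟩ := by
  rw [← Fin.sum_univ_eq_sum_range (fun n => f ⟨H.y ^ n, Subgroup.pow_mem _ H.toCtx.y_mem n⟩)]
  exact (Fintype.sum_equiv (κ := H.toCtx.E) (finEquivZPowers (isOfFinOrder_of_finite H.y)) _ _ fun i => rfl).symm

theorem isCharacter_lam {z : ℂ} (hz : z ^ H.e = 1) : IsCharacter H.toCtx.E (H.lam z) := by
  haveI : NeZero H.e := ⟨by have := H.one_lt_e; omega⟩
  let f : H.toCtx.E →* ℂ :=
    { toFun := H.lam z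
      map_one' := by rw [H.lam_pow hz 1 (n := 0) (by rw [pow_zero]; rfl), pow_zero]
      map_mul' := fun a b => by
        rw [H.lam_pow hz (a * b) (n := H.idx a + H.idx b) (by rw [pow_add, H.pow_idx, H.pow_idx]; rfl),
          pow_add]
        rfl }
  exact isCharacter_of_isIrr (isIrrCharacter_lin f.toHomUnits)

theorem sum_root {w : ℂ} (hw : w ^ H.e = 1) (h1 : w ≠ 1) : ∑ n ∈ Finset.range H.e, w ^ n = 0 := by
  rw [geom_sum_eq h1, hw, sub_self, zero_div]

variable [Fintype G]

/-- The induced difference of linear characters. -/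
noncomputable def psi (z : ℂ) : G → ℂ := indFun H.toCtx.E (fun h => 1 - H.lam z h)

theorem isClassFunction_psi (z : ℂ) : IsClassFunction G (H.psi z) := isClassFunction_indFun _ _

theorem psi_gen {z : ℂ} (hz : z ^ H.e = 1) : IsGeneralizedCharacter G (H.psi z) := by
  classical
  have h1 : IsCharacter H.toCtx.E (fun _ => (1 : ℂ)) :=
    isCharacter_of_isIrr (by simpa using isIrrCharacter_lin (1 : H.toCtx.E →* ℂˣ))
  exact isGeneralizedCharacter_indFun _
    (isGeneralizedCharacter_sub (isGeneralizedCharacter_of_isCharacter h1)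
      (isGeneralizedCharacter_of_isCharacter (H.isCharacter_lam hz)))

theorem psi_one {z : ℂ} (hz : z ^ H.e = 1) : H.psi z 1 = 0 := by
  rw [psi, indFun_one, H.lam_pow hz 1 (n := 0) (by rw [pow_zero]; rfl), pow_zero, sub_self, mul_zero]

/-- The value vanishes away from the complement. -/
theorem psi_eq_zero {z : ℂ} (hz : z ^ H.e = 1) {g : G}
    (hg : ∀ x : G, x⁻¹ * g * x ∈ H.toCtx.E → x⁻¹ * g * x = 1) : H.psi z g = 0 := by
  rw [psi, indFun, Finset.sum_eq_zero, mul_zero]
  intro x _
  by_cases h : x⁻¹ * g * x ∈ H.toCtx.E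
  · rw [extendByZero_mem _ _ h, H.lam_pow hz _ (n := 0) (by rw [pow_zero]; exact (hg x h).symm), pow_zero,
      sub_self]
  · exact extendByZero_not_mem _ _ h

theorem psi_singular {z : ℂ} (hz : z ^ H.e = 1) {g : G} (hg : p ∣ orderOf g) : H.psi z g = 0 := by
  refine H.psi_eq_zero hz fun x hx => ?_
  exfalso
  refine H.not_dvd_orderOf (H.E_le_N hx) ?_
  rwa [show x⁻¹ * g * x = MulAut.conj x⁻¹ g by simp [MulAut.conj_apply], MulEquiv.orderOf_eq]

theorem psi_pow {z : ℂ} (hz : z ^ H.e = 1) {n : ℕ} (hn : H.y ^ n ≠ 1) :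
    H.psi z (H.y ^ n) = 2 - z ^ n - z ^ (H.r * n) := by
  classical
  have hmem : H.y ^ n ∈ H.toCtx.E := Subgroup.pow_mem _ H.toCtx.y_mem n
  have key : ∀ x : G, extendByZero H.toCtx.E (fun h => 1 - H.lam z h) (x⁻¹ * H.y ^ n * x) =
      (if x ∈ H.toCtx.E then 1 - z ^ n else 0) +
        (if x ∈ H.N ∧ x ∉ H.toCtx.E then 1 - z ^ (H.r * n) else 0) := by
    intro x
    by_cases hxE : x ∈ H.toCtx.E
    · have hc : x⁻¹ * H.y ^ n * x = H.y ^ n := by
        rw [mul_assoc, ← (H.centralizes_E hxE hmem).eq, inv_mul_cancel_left]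
      rw [hc, extendByZero_mem _ _ hmem, H.lam_pow hz _ rfl, if_pos hxE, if_neg fun h => h.2 hxE, add_zero]
    by_cases hxN : x ∈ H.N
    · have hxi : x⁻¹ ∉ H.toCtx.E := fun h => hxE (inv_mem_iff.1 h)
      have hc : x⁻¹ * H.y ^ n * x = H.y ^ (H.r * n) := by
        have := H.conj_eq_conj (inv_mem hxN) H.t_mem hxi H.t_not_mem hmem
        rwa [inv_inv, H.t_conj] at this
      rw [hc, extendByZero_mem _ _ (Subgroup.pow_mem _ H.toCtx.y_mem _), H.lam_pow hz _ rfl, if_neg hxE,
        if_pos ⟨hxN, hxE⟩, zero_add]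
    · rw [if_neg hxE, if_neg fun h => hxN h.1, add_zero]
      refine extendByZero_not_mem _ _ fun h => hxN ?_
      have := H.mem_N_of_conj hmem hn (k := x⁻¹) (by rwa [inv_inv])
      exact inv_mem_iff.1 this
  have c1 : (Finset.univ.filter fun x : G => x ∈ H.toCtx.E).card = H.e := by
    rw [← Fintype.card_subtype, ← Nat.card_eq_fintype_card]; exact H.card_E
  have c2 : (Finset.univ.filter fun x : G => x ∈ H.N ∧ x ∉ H.toCtx.E).card = H.e := by
    have cN : (Finset.univ.filter fun x : G => x ∈ H.N).card = 2 * H.e := by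
      rw [← Fintype.card_subtype, ← Nat.card_eq_fintype_card]; exact H.card_N
    rw [show (Finset.univ.filter fun x : G => x ∈ H.N ∧ x ∉ H.toCtx.E) =
        (Finset.univ.filter fun x : G => x ∈ H.N) \ (Finset.univ.filter fun x : G => x ∈ H.toCtx.E) by
      ext x; simp, Finset.card_sdiff_of_subset (fun x hx => by
        simp only [Finset.mem_filter, Finset.mem_univ, true_and] at hx ⊢; exact H.E_le_N hx), cN, c1]
    omega
  rw [psi, indFun, Finset.sum_congr rfl fun x _ => key x, Finset.sum_add_distrib, ← Finset.sum_filter,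
    ← Finset.sum_filter, Finset.sum_const, Finset.sum_const, c1, c2, H.card_E]
  have he : (H.e : ℂ) ≠ 0 := Nat.cast_ne_zero.2 (by have := H.one_lt_e; omega)
  simp only [nsmul_eq_mul]
  field_simp
  ring

theorem inner_psi {z : ℂ} (hz : z ^ H.e = 1) {f : G → ℂ} (hf : IsClassFunction G f) :
    classInner (H.psi z) f = (H.e : ℂ)⁻¹ * ∑ n ∈ Finset.range H.e, (1 - z ^ n) * conj (f (H.y ^ n)) := by
  classical
  rw [psi, classInner_indFun _ _ _ hf, classInner, H.sum_E, H.card_E]
  congr 1
  exact Finset.sum_congr rfl fun n _ => by rw [H.lam_pow hz _ rfl]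

/-- The generalized character of degree `p + 1`. -/
noncomputable def chi (z : ℂ) : G → ℂ := (fun _ => 1) + (H.θ : G → ℂ) - H.psi z

theorem chi_apply (z : ℂ) (g : G) : H.chi z g = 1 + (H.θ : G → ℂ) g - H.psi z g := rfl

theorem chi_one {z : ℂ} (hz : z ^ H.e = 1) : H.chi z 1 = (p : ℂ) + 1 := by
  rw [chi_apply, H.θ_one, H.psi_one hz]; ring

theorem chi_singular {z : ℂ} (hz : z ^ H.e = 1) {g : G} (hg : p ∣ orderOf g) : H.chi z g = 1 := by
  rw [chi_apply, H.θ_singular hg, H.psi_singular hz hg]; ring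

theorem chi_pow (hcase : Odd H.e ∨ 2 * H.e = p - 1) {z : ℂ} (hz : z ^ H.e = 1) {n : ℕ}
    (hn : H.y ^ n ≠ 1) : H.chi z (H.y ^ n) = z ^ n + z ^ (H.r * n) := by
  rw [chi_apply, H.θ_pow hcase n hn, H.psi_pow hz hn]; ring

theorem chi_isIrr (hcase : Odd H.e ∨ 2 * H.e = p - 1) {z : ℂ} (hz : z ^ H.e = 1) (h1 : z ≠ 1)
    (hr : z ^ H.r ≠ z) : IsIrrCharacter G (H.chi z) := by
  classical
  have he : (H.e : ℂ) ≠ 0 := Nat.cast_ne_zero.2 (by have := H.one_lt_e; omega)
  have h0 : 0 ∈ Finset.range H.e := Finset.mem_range.2 (by have := H.one_lt_e; omega)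
  have hone : IsIrrCharacter G (fun _ => (1 : ℂ)) := by simpa using isIrrCharacter_lin (1 : G →* ℂˣ)
  have s1 : ∑ n ∈ Finset.range H.e, (1 - z ^ n) = (H.e : ℂ) := by
    rw [Finset.sum_sub_distrib, H.sum_root hz h1]; simp
  have i1 : classInner (H.psi z) (fun _ => (1 : ℂ)) = 1 := by
    rw [H.inner_psi hz (fun _ _ => rfl)]
    simp only [map_one, mul_one, s1]
    exact inv_mul_cancel₀ he
  have hne : ∀ n ∈ Finset.range H.e, n ≠ 0 → H.y ^ n ≠ 1 := fun n hn h0 h => by
    have := Nat.le_of_dvd (Nat.pos_of_ne_zero h0) (orderOf_dvd_of_pow_eq_one h)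
    rw [Finset.mem_range, e] at hn
    omega
  have i2 : classInner (H.psi z) (H.θ : G → ℂ) = 1 := by
    rw [H.inner_psi hz (isClassFunction_irr H.θ), Finset.sum_congr rfl (g := fun n => 1 - z ^ n)]
    · rw [s1]; exact inv_mul_cancel₀ he
    intro n hn
    by_cases hn0 : n = 0
    · subst hn0; simp
    · rw [H.θ_pow hcase n (hne n hn hn0), map_one, mul_one]
  have hz0 : z ≠ 0 := fun h => by
    rw [h, zero_pow (by have := H.one_lt_e; omega)] at hz; exact zero_ne_one hz
  have hcz : conj z = z⁻¹ := by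
    rw [Complex.inv_def, Complex.normSq_eq_norm_sq,
      Complex.norm_eq_one_of_pow_eq_one hz (by have := H.one_lt_e; omega)]
    simp
  have hr1 : z ^ H.r ≠ 1 := by
    intro h
    have hd : orderOf z ∣ H.r := orderOf_dvd_of_pow_eq_one h
    have hde : orderOf z ∣ H.e := orderOf_dvd_of_pow_eq_one hz
    -- `r` is prime to `e`
    have hco : Nat.Coprime H.r H.e := by
      rw [Nat.coprime_iff_gcd_eq_one]
      by_contra hg
      obtain ⟨q, hq, hqd⟩ := Nat.exists_prime_and_dvd hg
      obtain ⟨l, hl⟩ := hqd.trans (Nat.gcd_dvd_right _ _)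
      obtain ⟨k, hk⟩ := hqd.trans (Nat.gcd_dvd_left _ _)
      have h2 : H.y ^ (H.r * l) = 1 := by
        rw [show H.r * l = H.e * k by rw [hk, hl]; ring, pow_mul, e, pow_orderOf_eq_one, one_pow]
      have h3 := orderOf_dvd_of_pow_eq_one ((H.pow_mul_r l).2 h2)
      rw [show orderOf H.y = H.e from rfl, hl] at h3
      have := H.one_lt_e
      have hl0 : 0 < l := Nat.pos_of_ne_zero fun h0 => by rw [h0, mul_zero] at hl; omega
      have := Nat.le_of_dvd hl0 h3
      have := hq.two_le
      nlinarith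
    exact h1 (orderOf_eq_one_iff.1 (Nat.dvd_one.1 (hco.gcd_eq_one ▸ Nat.dvd_gcd hd hde)))
  have i3 : classInner (H.psi z) (H.psi z) = 3 := by
    rw [H.inner_psi hz (H.isClassFunction_psi z), Finset.sum_congr rfl (g := fun n =>
      2 - 2 * z ^ n - (z⁻¹) ^ n - ((z ^ H.r)⁻¹) ^ n + 1 + (z * (z ^ H.r)⁻¹) ^ n)]
    · simp only [Finset.sum_add_distrib, Finset.sum_sub_distrib, ← Finset.mul_sum]
      rw [H.sum_root hz h1, H.sum_root (by rw [inv_pow, hz, inv_one]) (inv_ne_one.2 h1),
        H.sum_root (by rw [inv_pow, pow_right_comm, hz, one_pow, inv_one]) (inv_ne_one.2 hr1),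
        H.sum_root (by rw [mul_pow, inv_pow, pow_right_comm, hz, one_pow, inv_one, mul_one])
          (fun h => hr ((mul_inv_eq_one₀ (pow_ne_zero _ hz0)).1 h).symm)]
      simp only [Finset.sum_const, Finset.card_range, nsmul_eq_mul]
      field_simp
      ring
    intro n hn
    by_cases hn0 : n = 0
    · subst hn0; rw [pow_zero, sub_self, zero_mul]; norm_num
    · rw [H.psi_pow hz (hne n hn hn0)]
      have hc2 : (2 : ℂ) = ((2 : ℕ) : ℂ) := by norm_num
      simp only [map_sub, map_pow, hcz, hc2, Complex.conj_natCast]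
      rw [mul_pow, pow_mul, ← inv_pow]
      have e1 : z ^ n * (z⁻¹) ^ n = 1 := by rw [← mul_pow, mul_inv_cancel₀ hz0, one_pow]
      push_cast
      linear_combination e1
  refine isIrr_of_norm_one ?_ ?_ ?_
  · exact isGeneralizedCharacter_sub (isGeneralizedCharacter_add
      (isGeneralizedCharacter_of_isCharacter (isCharacter_of_isIrr hone))
      (isGeneralizedCharacter_of_isCharacter (isCharacter_irr H.θ))) (H.psi_gen hz)
  · have a1 : classInner (fun _ => (1 : ℂ)) (fun _ : G => (1 : ℂ)) = 1 := classInner_irr_self ⟨_, hone⟩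
    have a3 : classInner (fun _ => (1 : ℂ)) (H.θ : G → ℂ) = 0 := by
      have h := classInner_irr (⟨_, hone⟩ : IrrCharacter G) H.θ
      rw [if_neg] at h
      · exact h
      intro hE
      have := congrFun (congrArg Subtype.val hE) 1
      rw [H.θ_one] at this
      have h2 : (1 : ℂ) = (p : ℂ) := this
      exact hp.out.one_lt.ne (by exact_mod_cast h2)
    have a4 : classInner (H.θ : G → ℂ) (fun _ => (1 : ℂ)) = 0 := by rw [← classInner_conj, a3, map_zero]
    have a5 : classInner (fun _ => (1 : ℂ)) (H.psi z) = 1 := by rw [← classInner_conj, i1, map_one]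
    have a6 : classInner (H.θ : G → ℂ) (H.psi z) = 1 := by rw [← classInner_conj, i2, map_one]
    rw [chi, classInner_sub_left, classInner_add_left, classInner_sub_right, classInner_sub_right,
      classInner_sub_right, classInner_add_right, classInner_add_right, classInner_add_right,
      a1, a3, a4, a5, a6, classInner_irr_self, i1, i2, i3]
    ring
  · rw [H.chi_one hz]
    simp
    positivity

end CfsgLib.Perm.UniqueP.Hyp
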