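/-
Prime degree with a trivial intersection complement of even order: few Sylow subgroups.
-/
import Cfsg.Agent.Lib.Perm.UniqueP.Pairs
import Cfsg.Agent.Lib.Block.Cyclic.SylowSetup
import Cfsg.Agent.Lib.Block.Cyclic.SylowDual
import Cfsg.Agent.Lib.Block.Local
import Cfsg.Agent.Lib.Char.ClassMul
import Cfsg.Agent.Lib.Char.Linear

set_option autoImplicit false
set_option linter.unusedSectionVars false

namespace CfsgLib.Perm.UniqueP.Hyp

open MulAction Cfsg CfsgLib.Char
open scoped ComplexConjugate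

variable {α : Type*} [Fintype α] [DecidableEq α] {p : ℕ} [hp : Fact p.Prime]
  {G : Subgroup (Equiv.Perm α)} (H : Hyp G p)

include H

theorem card_G : Nat.card G = Nat.card (Sylow p G) * (p * H.e) := by
  obtain ⟨P, hP⟩ := H.toCtx.isSylow
  rw [Sylow.card_eq_index_normalizer P, show (P : Set G) = (Subgroup.zpowers H.x : Set G) from
    congrArg SetLike.coe hP, e, ← H.toCtx.card_normalizer,
    Subgroup.index_mul_card]

variable [Fintype G]

/-- The central involution of the complement's normalizer. -/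
theorem z_facts (he : Even H.e) :
    H.y ^ (H.e / 2) ≠ 1 ∧ (H.y ^ (H.e / 2)) ^ 2 = 1 ∧ (∀ n : ℕ, H.y ^ n ≠ 1 → (H.y ^ n) ^ 2 = 1 →
      H.y ^ n = H.y ^ (H.e / 2)) ∧ H.u ^ (H.e / 2) = -1 := by
  obtain ⟨k, hk⟩ := he
  have h1 := H.one_lt_e
  have hh : H.e / 2 = k := by omega
  have ho : orderOf H.y = H.e := rfl
  have a : H.y ^ k ≠ 1 := fun h => by
    have := Nat.le_of_dvd (by omega) (orderOf_dvd_of_pow_eq_one h)
    omega
  refine ⟨hh ▸ a, ?_, fun n hn hn2 => ?_, ?_⟩
  · rw [hh, ← pow_mul, show k * 2 = H.e by omega, ← ho, pow_orderOf_eq_one]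
  · rw [← pow_mul] at hn2
    have hd : H.e ∣ n * 2 := ho ▸ orderOf_dvd_of_pow_eq_one hn2
    obtain ⟨l, hl⟩ := hd
    have hnl : n = k * l := by rw [hk] at hl; linarith [hl]
    rcases Nat.even_or_odd l with ⟨j, hj⟩ | ⟨j, hj⟩
    · exact absurd (by rw [hnl, hj, show k * (j + j) = H.e * j by rw [hk]; ring, pow_mul, ← ho,
        pow_orderOf_eq_one, one_pow]) hn
    · rw [hnl, hj, show k * (2 * j + 1) = H.e * j + k by rw [hk]; ring, pow_add, pow_mul, ← ho,
        pow_orderOf_eq_one, one_pow, one_mul, ho, hh]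
  · rw [hh]
    have h2 : (H.u ^ k) ^ 2 = 1 := by
      rw [← pow_mul, show k * 2 = H.e by omega]
      exact (H.toCtx.y_pow_eq_one_iff H.e).1 (pow_orderOf_eq_one H.y)
    exact (sq_eq_one_iff.1 h2).resolve_left fun h => a ((H.toCtx.y_pow_eq_one_iff k).2 h)

theorem centralizer_z (he : Even H.e) :
    Subgroup.centralizer ({H.y ^ (H.e / 2)} : Set G) = H.N := by
  obtain ⟨hz1, hz2, huniq, -⟩ := H.z_facts he
  have hmem : H.y ^ (H.e / 2) ∈ H.toCtx.E := Subgroup.pow_mem _ H.toCtx.y_mem _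
  ext g
  rw [Subgroup.mem_centralizer_singleton_iff]
  constructor
  · exact fun h => H.mem_N_of_commute hmem hz1 h
  · intro hg
    have hc : g * H.y ^ (H.e / 2) * g⁻¹ ∈ H.toCtx.E := (Subgroup.mem_normalizer_iff.1 hg _).1 hmem
    obtain ⟨n, hn⟩ := H.toCtx.exists_pow_of_mem hc
    have h1 := huniq n (by rw [hn, ne_eq, conj_eq_one_iff]; exact hz1)
      (by rw [hn, conj_pow, hz2, mul_one, mul_inv_cancel])
    rw [hn, mul_inv_eq_iff_eq_mul] at h1
    exact h1

theorem classConst_zzx (he : Even H.e) :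
    classConst (H.y ^ (H.e / 2)) (H.y ^ (H.e / 2)) H.x = p := by
  haveI : NeZero p := ⟨hp.out.ne_zero⟩
  obtain ⟨hz1, hz2, huniq, hu⟩ := H.z_facts he
  set z := H.y ^ (H.e / 2) with hz
  set C := H.toCtx
  have hmem : ∀ i : ZMod p, IsConj z (C.X i * z) := fun i => C.conj_section i hz1
  have hcomm : ∀ i : ZMod p, z * C.X i = C.X (-i) * z := by
    intro i
    have := C.y_pow_conj (H.e / 2) i
    rw [hu, neg_one_mul] at this
    rw [← this, hz, inv_mul_cancel_right]
  let f : ZMod p → {q : G × G // IsConj z q.1 ∧ IsConj z q.2 ∧ q.1 * q.2 = H.x} := fun i =>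
    ⟨(C.X i * z, C.X (i - 1) * z), hmem i, hmem (i - 1), by
      show C.X i * z * (C.X (i - 1) * z) = H.x
      rw [mul_assoc, ← mul_assoc z, hcomm, ← mul_assoc, ← mul_assoc, ← C.X_add, mul_assoc, ← sq, hz2,
        mul_one, show i + -(i - 1) = 1 by ring, C.X_one]⟩
  have hb : Function.Bijective f := by
    constructor
    · intro i j h
      have h1 : C.X i * z = C.X j * z := congrArg (fun q => q.1.1) h
      have h2 := congrArg (· • C.ω) (mul_right_cancel h1)
      exact C.X_smul_ω_injective h2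
    · rintro ⟨⟨a, b⟩, ha, hb, hab⟩
      have hinv : ∀ w : G, IsConj z w → w * w = 1 := fun w hw => by
        obtain ⟨k, hk⟩ := isConj_iff.1 hw
        rw [← hk, show k * z * k⁻¹ * (k * z * k⁻¹) = k * (z ^ 2) * k⁻¹ by rw [pow_two]; group, hz2, mul_one,
          mul_inv_cancel]
      have hane : a ≠ 1 := fun h => by
        obtain ⟨k, hk⟩ := isConj_iff.1 ha
        rw [h, conj_eq_one_iff] at hk
        exact hz1 hk
      have hab' : a * b = H.x := hab
      have hinvx : a * H.x * a⁻¹ = H.x⁻¹ := by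
        rw [← hab', mul_inv_rev, inv_eq_of_mul_eq_one_right (hinv a ha), inv_eq_of_mul_eq_one_right (hinv b hb),
          ← mul_assoc a a, hinv a ha, one_mul]
      have haN : a ∈ Subgroup.normalizer (Subgroup.zpowers H.x : Set G) := by
        rw [Subgroup.mem_normalizer_iff]
        intro w
        constructor
        · intro hw
          obtain ⟨k, rfl⟩ := Subgroup.mem_zpowers_iff.1 hw
          exact Subgroup.mem_zpowers_iff.2 ⟨-k, by rw [← conj_zpow, hinvx, inv_zpow, zpow_neg]⟩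
        · intro hw
          obtain ⟨k, hk⟩ := Subgroup.mem_zpowers_iff.1 hw
          refine Subgroup.mem_zpowers_iff.2 ⟨-k, ?_⟩
          have h2 : a * H.x ^ (-k) * a⁻¹ = a * w * a⁻¹ := by
            rw [← conj_zpow, hinvx, inv_zpow, zpow_neg, inv_inv, hk]
          exact mul_left_cancel (mul_right_cancel h2)
      obtain ⟨i, n, han⟩ := C.exists_eq_of_mem haN
      have hn1 : C.y ^ n ≠ 1 := by
        intro h
        rw [h, mul_one] at han
        have h2 := hinv a ha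
        rw [han, ← C.X_add] at h2
        have h3 : (fun i : ZMod p => C.X i • C.ω) (i + i) = (fun i : ZMod p => C.X i • C.ω) 0 := by
          simp only [h2, C.X_zero]
        have h4 := C.X_smul_ω_injective h3
        have h5 : (2 : ZMod p) * i = 0 := by rw [two_mul]; exact h4
        have h6 : (2 : ZMod p) ≠ 0 := by
          intro h
          have h' := (CharP.cast_eq_zero_iff (ZMod p) p 2).1 (by exact_mod_cast h)
          have := Nat.le_of_dvd two_pos h'; have := H.five_le; omega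
        rw [(mul_eq_zero.1 h5).resolve_left h6, C.X_zero] at han
        exact hane han
      have hn2 : (C.y ^ n) ^ 2 = 1 := by
        have h2 := hinv a ha
        rw [han, mul_assoc, ← mul_assoc (C.y ^ n), show C.y ^ n * C.X i = C.X (C.u ^ n * i) * C.y ^ n by
          rw [← C.y_pow_conj]; exact (inv_mul_cancel_right _ _).symm, ← mul_assoc, ← mul_assoc, ← C.X_add,
          mul_assoc, ← sq] at h2
        have h3 := congrArg (· • C.ω) h2
        simp only [mul_smul, one_smul, ← pow_mul, C.y_pow_ω] at h3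
        have h4 : (fun i : ZMod p => C.X i • C.ω) (i + C.u ^ n * i) = (fun i : ZMod p => C.X i • C.ω) 0 := by
          simpa [C.X_zero] using h3
        rw [C.X_smul_ω_injective h4, C.X_zero, one_mul] at h2
        exact h2
      refine ⟨i, Subtype.ext (Prod.ext ?_ ?_)⟩
      · show C.X i * z = a
        rw [han, huniq n hn1 hn2]
      · show C.X (i - 1) * z = b
        apply mul_left_cancel (a := a)
        rw [hab', han, huniq n hn1 hn2, mul_assoc, ← mul_assoc z, hcomm, ← mul_assoc, ← mul_assoc,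
          ← C.X_add, mul_assoc, ← sq, hz2, mul_one, show i + -(i - 1) = 1 by ring, C.X_one]
  rw [classConst, ← Nat.card_congr (Equiv.ofBijective f hb), Nat.card_zmod]

/-- The character sum of the count. -/
theorem sum_eq (he : Even H.e) [Fintype (IrrCharacter G)] :
    (Nat.card (Sylow p G) : ℂ) * ∑ χ : IrrCharacter G, (χ : G → ℂ) (H.y ^ (H.e / 2)) *
      (χ : G → ℂ) (H.y ^ (H.e / 2)) * conj ((χ : G → ℂ) H.x) / (χ : G → ℂ) 1 = 4 * (H.e : ℂ) := by
  set z := H.y ^ (H.e / 2) with hz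
  have h := classConst_formula z z H.x
  rw [finsum_eq_sum_of_fintype, H.classConst_zzx he] at h
  have hidx : (Nat.card {w : G // IsConj z w} : ℂ) * (2 * (H.e : ℂ)) = (Nat.card G : ℂ) := by
    rw [card_isConj, hz, H.centralizer_z he]
    rw [show (2 : ℂ) * (H.e : ℂ) = ((2 * H.e : ℕ) : ℂ) by push_cast; ring, ← H.card_N, ← Nat.cast_mul,
      Subgroup.index_mul_card]
  set S := ∑ χ : IrrCharacter G, (χ : G → ℂ) z * (χ : G → ℂ) z * conj ((χ : G → ℂ) H.x) / (χ : G → ℂ) 1
  set c := (Nat.card {w : G // IsConj z w} : ℂ)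
  rw [← hidx] at h
  have hG0 : (Nat.card G : ℂ) ≠ 0 := Nat.cast_ne_zero.2 Nat.card_pos.ne'
  have hc0 : c ≠ 0 := fun h0 => hG0 (by rw [← hidx, h0, zero_mul])
  have he0 : (H.e : ℂ) ≠ 0 := Nat.cast_ne_zero.2 (by have := H.one_lt_e; omega)
  have h2 : (p : ℂ) * (2 * H.e) = c * S := by
    rw [h]
    field_simp
  have h3 : (p : ℂ) * (2 * H.e) * (2 * H.e) = (Nat.card (Sylow p G) : ℂ) * ((p : ℂ) * H.e) * S := by
    rw [h2, show c * S * (2 * (H.e : ℂ)) = c * (2 * (H.e : ℂ)) * S by ring, hidx, H.card_G]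
    push_cast
    ring
  apply mul_left_cancel₀ (mul_ne_zero (Nat.cast_ne_zero.2 hp.out.ne_zero : (p : ℂ) ≠ 0) he0)
  linear_combination -h3

theorem eq_one_of_degree_one {χ : IrrCharacter G} (h : (χ : G → ℂ) 1 = 1) : (χ : G → ℂ) = fun _ => 1 := by
  have hc : Nat.card {χ : IrrCharacter G // (χ : G → ℂ) 1 = 1} = 1 := by
    rw [card_linear, H.perfect, Subgroup.index_top]
  haveI := (Nat.card_eq_one_iff_unique.1 hc).1
  have hone : IsIrrCharacter G (fun _ => (1 : ℂ)) := by simpa using isIrrCharacter_lin (1 : G →* ℂˣ)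
  have := Subsingleton.elim (α := {χ : IrrCharacter G // (χ : G → ℂ) 1 = 1}) ⟨χ, h⟩ ⟨⟨_, hone⟩, rfl⟩
  exact congrArg (fun q => ((q : {χ : IrrCharacter G // (χ : G → ℂ) 1 = 1}) : IrrCharacter G).1) this

/-- The lower bound for the character sum. -/
theorem sum_bound (he : Even H.e) [Fintype (IrrCharacter G)] (S : Finset (IrrCharacter G))
    (hS : ∀ χ ∈ S, ¬ ((charDegree (χ : G → ℂ) : ℤ) ≡ (H.e : ℤ) [ZMOD p]) ∧
      ¬ ((charDegree (χ : G → ℂ) : ℤ) ≡ -(H.e : ℤ) [ZMOD p])) :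
    ((p : ℝ) - 1) * (∑ χ : IrrCharacter G, (χ : G → ℂ) (H.y ^ (H.e / 2)) *
      (χ : G → ℂ) (H.y ^ (H.e / 2)) * conj ((χ : G → ℂ) H.x) / (χ : G → ℂ) 1).re + 2 * (H.e : ℝ) ≥
      ∑ χ ∈ S, (((p : ℝ) - 1) * ((χ : G → ℂ) (H.y ^ (H.e / 2)) * (χ : G → ℂ) (H.y ^ (H.e / 2)) *
        conj ((χ : G → ℂ) H.x) / (χ : G → ℂ) 1).re + ((χ : G → ℂ) (H.y ^ (H.e / 2))).re ^ 2) := by
  classical
  obtain ⟨M, hM⟩ := CfsgLib.Block.exists_pModular (p := p) hp.out
  haveI := hM.2.1
  obtain ⟨P, hP⟩ := H.toCtx.isSylow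
  have hPc : Nat.card P = p := by
    show Nat.card (P : Subgroup G) = p
    rw [hP, Nat.card_zpowers, H.hx]
  obtain ⟨D₀, hD₀⟩ := CfsgLib.Block.Cyclic.exists_cycSetup (Q := (P : Subgroup G)) hPc
    (CfsgLib.Block.Cyclic.not_sq_dvd_of_sylow hPc)
  let D := D₀.withChar (CfsgLib.Block.oneChar D₀.K)
  have hDQ : D.Q = (P : Subgroup G) := hD₀
  let _ : Fintype D.K := Fintype.ofFinite _
  let _ : Fintype (Subgroup.centralizer (D.Q : Set G)) := Fintype.ofFinite _
  have h1 : ∀ w, (D.φ : D.K → ℂ) w = 1 := fun _ => rfl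
  have hBD := D.blockData_principal hM hDQ h1
  obtain ⟨E⟩ := D.exists_exceptional_family hM hBD
  have hcentQ : Subgroup.centralizer (D.Q : Set G) = D.Q := by
    rw [hDQ, hP]
    refine le_antisymm ?_ fun w hw => ?_
    · intro w hw
      have h2 := Subgroup.mem_centralizer_iff.1 hw H.x (Subgroup.mem_zpowers _)
      rw [← H.toCtx.centralizer_x]
      exact Subgroup.mem_centralizer_singleton_iff.2 h2.symm
    · rw [Subgroup.mem_centralizer_iff]
      intro v hv
      obtain ⟨a, rfl⟩ := Subgroup.mem_zpowers_iff.1 hw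
      obtain ⟨b, rfl⟩ := Subgroup.mem_zpowers_iff.1 hv
      exact (Commute.refl H.x).zpow_zpow b a
  have hK : ∀ w : D.K, (w : G) = 1 := by
    intro w
    obtain ⟨hw1, hw2⟩ := (D.hK (w : G)).1 w.2
    rw [hcentQ] at hw1
    have hd := Subgroup.orderOf_dvd_natCard D.Q hw1
    rw [D.hQ] at hd
    exact orderOf_eq_one_iff.1 (((Nat.dvd_prime hp.out).1 hd).resolve_right fun h => hw2 h.symm.dvd)
  have hst := D.stab_eq_normalizer h1
  have hr : D.stab.relIndex (Subgroup.normalizer (D.Q : Set G)) = 1 := by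
    rw [hst, Subgroup.relIndex_self]
  have hd1 : Cfsg.charDegree (D.φ : D.K → ℂ) = 1 := by
    simp [Cfsg.charDegree, h1]
  have hee : Nat.card D.expE = H.e := by
    rw [D.card_expE, hst]
    show (Subgroup.centralizer (D.Q : Set G)).relIndex (Subgroup.normalizer (D.Q : Set G)) = H.e
    have hN := H.toCtx.card_normalizer
    rw [← hP, ← hDQ] at hN
    have hle : Subgroup.centralizer (D.Q : Set G) ≤ Subgroup.normalizer (D.Q : Set G) :=
      hcentQ.le.trans Subgroup.le_normalizer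
    have h2 := Subgroup.card_mul_index
      ((Subgroup.centralizer (D.Q : Set G)).subgroupOf (Subgroup.normalizer (D.Q : Set G)))
    rw [Nat.card_congr (Subgroup.subgroupOfEquivOfLe hle).toEquiv, hN] at h2
    rw [hcentQ, D.hQ] at h2
    rw [hcentQ]
    exact Nat.eq_of_mul_eq_mul_left hp.out.pos h2
  obtain ⟨i, hi⟩ := D.exists_xp_eq (g := H.x) (by rw [hDQ, hP]; exact Subgroup.mem_zpowers _)
  have hi0 : i ≠ 0 := fun h => H.toCtx.x_ne_one (by rw [← hi, h, D.xp_zero])
  have hval : ∀ χ : IrrCharacter G, (χ : G → ℂ) H.x = D.dval (χ : G → ℂ) i := by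
    intro χ
    haveI := Fintype.ofFinite (IrrCharacter D.K)
    have hv := CfsgLib.Block.Cyclic.value_eq_sum D.hQ D.hK (isClassFunction_irr χ)
      (D.xp_mem i) (1 : D.K)
    rw [show ((1 : D.K) : G) = 1 from rfl, mul_one, hi] at hv
    rw [hv, Finset.sum_eq_single D.φ]
    · rw [h1, mul_one, ← hi]; rfl
    · intro φ' _ hne
      refine absurd (Subtype.ext (funext fun w => ?_)) hne
      have hw : w = 1 := Subtype.ext (hK w)
      rw [hw, h1]
      have hsub : Subsingleton D.K := ⟨fun a b => Subtype.ext (by rw [hK a, hK b])⟩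
      exact degree_one_of_comm (fun a b => Subsingleton.elim _ _) φ'
    · exact fun h => absurd (Finset.mem_univ _) h
  set z := H.y ^ (H.e / 2) with hz
  obtain ⟨hz1, hz2, -, -⟩ := H.z_facts he
  have hzreal : ∀ χ : IrrCharacter G, conj ((χ : G → ℂ) z) = (χ : G → ℂ) z := fun χ => by
    rw [← isCharacter_inv (isCharacter_irr χ), inv_eq_of_mul_eq_one_right (by rw [← sq]; exact hz2)]
  have hza : ∀ χ : IrrCharacter G, (χ : G → ℂ) z = (((χ : G → ℂ) z).re : ℂ) := fun χ =>
    (Complex.conj_eq_iff_re.1 (hzreal χ)).symm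
  have hdeg : ∀ χ : IrrCharacter G, (χ : G → ℂ) 1 = ((charDegree (χ : G → ℂ) : ℝ) : ℂ) := fun χ => by
    rw [(Block.charDegree_eq χ).1]; norm_num
  let T : IrrCharacter G → ℂ := fun χ =>
    (χ : G → ℂ) z * (χ : G → ℂ) z * conj ((χ : G → ℂ) H.x) / (χ : G → ℂ) 1
  let a : IrrCharacter G → ℝ := fun χ => ((χ : G → ℂ) z).re
  let w : IrrCharacter G → ℝ := fun χ => ((p : ℝ) - 1) * (T χ).re + a χ ^ 2
  show ((p : ℝ) - 1) * (∑ χ, T χ).re + 2 * (H.e : ℝ) ≥ ∑ χ ∈ S, w χ
  -- the squares add up to the centralizer order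
  have hmass : ∑ χ : IrrCharacter G, a χ ^ 2 = 2 * (H.e : ℝ) := by
    have h := sum_irr_mul_conj z z
    rw [if_pos (IsConj.refl z), H.centralizer_z he, H.card_N, Finset.sum_congr rfl fun χ _ => by
      rw [hzreal, hza χ]] at h
    have h' := congrArg Complex.re h
    simp only [Complex.re_sum, Complex.mul_re, Complex.ofReal_re, Complex.ofReal_im, mul_zero, sub_zero,
      Nat.cast_mul, Nat.cast_ofNat, Complex.re_ofNat, Complex.natCast_re, Complex.natCast_im] at h'
    rw [← h']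
    exact Finset.sum_congr rfl fun χ _ => by show a χ ^ 2 = _; rw [sq]
  have hp1 : (0 : ℝ) ≤ (p : ℝ) - 1 := by
    have : (1 : ℝ) ≤ p := by exact_mod_cast hp.out.one_le
    linarith
  -- outside the exceptional family every weight is non-negative
  have hw : ∀ χ : IrrCharacter G, χ ∉ Set.range E.Y → 0 ≤ w χ := by
    intro χ hχ
    by_cases hu : E.u χ = 0
    · have hB : χ ∉ principalBlock M G := fun h => ((E.mem χ).1 h).elim (fun h' => h' hu) hχ
      have : T χ = 0 := by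
        simp only [T, hval, hBD.dval_out χ hB i hi0, map_zero, mul_zero, zero_div]
      simp only [w, this, Complex.zero_re, mul_zero, zero_add]
      positivity
    · have hx : (χ : G → ℂ) H.x = -(E.u χ : ℂ) := by rw [hval, E.dval_of_u hu hi0]
      have hd := E.charDegree_u hBD hu
      rw [hr, hd1] at hd
      push_cast at hd
      rw [mul_one] at hd
      set d := charDegree (χ : G → ℂ) with hdd
      have hd0 : d ≠ 0 := (Block.charDegree_eq χ).2
      have hT : (T χ).re = a χ ^ 2 * (-(E.u χ : ℝ)) / (d : ℝ) := by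
        have e : T χ = ((a χ ^ 2 * (-(E.u χ : ℝ)) / (d : ℝ) : ℝ) : ℂ) := by
          simp only [T, hx, map_neg, map_intCast, hdeg]
          rw [hza χ]
          push_cast
          ring
        rw [e, Complex.ofReal_re]
      simp only [w, hT]
      rcases E.u_cases χ with h0 | h0 | h0
      · exact absurd h0 hu
      · rw [h0] at hd ⊢
        have hpd : p ≤ d + 1 := by
          have h2 : (p : ℤ) ∣ (d : ℤ) + 1 := by
            have := (Int.modEq_iff_dvd.1 hd.symm)
            simpa using this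
          exact Nat.le_of_dvd (by omega) (by exact_mod_cast h2)
        have hdR : (p : ℝ) - 1 ≤ d := by
          have : (p : ℝ) ≤ (d : ℝ) + 1 := by exact_mod_cast hpd
          linarith
        have hdpos : (0 : ℝ) < d := by exact_mod_cast Nat.pos_of_ne_zero hd0
        have : ((p : ℝ) - 1) / d ≤ 1 := (div_le_one hdpos).2 hdR
        have hsq : 0 ≤ a χ ^ 2 := sq_nonneg _
        push_cast
        rw [show ((p : ℝ) - 1) * (a χ ^ 2 * -1 / d) + a χ ^ 2 = a χ ^ 2 * (1 - ((p : ℝ) - 1) / d) by ring]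
        exact mul_nonneg hsq (by linarith)
      · rw [h0]
        push_cast
        have : 0 ≤ a χ ^ 2 * (- -(1 : ℝ)) / (d : ℝ) := by positivity
        have h3 : 0 ≤ a χ ^ 2 := sq_nonneg _
        nlinarith [mul_nonneg hp1 this]
  -- the exceptional family as a whole
  haveI := Fintype.ofFinite ((ZMod p)ˣ ⧸ D.expE)
  have hgroup : 0 ≤ ∑ k, w (E.Y k) := by
    obtain ⟨k₀⟩ : Nonempty ((ZMod p)ˣ ⧸ D.expE) := inferInstance
    set d := charDegree (E.Y k₀ : G → ℂ) with hdd
    have hd0 : d ≠ 0 := (Block.charDegree_eq _).2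
    have hd := E.charDegree_Y hBD k₀
    rw [hr, hd1, hee] at hd
    push_cast at hd
    rw [mul_one, mul_one] at hd
    have hsum : ∑ k, (E.Y k : G → ℂ) H.x = -(E.δ : ℂ) := by
      rw [Finset.sum_congr rfl fun k _ => hval (E.Y k)]
      exact E.sum_dval_Y hi0
    have hzreg : ¬ p ∣ orderOf z := H.not_dvd_orderOf (H.E_le_N (Subgroup.pow_mem _ H.toCtx.y_mem _))
    have ha : ∀ k, a (E.Y k) = a (E.Y k₀) := fun k => congrArg Complex.re (E.regular_eq k k₀ z hzreg)
    have hone : ∀ k, (E.Y k : G → ℂ) 1 = ((d : ℝ) : ℂ) := fun k => by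
      rw [E.regular_eq k k₀ 1 (by rw [orderOf_one]; exact hp.out.not_dvd_one), hdeg]
    have hT : (∑ k, T (E.Y k)) = ((a (E.Y k₀) ^ 2 * (-(E.δ : ℝ)) / d : ℝ) : ℂ) := by
      have e : ∀ k, T (E.Y k) = ((a (E.Y k₀) : ℂ) * (a (E.Y k₀) : ℂ) / (d : ℂ)) *
          conj ((E.Y k : G → ℂ) H.x) := fun k => by
        simp only [T, hone]
        rw [hza (E.Y k), show ((E.Y k : G → ℂ) z).re = a (E.Y k₀) from ha k]
        push_cast
        ring
      rw [Finset.sum_congr rfl fun k _ => e k, ← Finset.mul_sum, ← map_sum, hsum]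
      simp only [map_neg, map_intCast]
      push_cast
      ring
    have hcard : (Fintype.card ((ZMod p)ˣ ⧸ D.expE) : ℝ) * (H.e : ℝ) = (p : ℝ) - 1 := by
      have h := D.expE.card_eq_card_quotient_mul_card_subgroup
      rw [hee, Nat.card_eq_fintype_card, ZMod.card_units, Nat.card_eq_fintype_card] at h
      have h' := congrArg (fun n : ℕ => (n : ℝ)) h
      push_cast [Nat.cast_sub hp.out.one_le] at h'
      linarith
    have hde : H.e ≤ d := by
      by_contra hlt
      rw [not_le] at hlt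
      have h2e := H.two_e_le
      have hp2 := hp.out.two_le
      rcases E.sign with hs | hs <;> rw [hs] at hd <;> have h := Int.modEq_iff_dvd.1 hd
      · simp only [one_mul] at h
        have := Int.le_of_dvd (by omega) h
        omega
      · simp only [neg_one_mul] at h
        rw [← dvd_neg, neg_sub, sub_neg_eq_add] at h
        have := Int.le_of_dvd (by omega) h
        omega
    simp only [w]
    rw [Finset.sum_add_distrib, ← Finset.mul_sum, ← Complex.re_sum, hT, Complex.ofReal_re,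
      Finset.sum_congr rfl fun k _ => show a (E.Y k) ^ 2 = a (E.Y k₀) ^ 2 by rw [ha k], Finset.sum_const,
      Finset.card_univ, nsmul_eq_mul, ← hcard]
    have hdR : (H.e : ℝ) ≤ d := by exact_mod_cast hde
    have hdpos : (0 : ℝ) < d := by exact_mod_cast Nat.pos_of_ne_zero hd0
    have : (H.e : ℝ) / d ≤ 1 := (div_le_one hdpos).2 hdR
    have hm : (0 : ℝ) ≤ Fintype.card ((ZMod p)ˣ ⧸ D.expE) := Nat.cast_nonneg _
    have hsq : 0 ≤ a (E.Y k₀) ^ 2 := sq_nonneg _
    have hnn : 0 ≤ (H.e : ℝ) / d := by positivity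
    rcases E.sign with hs | hs <;> rw [hs] <;> push_cast
    · rw [show (Fintype.card ((ZMod p)ˣ ⧸ D.expE) : ℝ) * (H.e : ℝ) * (a (E.Y k₀) ^ 2 * -1 / d) +
        (Fintype.card ((ZMod p)ˣ ⧸ D.expE) : ℝ) * a (E.Y k₀) ^ 2 =
        (Fintype.card ((ZMod p)ˣ ⧸ D.expE) : ℝ) * a (E.Y k₀) ^ 2 * (1 - (H.e : ℝ) / d) by ring]
      exact mul_nonneg (mul_nonneg hm hsq) (by linarith)
    · positivity
  have hYS : ∀ χ ∈ S, χ ∉ Set.range E.Y := by
    rintro χ hχ ⟨k, rfl⟩
    have hd := E.charDegree_Y hBD k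
    rw [hr, hd1, hee] at hd
    push_cast at hd
    rw [mul_one, mul_one] at hd
    rcases E.sign with hs | hs <;> rw [hs] at hd
    · exact (hS _ hχ).1 (by simpa using hd)
    · exact (hS _ hχ).2 (by simpa using hd)
  have htot : ((p : ℝ) - 1) * (∑ χ, T χ).re + 2 * (H.e : ℝ) = ∑ χ, w χ := by
    simp only [w]
    rw [Finset.sum_add_distrib, ← Finset.mul_sum, Complex.re_sum, hmass]
  rw [htot, ← Finset.sum_sdiff (Finset.subset_univ (Finset.univ.image E.Y)),
    Finset.sum_image fun a _ b _ h => E.inj h]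
  refine le_add_of_le_of_nonneg ?_ hgroup
  refine Finset.sum_le_sum_of_subset_of_nonneg (fun χ hχ => ?_) fun χ hχ _ => hw χ ?_
  · simp only [Finset.mem_sdiff, Finset.mem_univ, Finset.mem_image, true_and]
    exact fun ⟨k, hk⟩ => hYS χ hχ ⟨k, hk⟩
  · simp only [Finset.mem_sdiff, Finset.mem_univ, Finset.mem_image, true_and] at hχ
    exact fun ⟨k, hk⟩ => hχ ⟨k, hk⟩

/-- Few Sylow subgroups. -/
theorem few_sylow_even (he : Even H.e) : 2 * Nat.card (Sylow p G) < (p + 1) * (p + 2) := by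
  classical
  haveI := Fintype.ofFinite (IrrCharacter G)
  set z := H.y ^ (H.e / 2) with hz
  set n := Nat.card (Sylow p G) with hn
  obtain ⟨hz1, -, -, -⟩ := H.z_facts he
  let T : IrrCharacter G → ℂ := fun χ =>
    (χ : G → ℂ) z * (χ : G → ℂ) z * conj ((χ : G → ℂ) H.x) / (χ : G → ℂ) 1
  let w : IrrCharacter G → ℝ := fun χ => ((p : ℝ) - 1) * (T χ).re + ((χ : G → ℂ) z).re ^ 2
  have heq : (n : ℂ) * ∑ χ, T χ = 4 * (H.e : ℂ) := H.sum_eq he
  have heqR : (n : ℝ) * (∑ χ, T χ).re = 4 * (H.e : ℝ) := by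
    have := congrArg Complex.re heq
    simpa using this
  have h2e := H.two_e_le
  have h5 := H.five_le
  have he1 := H.one_lt_e
  have hdeg : ∀ (χ : IrrCharacter G) (d : ℕ), (χ : G → ℂ) 1 = (d : ℂ) → charDegree (χ : G → ℂ) = d :=
    fun χ d h => by simp [charDegree, h]
  have hbad : ∀ (d : ℤ), d = 1 ∨ d = 0 → ∀ χ : IrrCharacter G, (charDegree (χ : G → ℂ) : ℤ) ≡ d [ZMOD p] →
      ¬ ((charDegree (χ : G → ℂ) : ℤ) ≡ (H.e : ℤ) [ZMOD p]) ∧
        ¬ ((charDegree (χ : G → ℂ) : ℤ) ≡ -(H.e : ℤ) [ZMOD p]) := by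
    intro d hd χ hχ
    constructor <;> intro h <;> have h' := Int.modEq_iff_dvd.1 (hχ.symm.trans h)
    · have := Int.le_of_dvd (by omega) h'
      omega
    · rw [← dvd_neg] at h'
      have := Int.le_of_dvd (by omega) h'
      omega
  have hone : IsIrrCharacter G (fun _ => (1 : ℂ)) := by simpa using isIrrCharacter_lin (1 : G →* ℂˣ)
  let χ1 : IrrCharacter G := ⟨_, hone⟩
  have w1 : w χ1 = (p : ℝ) := by simp [w, T, χ1]
  have d1 : (charDegree (χ1 : G → ℂ) : ℤ) ≡ 1 [ZMOD p] := by rw [hdeg χ1 1 (by simp [χ1])]; rfl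
  by_cases hcase : 2 * H.e = p - 1
  swap
  · have hb := H.sum_bound he {χ1} (by
      simp only [Finset.mem_singleton, forall_eq]
      exact hbad 1 (.inl rfl) χ1 d1)
    rw [Finset.sum_singleton] at hb
    have hb' : ((p : ℝ) - 1) * (∑ χ, T χ).re + 2 * (H.e : ℝ) ≥ (p : ℝ) := le_of_eq_of_le w1.symm hb
    obtain ⟨k, hk⟩ := H.e_dvd
    have hk3 : 3 ≤ k := by
      rcases Nat.lt_or_ge k 3 with h | h
      · interval_cases k <;> omega
      · exact h
    have h3e : 3 * H.e ≤ p - 1 := by rw [hk, mul_comm 3]; exact Nat.mul_le_mul_left _ hk3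
    have hR : 3 * (H.e : ℝ) + 1 ≤ p := by
      have : 3 * H.e + 1 ≤ p := by omega
      exact_mod_cast this
    have hp5 : (5 : ℝ) ≤ p := by exact_mod_cast h5
    have hn0 : (0 : ℝ) ≤ n := Nat.cast_nonneg _
    have key : (n : ℝ) * ((p : ℝ) - 2 * H.e) ≤ 4 * H.e * ((p : ℝ) - 1) := by
      calc (n : ℝ) * ((p : ℝ) - 2 * H.e) ≤ (n : ℝ) * (((p : ℝ) - 1) * (∑ χ, T χ).re) :=
            mul_le_mul_of_nonneg_left (by linarith) hn0
        _ = _ := by rw [mul_left_comm, heqR]; ring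
    have h4 : (n : ℝ) ≤ 4 * ((p : ℝ) - 1) := by
      nlinarith [mul_le_mul_of_nonneg_left (show ((p : ℝ) + 2) / 3 ≤ (p : ℝ) - 2 * H.e by linarith) hn0]
    have h5' : (2 : ℝ) * n < ((p : ℝ) + 1) * ((p : ℝ) + 2) := by nlinarith [sq_nonneg ((p : ℝ) - 3)]
    exact_mod_cast h5'
  have hθd : (charDegree (H.θ : G → ℂ) : ℤ) ≡ 0 [ZMOD p] := by
    rw [H.θ_degree]; exact Int.modEq_zero_iff_dvd.2 dvd_rfl
  have hθz : (H.θ : G → ℂ) z = 1 := H.θ_pow (.inr hcase) _ hz1
  have wθ : w H.θ = 1 := by simp [w, T, hθz, H.θ_singular (g := H.x) (by rw [H.hx])]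
  have hpR : (p : ℝ) = 2 * (H.e : ℝ) + 1 := by
    have : p = 2 * H.e + 1 := by omega
    exact_mod_cast this
  have h1θ : χ1 ≠ H.θ := fun h => by
    have := congrFun (congrArg Subtype.val h) 1
    rw [H.θ_one] at this
    have h2 : (1 : ℂ) = (p : ℂ) := this
    exact hp.out.one_lt.ne (by exact_mod_cast h2)
  by_cases h4 : H.e = 2
  · have hb := H.sum_bound he {χ1, H.θ} (by
      simp only [Finset.mem_insert, Finset.mem_singleton, forall_eq_or_imp, forall_eq]
      exact ⟨hbad 1 (.inl rfl) χ1 d1, hbad 0 (.inr rfl) _ hθd⟩)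
    rw [Finset.sum_pair h1θ] at hb
    have hb' : ((p : ℝ) - 1) * (∑ χ, T χ).re + 2 * (H.e : ℝ) ≥ (p : ℝ) + 1 := by
      have : w χ1 + w H.θ = (p : ℝ) + 1 := by rw [w1, wθ]
      exact le_of_eq_of_le this.symm hb
    have hp5 : p = 5 := by omega
    rw [h4] at heqR hb'
    rw [show (p : ℝ) = 5 by exact_mod_cast hp5] at hb'
    push_cast at heqR hb'
    have : (n : ℝ) ≤ 16 := by nlinarith [Nat.cast_nonneg (α := ℝ) n]
    have : n ≤ 16 := by exact_mod_cast this
    rw [hp5]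
    omega
  obtain ⟨g, hg, hgy⟩ := H.exists_moving he h4
  have hgE : g ∉ H.toCtx.E := fun h => hgy (mul_inv_eq_iff_eq_mul.2 (H.centralizes_E h H.toCtx.y_mem).eq)
  have he0 : H.e ≠ 0 := by omega
  set ζ := Complex.exp (2 * Real.pi * Complex.I / H.e) with hζdef
  have hζ : IsPrimitiveRoot ζ H.e := Complex.isPrimitiveRoot_exp H.e he0
  have hζr : ζ ^ H.r ≠ ζ := by
    intro h
    refine hgy ?_
    have hd : H.r ≡ 1 [MOD H.e] := by
      rw [hζ.eq_orderOf]
      exact (hζ.isOfFinOrder he0).pow_eq_pow_iff_modEq.1 (h.trans (pow_one ζ).symm)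
    rw [H.conj_eq_conj hg H.t_mem hgE H.t_not_mem H.toCtx.y_mem]
    have := H.t_conj 1
    rw [pow_one, mul_one] at this
    rw [this]
    nth_rewrite 2 [← pow_one H.y]
    exact pow_eq_pow_iff_modEq.2 hd
  let χ2 : IrrCharacter G := ⟨H.chi ζ, H.chi_isIrr (.inr hcase) hζ.pow_eq_one (hζ.ne_one he1) hζr⟩
  have hzr : H.y ^ (H.r * (H.e / 2)) = z := by
    rw [← H.t_conj]
    have hc : H.t ∈ Subgroup.centralizer ({z} : Set G) := (H.centralizer_z he).symm ▸ H.t_mem
    exact mul_inv_eq_iff_eq_mul.2 (Subgroup.mem_centralizer_singleton_iff.1 hc)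
  have hh : ζ ^ (H.e / 2) = -1 := by
    have h2 : (ζ ^ (H.e / 2)) ^ 2 = 1 := by
      rw [← pow_mul, Nat.div_mul_cancel (even_iff_two_dvd.1 he), hζ.pow_eq_one]
    exact (sq_eq_one_iff.1 h2).resolve_left (hζ.pow_ne_one_of_pos_of_lt (by omega) (by omega))
  have hχ2z : (χ2 : G → ℂ) z = -2 := by
    show H.chi ζ z = -2
    rw [hz, H.chi_pow (.inr hcase) hζ.pow_eq_one hz1]
    have : ζ ^ (H.r * (H.e / 2)) = ζ ^ (H.e / 2) := by
      rw [(hζ.isOfFinOrder he0).pow_eq_pow_iff_modEq, ← hζ.eq_orderOf]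
      exact pow_eq_pow_iff_modEq.1 hzr
    rw [this, hh]; norm_num
  have hχ21 : (χ2 : G → ℂ) 1 = ((p + 1 : ℕ) : ℂ) := by
    show H.chi ζ 1 = _
    rw [H.chi_one hζ.pow_eq_one]; push_cast; ring
  have hχ2x : (χ2 : G → ℂ) H.x = 1 := H.chi_singular hζ.pow_eq_one (by rw [H.hx])
  have w2 : 4 ≤ w χ2 := by
    have e : T χ2 = ((4 / ((p : ℝ) + 1) : ℝ) : ℂ) := by
      simp only [T, hχ2z, hχ2x, hχ21, map_one]; push_cast; ring
    simp only [w, e, hχ2z, Complex.ofReal_re]
    norm_num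
    have : (1 : ℝ) ≤ p := by exact_mod_cast hp.out.one_le
    exact mul_nonneg (by linarith) (by positivity)
  have d2 : (charDegree (χ2 : G → ℂ) : ℤ) ≡ 1 [ZMOD p] := by
    rw [hdeg χ2 _ hχ21]; push_cast
    exact (Int.modEq_iff_dvd.2 ⟨-1, by ring⟩)
  have h12 : χ1 ≠ χ2 := fun h => by
    have := congrFun (congrArg Subtype.val h) 1
    rw [hχ21] at this
    have h2 : ((1 : ℕ) : ℂ) = ((p + 1 : ℕ) : ℂ) := by rw [Nat.cast_one]; exact this
    rw [Nat.cast_inj] at h2
    omega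
  have hθ2 : H.θ ≠ χ2 := fun h => by
    have := congrFun (congrArg Subtype.val h) 1
    rw [hχ21, H.θ_one, Nat.cast_inj] at this
    omega
  have hb := H.sum_bound he {χ1, H.θ, χ2} (by
    simp only [Finset.mem_insert, Finset.mem_singleton, forall_eq_or_imp, forall_eq]
    exact ⟨hbad 1 (.inl rfl) χ1 d1, hbad 0 (.inr rfl) _ hθd, hbad 1 (.inl rfl) χ2 d2⟩)
  rw [Finset.sum_insert (by simp [h1θ, h12]), Finset.sum_pair hθ2] at hb
  have hb' : ((p : ℝ) - 1) * (∑ χ, T χ).re + 2 * (H.e : ℝ) ≥ (p : ℝ) + 1 + 4 := by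
    have : (p : ℝ) + 1 + 4 ≤ w χ1 + (w H.θ + w χ2) := by rw [w1, wθ]; linarith
    exact le_trans this hb
  have key : (n : ℝ) * 6 ≤ 4 * H.e * ((p : ℝ) - 1) := by
    calc (n : ℝ) * 6 ≤ (n : ℝ) * (((p : ℝ) - 1) * (∑ χ, T χ).re) :=
          mul_le_mul_of_nonneg_left (by linarith) (Nat.cast_nonneg _)
      _ = _ := by rw [mul_left_comm, heqR]; ring
  have h5' : (2 : ℝ) * n < ((p : ℝ) + 1) * ((p : ℝ) + 2) := by
    have hp5 : (5 : ℝ) ≤ p := by exact_mod_cast h5
    rw [hpR] at key ⊢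
    nlinarith [sq_nonneg (H.e : ℝ), Nat.cast_nonneg (α := ℝ) H.e]
  exact_mod_cast h5'

end CfsgLib.Perm.UniqueP.Hyp
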