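/-
Prime degree with a trivial intersection complement of odd order: a `p`-adic form of a character of
degree `p + 1`.
-/
import Cfsg.Agent.Lib.Perm.UniqueP.Pairs
import Cfsg.Agent.Lib.Char.KIsotypic
import Cfsg.Agent.Lib.Char.Galois
import Cfsg.Agent.Lib.Char.PowTwist
import Cfsg.Agent.Lib.Rep.IntegralForm
import Mathlib.NumberTheory.Padics.Hensel
import Mathlib.NumberTheory.Padics.RingHoms

set_option autoImplicit false
set_option linter.unusedSectionVars false

namespace CfsgLib.Perm.UniqueP.Hyp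

open MulAction Cfsg CfsgLib.Char
open scoped ComplexConjugate

variable {α : Type*} [Fintype α] [DecidableEq α] {p : ℕ} [hp : Fact p.Prime]
  {G : Subgroup (Equiv.Perm α)} (H : Hyp G p)

include H

variable [Fintype G]

/-- The character of degree `p` has integral values. -/
theorem θ_int (g : G) : ∃ k : ℤ, (H.θ : G → ℂ) g = k := by
  have hint := isCharacter_isIntegral (isCharacter_irr H.θ) g
  refine exists_int_of_fixed hint fun φ => ?_
  obtain ⟨m, hm, hpow⟩ := exists_char_twist (G := G) φ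
  rw [hpow _ (isCharacter_irr H.θ) g _ rfl]
  let τ : IrrCharacter G := ⟨_, isIrrCharacter_powMap hm.symm H.θ⟩
  have hτ : τ = H.θ := H.eq_θ (by
    show charDegree (fun g => (H.θ : G → ℂ) (g ^ m)) = p
    have h := H.θ_degree
    rw [Cfsg.charDegree] at h ⊢
    simpa using h)
  exact congrFun (congrArg Subtype.val hτ) g

theorem r_add_one (ho : Odd H.e) (n : ℕ) : H.y ^ (H.r * n) * H.y ^ n = 1 := by
  rw [← H.t_conj, H.inverted ho H.t_mem H.t_not_mem (Subgroup.pow_mem _ H.toCtx.y_mem n), inv_mul_cancel]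

theorem z_pow_r (ho : Odd H.e) {z : ℂ} (hz : z ^ H.e = 1) (n : ℕ) : z ^ (H.r * n) * z ^ n = 1 := by
  rw [← pow_add]
  have h : H.e ∣ H.r * n + n := orderOf_dvd_of_pow_eq_one (by rw [pow_add]; exact H.r_add_one ho n)
  obtain ⟨k, hk⟩ := h
  rw [hk, pow_mul, hz, one_pow]

theorem z_ne_inv (ho : Odd H.e) {z : ℂ} (hz : z ^ H.e = 1) (h1 : z ≠ 1) : z ^ H.r ≠ z := by
  intro h
  have h2 : z ^ 2 = 1 := by
    have := H.z_pow_r ho hz 1
    rw [mul_one, pow_one, h] at this
    rwa [pow_two]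
  obtain ⟨k, hk⟩ := ho
  rw [hk, pow_succ, pow_mul, h2, one_pow, one_mul] at hz
  exact h1 hz

theorem chi_irr_odd (ho : Odd H.e) {z : ℂ} (hz : z ^ H.e = 1) (h1 : z ≠ 1) :
    IsIrrCharacter G (H.chi z) := H.chi_isIrr (.inl ho) hz h1 (H.z_ne_inv ho hz h1)

theorem chi_pow_odd (ho : Odd H.e) {z : ℂ} (hz : z ^ H.e = 1) {n : ℕ} (hn : H.y ^ n ≠ 1) :
    H.chi z (H.y ^ n) = z ^ n + (z ^ n)⁻¹ := by
  rw [H.chi_pow (.inl ho) hz hn, eq_inv_of_mul_eq_one_left (H.z_pow_r ho hz n)]

theorem pow_ne_one_of_mem_range {n : ℕ} (hn : n ∈ Finset.range H.e) (h0 : n ≠ 0) : H.y ^ n ≠ 1 := fun h => by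
  have := Nat.le_of_dvd (Nat.pos_of_ne_zero h0) (orderOf_dvd_of_pow_eq_one h)
  rw [Finset.mem_range, e] at hn
  omega

/-- Multiplicity of the character of degree `p + 1` in a character induced from the complement. -/
theorem inner_lam (ho : Odd H.e) {z w : ℂ} (hz : z ^ H.e = 1) (hw : w ^ H.e = 1) :
    classInner (indFun H.toCtx.E (H.lam w)) (H.chi z) =
      (H.e : ℂ)⁻¹ * ((p : ℂ) - 1 + ∑ n ∈ Finset.range H.e, ((w * z) ^ n + (w * z⁻¹) ^ n)) := by
  classical
  have hf : IsClassFunction G (H.chi z) := by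
    intro a b
    rw [chi_apply, chi_apply, isClassFunction_irr H.θ a b, H.isClassFunction_psi z a b]
  rw [classInner_indFun _ _ _ hf, classInner, H.sum_E, H.card_E]
  congr 1
  have h0 : 0 ∈ Finset.range H.e := Finset.mem_range.2 (by have := H.one_lt_e; omega)
  rw [← Finset.add_sum_erase _ _ h0, ← Finset.add_sum_erase _ _ h0, H.lam_pow hw _ rfl]
  simp only [pow_zero, H.chi_one hz, map_add, Complex.conj_natCast, map_one]
  rw [← add_assoc]
  refine congrArg₂ (· + ·) (by ring) (Finset.sum_congr rfl fun n hn => ?_)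
  rw [Finset.mem_erase] at hn
  rw [H.lam_pow hw _ rfl, H.chi_pow_odd ho hz (H.pow_ne_one_of_mem_range hn.2 hn.1)]
  have hn1 : ‖z ^ n‖ = 1 := by
    rw [norm_pow, Complex.norm_eq_one_of_pow_eq_one hz (by have := H.one_lt_e; omega), one_pow]
  have hc : conj (z ^ n) = (z ^ n)⁻¹ := by
    rw [Complex.inv_def, Complex.normSq_eq_norm_sq, hn1]; simp
  rw [map_add, map_inv₀, hc, inv_inv, mul_pow, mul_pow, inv_pow]
  ring

/-- The `p`-adic form. -/
theorem exists_padic (ho : Odd H.e) :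
    ∃ (w : ℤ_[p]) (R : G →* Matrix (Fin (p + 1)) (Fin (p + 1)) ℤ_[p]),
      w ^ H.e = 1 ∧ PadicInt.toZMod w = H.u ∧ (∀ g, p ∣ orderOf g → (R g).trace = 1) ∧
        ∀ n : ℕ, H.y ^ n ≠ 1 → (R (H.y ^ n)).trace = w ^ n + w ^ ((H.e - 1) * n) := by
  classical
  haveI : NeZero p := ⟨hp.out.ne_zero⟩
  have he0 : H.e ≠ 0 := by have := H.one_lt_e; omega
  have hue : H.u ^ H.e = 1 := (H.toCtx.y_pow_eq_one_iff H.e).1 (pow_orderOf_eq_one H.y)
  -- the root of unity over the residue
  obtain ⟨w, hw, hwu⟩ : ∃ w : ℤ_[p], w ^ H.e = 1 ∧ PadicInt.toZMod w = H.u := by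
    set F : Polynomial ℤ_[p] := Polynomial.X ^ H.e - 1 with hF
    have hker : ∀ x : ℤ_[p], ‖x‖ < 1 ↔ PadicInt.toZMod x = 0 := fun x => by
      rw [← RingHom.mem_ker, PadicInt.ker_toZMod]
      exact PadicInt.mem_nonunits.symm
    have ha : PadicInt.toZMod ((H.u.val : ℕ) : ℤ_[p]) = H.u := by rw [map_natCast, ZMod.natCast_zmod_val]
    have hd : ‖F.derivative.aeval ((H.u.val : ℕ) : ℤ_[p])‖ = 1 := by
      refine le_antisymm (PadicInt.norm_le_one _) (not_lt.1 fun h => ?_)
      rw [hker, hF] at h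
      simp only [Polynomial.derivative_sub, Polynomial.derivative_X_pow, Polynomial.derivative_one, sub_zero,
        Polynomial.coe_aeval_eq_eval, Polynomial.eval_mul, Polynomial.eval_C, Polynomial.eval_pow,
        Polynomial.eval_X, map_mul, map_pow, map_natCast, ha] at h
      rcases mul_eq_zero.1 h with h | h
      · rw [CharP.cast_eq_zero_iff (ZMod p) p] at h
        have := Nat.le_of_dvd (by omega) h
        have := H.e_le
        have := hp.out.two_le
        omega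
      · exact H.toCtx.u_ne_zero (eq_zero_of_pow_eq_zero h)
    have hF0 : ‖F.aeval ((H.u.val : ℕ) : ℤ_[p])‖ < ‖F.derivative.aeval ((H.u.val : ℕ) : ℤ_[p])‖ ^ 2 := by
      rw [hd, one_pow, hker, hF]
      simp only [map_sub, map_pow, map_one, Polynomial.aeval_X, ha, hue, sub_self]
    obtain ⟨w, hw, hwa, -⟩ := hensels_lemma hF0
    refine ⟨w, ?_, ?_⟩
    · rw [hF, map_sub, map_pow, Polynomial.aeval_X, map_one, sub_eq_zero] at hw
      exact hw
    · rw [hd, hker, map_sub, ha, sub_eq_zero] at hwa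
      exact hwa
  have hwp : ∀ n : ℕ, w ^ n = 1 → H.y ^ n = 1 := fun n h => by
    refine (H.toCtx.y_pow_eq_one_iff n).2 ?_
    show H.u ^ n = 1
    rw [← hwu, ← map_pow, h, map_one]
  -- the algebraic numbers inside
  let K₀ : IntermediateField ℚ ℚ_[p] := algebraicClosure ℚ ℚ_[p]
  haveI : Algebra.IsAlgebraic ℚ K₀ := algebraicClosure.isAlgebraic ℚ ℚ_[p]
  let φ : K₀ →ₐ[ℚ] ℂ := IsAlgClosed.lift
  letI : Algebra K₀ ℂ := φ.toRingHom.toAlgebra
  have hwK : (w : ℚ_[p]) ∈ K₀ := mem_algebraicClosure_iff'.2 (IsIntegral.of_pow (Nat.pos_of_ne_zero he0) (by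
    rw [← PadicInt.coe_pow, hw]; exact isIntegral_one))
  let w₀ : K₀ := ⟨(w : ℚ_[p]), hwK⟩
  have hw₀ : w₀ ^ H.e = 1 := Subtype.ext (by
    show (w : ℚ_[p]) ^ H.e = 1
    rw [← PadicInt.coe_pow, hw, PadicInt.coe_one])
  set z : ℂ := φ w₀ with hzdef
  have hz : z ^ H.e = 1 := by rw [hzdef, ← map_pow, hw₀, map_one]
  have hwinj : ∀ n, z ^ n = 1 → w ^ n = 1 := fun n h => by
    rw [hzdef, ← map_pow, ← map_one φ] at h
    have := congrArg Subtype.val (φ.injective h)
    exact Subtype.ext (by simpa [w₀] using this)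
  have h1 : z ≠ 1 := fun h => H.toCtx.y_ne_one (by
    have := hwp 1 (hwinj 1 (by rw [pow_one, h]))
    rwa [pow_one] at this)
  let S : Subfield ℂ := φ.toRingHom.fieldRange
  have hzS : z ∈ S := ⟨w₀, rfl⟩
  let χ : IrrCharacter G := ⟨H.chi z, H.chi_irr_odd ho hz h1⟩
  have hval : ∀ g, ∃ a : K₀, algebraMap K₀ ℂ a = (χ : G → ℂ) g := by
    intro g
    show H.chi z g ∈ S
    obtain ⟨k, hk⟩ := H.θ_int g
    rw [chi_apply, hk, psi, indFun]
    refine S.sub_mem (S.add_mem S.one_mem (intCast_mem S k)) (S.mul_mem (S.inv_mem (natCast_mem S _)) ?_)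
    refine Subfield.sum_mem S fun x _ => ?_
    by_cases hx : x⁻¹ * g * x ∈ H.toCtx.E
    · rw [extendByZero_mem _ _ hx]
      exact S.sub_mem S.one_mem (S.pow_mem hzS _)
    · rw [extendByZero_not_mem _ _ hx]
      exact S.zero_mem
  have hK : ∀ v : ℂ, v ^ H.e = 1 → v ∈ S → Splitting.IsKChar K₀ (indFun H.toCtx.E (H.lam v)) := by
    intro v hv hvS
    let f : H.toCtx.E →* ℂ :=
      { toFun := H.lam v
        map_one' := by rw [H.lam_pow hv 1 (n := 0) (by rw [pow_zero]; rfl), pow_zero]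
        map_mul' := fun a b => by
          rw [H.lam_pow hv (a * b) (n := H.idx a + H.idx b) (by rw [pow_add, H.pow_idx, H.pow_idx]; rfl),
            pow_add]
          rfl }
    exact Splitting.isKChar_indFun H.toCtx.E f.toHomUnits fun a => S.pow_mem hvS _
  obtain ⟨m, hm⟩ := H.e_dvd
  have hmC : (p : ℂ) - 1 = (H.e : ℂ) * (m : ℂ) := by
    rw [← Nat.cast_mul, ← hm, Nat.cast_sub hp.out.one_le, Nat.cast_one]
  have heC : (H.e : ℂ) ≠ 0 := Nat.cast_ne_zero.2 he0
  have hz0 : z ≠ 0 := fun h => by rw [h, zero_pow he0] at hz; exact zero_ne_one hz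
  have hz2 : z * z ≠ 1 := fun h => by
    obtain ⟨k, hk⟩ := ho
    rw [hk, pow_succ, pow_mul, pow_two, h, one_pow, one_mul] at hz
    exact h1 hz
  have i1 : classInner (indFun H.toCtx.E (H.lam 1)) (χ : G → ℂ) = (m : ℂ) := by
    show classInner _ (H.chi z) = _
    rw [H.inner_lam ho hz (one_pow _), Finset.sum_add_distrib, one_mul, one_mul, H.sum_root hz h1,
      H.sum_root (by rw [inv_pow, hz, inv_one]) (inv_ne_one.2 h1), hmC]
    field_simp
    ring
  have i2 : classInner (indFun H.toCtx.E (H.lam z)) (χ : G → ℂ) = ((m + 1 : ℕ) : ℂ) := by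
    show classInner _ (H.chi z) = _
    rw [H.inner_lam ho hz hz, Finset.sum_add_distrib, mul_inv_cancel₀ hz0,
      H.sum_root (by rw [mul_pow, hz, one_mul]) hz2, hmC]
    simp only [one_pow, Finset.sum_const, Finset.card_range, nsmul_eq_mul, mul_one, zero_add]
    push_cast
    field_simp
  have k1 := Splitting.isKChar_isotypic χ hval (hK 1 (one_pow _) S.one_mem) i1
  have k2 := Splitting.isKChar_isotypic χ hval (hK z hz hzS) i2
  obtain ⟨na, sa, hsa⟩ := k1
  obtain ⟨nb, sb, hsb⟩ := k2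
  obtain ⟨d, σ, hσ⟩ : Splitting.IsKChar K₀ (χ : G → ℂ) :=
    Splitting.isKChar_cancel (isCharacter_irr χ) sa sb fun g => by
      rw [hsa, hsb, Pi.smul_apply, Pi.smul_apply, smul_eq_mul, smul_eq_mul]
      push_cast
      ring
  have hd : d = p + 1 := by
    have h := hσ 1
    rw [Representation.char_one, Module.finrank_fin_fun, map_natCast] at h
    have h2 : ((d : ℕ) : ℂ) = ((p + 1 : ℕ) : ℂ) := by rw [h]; push_cast; exact H.chi_one hz
    exact Nat.cast_injective h2
  subst hd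
  let R₀ : G →* Matrix (Fin (p + 1)) (Fin (p + 1)) ℚ_[p] :=
    K₀.val.toRingHom.mapMatrix.toMonoidHom.comp
      ((LinearMap.toMatrixAlgEquiv' (R := K₀) (n := Fin (p + 1))).toMonoidHom.comp σ)
  obtain ⟨R, hR⟩ := CfsgLib.Rep.IntegralForm.exists_integral_form (A := ℤ_[p]) R₀
  have htr : ∀ (g : G) (a : K₀), φ a = (χ : G → ℂ) g → ((R g).trace : ℚ_[p]) = (a : ℚ_[p]) := by
    intro g a ha
    have hc : σ.character g = a := φ.injective ((hσ g).trans ha.symm)
    rw [← hc]
    have hm : σ.character g = (LinearMap.toMatrix' (σ g)).trace := by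
      show LinearMap.trace K₀ _ (σ g) = _
      rw [LinearMap.trace_eq_matrix_trace K₀ (Pi.basisFun K₀ _), LinearMap.toMatrix_eq_toMatrix']
    rw [hm]
    refine (hR g).trans ?_
    exact (AddMonoidHom.map_trace K₀.val.toRingHom.toAddMonoidHom _).symm
  refine ⟨w, R, hw, hwu, fun g hg => ?_, fun n hn => ?_⟩
  · have := htr g 1 (by rw [map_one]; exact (H.chi_singular hz hg).symm)
    exact Subtype.ext this
  · have hw1 : w ^ n * w ^ ((H.e - 1) * n) = 1 := by
      rw [← pow_add, show n + (H.e - 1) * n = H.e * n by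
        rw [Nat.sub_one_mul]; have := Nat.le_mul_of_pos_left n (Nat.pos_of_ne_zero he0); omega,
        pow_mul, hw, one_pow]
    have := htr (H.y ^ n) (w₀ ^ n + w₀ ^ ((H.e - 1) * n)) (by
      show φ _ = H.chi z (H.y ^ n)
      rw [H.chi_pow_odd ho hz hn, map_add, map_pow, map_pow, ← hzdef]
      congr 1
      refine eq_inv_of_mul_eq_one_right ?_
      rw [← pow_add, show n + (H.e - 1) * n = H.e * n by
        rw [Nat.sub_one_mul]; have := Nat.le_mul_of_pos_left n (Nat.pos_of_ne_zero he0); omega,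
        pow_mul, hz, one_pow])
    exact Subtype.ext (by rw [this]; push_cast; rfl)

end CfsgLib.Perm.UniqueP.Hyp
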