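/-
Prime degree with a trivial intersection complement of odd order: a special vector and a special
functional in the reduction of the character of degree `p + 1`.
-/
import Cfsg.Agent.Lib.Perm.UniqueP.OddField

set_option autoImplicit false
set_option linter.unusedSectionVars false

namespace CfsgLib.Perm.UniqueP.Hyp

open MulAction Matrix

variable {α : Type*} [Fintype α] [DecidableEq α] {p : ℕ} [hp : Fact p.Prime]
  {G : Subgroup (Equiv.Perm α)} (H : Hyp G p)

include H

/-- Sum over the translations. -/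
noncomputable def normX {A : Type*} [Semiring A] (R : G →* A) : A :=
  haveI : NeZero p := ⟨hp.out.ne_zero⟩
  ∑ i : ZMod p, R (H.toCtx.X i)

/-- Unnormalized projection on an eigenvalue of the generator of the complement. -/
noncomputable def projY {ι A : Type*} [Fintype ι] [DecidableEq ι] [CommRing A]
    (R : G →* Matrix ι ι A) (a : A) : Matrix ι ι A :=
  ∑ n ∈ Finset.range H.e, a ^ ((H.e - 1) * n) • R (H.y ^ n)

theorem x_normX {A : Type*} [Semiring A] (R : G →* A) (i : ZMod p) :
    R (H.toCtx.X i) * H.normX R = H.normX R := by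
  haveI : NeZero p := ⟨hp.out.ne_zero⟩
  rw [normX, Finset.mul_sum]
  refine Fintype.sum_bijective (fun j => i + j) (Equiv.addLeft i).bijective _ _ fun j => ?_
  rw [← map_mul, ← H.toCtx.X_add]

theorem normX_comm {A : Type*} [Semiring A] (R : G →* A) (n : ℕ) :
    R (H.y ^ n) * H.normX R = H.normX R * R (H.y ^ n) := by
  haveI : NeZero p := ⟨hp.out.ne_zero⟩
  rw [normX, Finset.mul_sum, Finset.sum_mul]
  have hu : (H.u ^ n) ≠ 0 := pow_ne_zero _ H.toCtx.u_ne_zero
  refine Fintype.sum_bijective (fun j => H.u ^ n * j) (mulLeft_bijective₀ _ hu) _ _ fun j => ?_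
  rw [← map_mul, ← map_mul, ← H.toCtx.y_pow_conj]
  congr 1
  exact (inv_mul_cancel_right _ _).symm

theorem y_projY {ι A : Type*} [Fintype ι] [DecidableEq ι] [CommRing A] (R : G →* Matrix ι ι A) {a : A}
    (ha : a ^ H.e = 1) : R H.y * H.projY R a = a • H.projY R a := by
  rw [projY, Finset.mul_sum, Finset.smul_sum]
  have he := H.one_lt_e
  obtain ⟨k, hk⟩ : ∃ k, H.e = k + 1 := ⟨H.e - 1, by omega⟩
  rw [hk, Finset.sum_range_succ, Finset.sum_range_succ', Nat.add_sub_cancel]
  refine congrArg₂ (· + ·) (Finset.sum_congr rfl fun n _ => ?_) ?_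
  · rw [mul_smul_comm, ← map_mul, ← pow_succ', smul_smul, ← pow_succ']
    congr 1
    rw [show k * (n + 1) + 1 = k * n + (k + 1) by ring, pow_add, ← hk, ha, mul_one]
  · rw [mul_smul_comm, ← map_mul, ← pow_succ', smul_smul, ← pow_succ', mul_zero,
      show H.y ^ (k + 1) = 1 by rw [← hk]; exact pow_orderOf_eq_one _, pow_zero]
    congr 1
    rw [zero_add, pow_one]
    obtain ⟨j, rfl⟩ : ∃ j, k = j + 1 := ⟨k - 1, by omega⟩
    rw [show (j + 1) * (j + 1) = (j + 1 + 1) * j + 1 by ring, pow_add, pow_mul, ← hk, ha, one_pow, one_mul,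
      pow_one]

theorem trace_normX_projY {A : Type*} [CommRing A] [IsDomain A] (R : G →* Matrix (Fin (p + 1)) (Fin (p + 1)) A)
    (ho : Odd H.e) {w a : A} (hw : w ^ H.e = 1) (hw1 : w ≠ 1) (ha : a = w ∨ a = w ^ (H.e - 1))
    (hs : ∀ g, p ∣ orderOf g → (R g).trace = 1)
    (hy : ∀ n : ℕ, H.y ^ n ≠ 1 → (R (H.y ^ n)).trace = w ^ n + w ^ ((H.e - 1) * n)) :
    (H.normX R * H.projY R a).trace = (p : A) * (H.e : A) := by
  classical
  haveI : NeZero p := ⟨hp.out.ne_zero⟩
  have he := H.one_lt_e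
  have h0 : 0 ∈ Finset.range H.e := Finset.mem_range.2 (by omega)
  rw [normX, projY, Finset.mul_sum, trace_sum, ← Finset.add_sum_erase _ _ h0]
  have t0 : ((∑ i : ZMod p, R (H.toCtx.X i)) * (a ^ ((H.e - 1) * 0) • R (H.y ^ 0))).trace = 2 * (p : A) := by
    rw [mul_zero, pow_zero, one_smul, pow_zero, map_one, mul_one, trace_sum,
      ← Finset.add_sum_erase _ _ (Finset.mem_univ (0 : ZMod p)), H.toCtx.X_zero, map_one, trace_one,
      Fintype.card_fin, Finset.sum_congr rfl (g := fun _ => (1 : A)) fun i hi => ?_]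
    · rw [Finset.sum_const, Finset.card_erase_of_mem (Finset.mem_univ _), Finset.card_univ, ZMod.card,
        nsmul_eq_mul, mul_one, Nat.cast_sub hp.out.one_le]
      push_cast
      ring
    · refine hs _ ?_
      have h1 : H.toCtx.X i ≠ 1 := fun h => (Finset.mem_erase.1 hi).1 (by
        have h2 : (fun j : ZMod p => H.toCtx.X j • H.toCtx.ω) i = (fun j : ZMod p => H.toCtx.X j • H.toCtx.ω) 0 := by
          simp only [h, H.toCtx.X_zero]
        exact H.toCtx.X_smul_ω_injective h2)
      have hd : orderOf (H.toCtx.X i) ∣ p := (orderOf_pow_dvd _).trans H.hx.dvd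
      exact (((Nat.dvd_prime hp.out).1 hd).resolve_left fun h => h1 (orderOf_eq_one_iff.1 h)).symm.dvd
  have tn : ∀ n ∈ (Finset.range H.e).erase 0, ((∑ i : ZMod p, R (H.toCtx.X i)) *
      (a ^ ((H.e - 1) * n) • R (H.y ^ n))).trace =
      (p : A) * (a ^ ((H.e - 1) * n) * (w ^ n + w ^ ((H.e - 1) * n))) := by
    intro n hn
    rw [Finset.mem_erase] at hn
    have hn1 := H.pow_ne_one_of_mem_range hn.2 hn.1
    rw [mul_smul_comm, trace_smul, Finset.sum_mul, trace_sum, smul_eq_mul,
      Finset.sum_congr rfl (g := fun _ => w ^ n + w ^ ((H.e - 1) * n)) fun i _ => ?_, Finset.sum_const,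
      Finset.card_univ, ZMod.card, nsmul_eq_mul]
    · ring
    obtain ⟨c, hc⟩ := isConj_iff.1 (H.toCtx.conj_section i hn1)
    rw [← map_mul, ← hc, map_mul, map_mul, trace_mul_cycle, ← map_mul, inv_mul_cancel, map_one, one_mul,
      hy n hn1]
  rw [Finset.sum_congr rfl tn, t0, ← Finset.mul_sum]
  have hwk : ∀ n, w ^ n * w ^ ((H.e - 1) * n) = 1 := fun n => by
    rw [← pow_add, show n + (H.e - 1) * n = H.e * n by
      rw [Nat.sub_one_mul]; have := Nat.le_mul_of_pos_left n (show 0 < H.e by omega); omega, pow_mul, hw, one_pow]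
  -- both choices give a geometric sum of the square
  obtain ⟨v, hv, hv1, hval⟩ : ∃ v : A, v ^ H.e = 1 ∧ v ≠ 1 ∧ ∀ n,
      a ^ ((H.e - 1) * n) * (w ^ n + w ^ ((H.e - 1) * n)) = 1 + v ^ n := by
    have hwne : w * w ≠ 1 := fun h => by
      obtain ⟨k, hk⟩ := ho
      rw [hk, pow_succ, pow_mul, pow_two, h, one_pow, one_mul] at hw
      exact hw1 hw
    rcases ha with rfl | rfl
    · refine ⟨a ^ (H.e - 1) * a ^ (H.e - 1), by rw [mul_pow, pow_right_comm, hw, one_pow, one_mul],
        fun h => ?_, fun n => ?_⟩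
      · have h1 := hwk 1
        rw [pow_one, mul_one] at h1
        apply hwne
        linear_combination (a * a) * h.symm + (a * a ^ (H.e - 1) + 1) * h1
      · rw [mul_add, mul_pow, ← pow_mul, mul_comm _ (a ^ n), hwk]
    · refine ⟨w * w, by rw [mul_pow, hw, one_mul], hwne, fun n => ?_⟩
      have h1 : (w ^ (H.e - 1)) ^ ((H.e - 1) * n) = w ^ n := by
        apply mul_right_cancel₀ (pow_ne_zero n (pow_ne_zero (H.e - 1) (fun h : w = 0 => by
          rw [h, zero_pow (by omega)] at hw; exact zero_ne_one hw)))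
        rw [← pow_add, show (H.e - 1) * n + n = H.e * n by
          rw [Nat.sub_one_mul]; have := Nat.le_mul_of_pos_left n (show 0 < H.e by omega); omega,
          pow_mul, ← pow_mul w, mul_comm (H.e - 1) H.e, pow_mul, hw, one_pow, one_pow, ← pow_mul w (H.e - 1) n, hwk]
      rw [h1, mul_add, hwk, mul_pow]
      ring
  simp only [hval]
  rw [Finset.sum_add_distrib, Finset.sum_const, Finset.card_erase_of_mem h0, Finset.card_range, nsmul_eq_mul,
    mul_one, Nat.cast_sub (by omega : 1 ≤ H.e)]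
  have hg : ∑ n ∈ (Finset.range H.e).erase 0, v ^ n = -1 := by
    have h1 := geom_sum_mul v H.e
    rw [hv, sub_self, mul_eq_zero, or_iff_left (sub_ne_zero.2 hv1), ← Finset.add_sum_erase _ _ h0, pow_zero] at h1
    linear_combination h1
  rw [hg]
  push_cast
  ring

/-- A fixed column with an eigenvalue. -/
theorem exists_eigen_fixed (ho : Odd H.e) (R : G →* Matrix (Fin (p + 1)) (Fin (p + 1)) ℤ_[p]) {w a : ℤ_[p]}
    (hw : w ^ H.e = 1) (hwu : PadicInt.toZMod w = H.u) (ha : a = w ∨ a = w ^ (H.e - 1))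
    (hs : ∀ g, p ∣ orderOf g → (R g).trace = 1)
    (hy : ∀ n : ℕ, H.y ^ n ≠ 1 → (R (H.y ^ n)).trace = w ^ n + w ^ ((H.e - 1) * n)) :
    ∃ c : Fin (p + 1) → ZMod p, c ≠ 0 ∧ (R H.x).map PadicInt.toZMod *ᵥ c = c ∧
      (R H.y).map PadicInt.toZMod *ᵥ c = PadicInt.toZMod a • c := by
  classical
  have he := H.one_lt_e
  have hw1 : w ≠ 1 := fun h => H.toCtx.u_ne_one (by rw [← hwu, h, map_one])
  have ha1 : a ^ H.e = 1 := by
    rcases ha with rfl | rfl
    · exact hw
    · rw [pow_right_comm, hw, one_pow]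
  set M := H.normX R * H.projY R a with hM
  have hM0 : M ≠ 0 := fun h => by
    have := H.trace_normX_projY R ho hw hw1 ha hs hy
    rw [← hM, h, trace_zero, eq_comm, mul_eq_zero, Nat.cast_eq_zero, Nat.cast_eq_zero] at this
    have := hp.out.ne_zero
    omega
  obtain ⟨j, hj⟩ : ∃ j, M.col j ≠ 0 := by
    by_contra hall
    push Not at hall
    exact hM0 (Matrix.ext fun i j => congrFun (hall j) i)
  set c := M.col j with hc
  have hx : R H.x *ᵥ c = c := by
    rw [hc, ← mulVec_single_one, mulVec_mulVec, hM, ← mul_assoc, ← H.toCtx.X_one, H.x_normX]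
  have hy' : R H.y *ᵥ c = a • c := by
    rw [hc, ← mulVec_single_one, mulVec_mulVec, hM, ← mul_assoc]
    nth_rewrite 1 [← pow_one H.y]
    rw [H.normX_comm, pow_one, mul_assoc, H.y_projY R ha1, mul_smul_comm, smul_mulVec]
  -- divide by the greatest power of `p`
  obtain ⟨i₀, hi₀⟩ := Function.ne_iff.1 hj
  obtain ⟨i₁, -, hmin⟩ := Finset.exists_max_image Finset.univ (fun i => ‖c i‖) ⟨i₀, Finset.mem_univ _⟩
  have hn0 : c i₁ ≠ 0 := fun h => hi₀ (norm_le_zero_iff.1 (by
    have := hmin i₀ (Finset.mem_univ _)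
    rwa [h, norm_zero] at this))
  have hdvd : ∀ i, ∃ d, c i = c i₁ * d := by
    intro i
    by_cases h : c i = 0
    · exact ⟨0, by rw [h, mul_zero]⟩
    refine dvd_def.1 ?_
    have h1 := hmin i (Finset.mem_univ _)
    rw [PadicInt.norm_eq_zpow_neg_valuation h, PadicInt.norm_eq_zpow_neg_valuation hn0,
      zpow_le_zpow_iff_right₀ (by exact_mod_cast hp.out.one_lt), neg_le_neg_iff, Nat.cast_le] at h1
    rw [PadicInt.unitCoeff_spec hn0, PadicInt.unitCoeff_spec h, Units.mul_left_dvd]
    exact dvd_mul_of_dvd_right (pow_dvd_pow _ h1) _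
  choose d hd using hdvd
  have hcd : c = c i₁ • d := funext fun i => by rw [Pi.smul_apply, smul_eq_mul, hd]
  have hd1 : d i₁ = 1 := by
    have := hd i₁
    exact (mul_left_cancel₀ hn0 (by rw [← this, mul_one])).symm
  refine ⟨fun i => PadicInt.toZMod (d i), fun h => ?_, ?_, ?_⟩
  · have := congrFun h i₁
    simp [hd1] at this
  · have h2 : R H.x *ᵥ d = d := by
      refine smul_right_injective _ hn0 ?_
      show c i₁ • (R H.x *ᵥ d) = c i₁ • d
      rw [← mulVec_smul, ← hcd, hx]
    funext i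
    exact (RingHom.map_mulVec _ _ _ i).symm.trans (by rw [h2])
  · have h2 : R H.y *ᵥ d = a • d := by
      refine smul_right_injective _ hn0 ?_
      show c i₁ • (R H.y *ᵥ d) = c i₁ • a • d
      rw [← mulVec_smul, ← hcd, hy', smul_comm, ← hcd]
    funext i
    refine (RingHom.map_mulVec _ _ _ i).symm.trans ?_
    rw [h2]
    simp

omit H in
theorem rank_step {F V : Type*} [Field F] [AddCommGroup V] [Module F V] [FiniteDimensional F V]
    (T : Module.End F V) {q : ℕ} (hT : T ^ q = 0) (h2 : 2 ≤ Module.finrank F (LinearMap.range (T ^ (q - 1)))) :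
    2 * q ≤ Module.finrank F V := by
  have key : ∀ k, k ≤ q → 2 * k ≤ Module.finrank F (LinearMap.range (T ^ (q - k))) := by
    intro k
    induction k with
    | zero => simp
    | succ k ih =>
      intro hk
      have h := ih (by omega)
      set S := LinearMap.range (T ^ (q - (k + 1))) with hS
      have hsucc : q - k = (q - (k + 1)) + 1 := by omega
      have hmap : S.map T = LinearMap.range (T ^ (q - k)) := by
        rw [hsucc, pow_succ', hS, ← LinearMap.range_comp]
        rfl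
      have hrn := LinearMap.finrank_range_add_finrank_ker (T.domRestrict S)
      rw [LinearMap.range_domRestrict, hmap] at hrn
      have hsub : Module.finrank F (LinearMap.range (T ^ (q - 1))) ≤
          Module.finrank F (LinearMap.ker (T.domRestrict S)) := by
        have hle : LinearMap.range (T ^ (q - 1)) ≤ S := by
          rw [hS, show q - 1 = (q - (k + 1)) + k by omega, pow_add]
          exact LinearMap.range_comp_le_range _ _
        let f : LinearMap.range (T ^ (q - 1)) →ₗ[F] LinearMap.ker (T.domRestrict S) :=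
          { toFun := fun v => ⟨⟨v.1, hle v.2⟩, by
              obtain ⟨u, hu⟩ := v.2
              show T v.1 = 0
              rw [← hu, ← Module.End.mul_apply, ← pow_succ', show q - 1 + 1 = q by omega, hT]
              rfl⟩
            map_add' := fun _ _ => rfl
            map_smul' := fun _ _ => rfl }
        exact LinearMap.finrank_le_finrank_of_injective (f := f) fun u v h => Subtype.ext
          (show u.1 = v.1 from congrArg (fun w : LinearMap.ker (T.domRestrict S) => w.1.1) h)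
      omega
  have h := key q le_rfl
  exact h.trans (Submodule.finrank_le _)

omit H in
/-- The transposed inverse. -/
noncomputable def dualRep {ι A : Type*} [Fintype ι] [DecidableEq ι] [CommRing A] (R : G →* Matrix ι ι A) :
    G →* Matrix ι ι A :=
  { toFun := fun g => (R g⁻¹)ᵀ
    map_one' := by rw [inv_one, map_one, transpose_one]
    map_mul' := fun g h => by rw [_root_.mul_inv_rev, map_mul, transpose_mul] }

omit H in
theorem dualRep_apply {ι A : Type*} [Fintype ι] [DecidableEq ι] [CommRing A] (R : G →* Matrix ι ι A) (g : G) :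
    dualRep R g = (R g⁻¹)ᵀ := rfl

/-- The special vector and functional. -/
theorem exists_vector (ho : Odd H.e) :
    ∃ (ρ : G →* Matrix (Fin (p + 1)) (Fin (p + 1)) (ZMod p)) (r v : Fin (p + 1) → ZMod p),
      (ρ H.y).trace = H.u + H.u⁻¹ ∧ H.normX ρ *ᵥ v = 0 ∧ ρ H.y *ᵥ v = H.u • v ∧
        r ᵥ* ρ H.x = r ∧ r ᵥ* ρ H.y = H.u • r ∧ r ⬝ᵥ v ≠ 0 := by
  classical
  haveI := Fintype.ofFinite G
  haveI : NeZero p := ⟨hp.out.ne_zero⟩
  obtain ⟨w, R, hw, hwu, hs, hy⟩ := H.exists_padic ho
  have he := H.one_lt_e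
  have hye : H.y ^ H.e = 1 := pow_orderOf_eq_one _
  have hue : H.u ^ H.e = 1 := (H.toCtx.y_pow_eq_one_iff H.e).1 hye
  have hu0 := H.toCtx.u_ne_zero
  have hui : H.u ^ (H.e - 1) = H.u⁻¹ := by
    refine eq_inv_of_mul_eq_one_left ?_
    rw [← pow_succ, Nat.sub_add_cancel (by omega), hue]
  have hs' : ∀ g, p ∣ orderOf g → (dualRep R g).trace = 1 := fun g hg => by
    rw [dualRep_apply, trace_transpose, hs _ (by rwa [orderOf_inv])]
  have hy' : ∀ n : ℕ, H.y ^ n ≠ 1 → (dualRep R (H.y ^ n)).trace = w ^ n + w ^ ((H.e - 1) * n) := by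
    intro n hn
    have hinv : (H.y ^ n)⁻¹ = H.y ^ ((H.e - 1) * n) := inv_eq_of_mul_eq_one_right (by
      rw [← pow_add, show n + (H.e - 1) * n = H.e * n by
        rw [Nat.sub_one_mul]; have := Nat.le_mul_of_pos_left n (show 0 < H.e by omega); omega,
        pow_mul, hye, one_pow])
    rw [dualRep_apply, trace_transpose, hinv, hy _ (hinv ▸ inv_ne_one.2 hn), ← mul_assoc, add_comm]
    congr 1
    obtain ⟨k, hk⟩ : ∃ k, H.e = k + 2 := ⟨H.e - 2, by omega⟩
    rw [hk, show k + 2 - 1 = k + 1 by omega,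
      show (k + 1) * (k + 1) * n = (k + 2) * (k * n) + n by ring, pow_add, pow_mul, ← hk, hw, one_pow, one_mul]
  let π : Matrix (Fin (p + 1)) (Fin (p + 1)) ℤ_[p] →* Matrix (Fin (p + 1)) (Fin (p + 1)) (ZMod p) :=
    (PadicInt.toZMod (p := p)).mapMatrix.toMonoidHom
  let ρ := π.comp R
  have hdual : π.comp (dualRep R) = dualRep ρ := MonoidHom.ext fun g => by
    show ((R g⁻¹)ᵀ).map (PadicInt.toZMod (p := p)) = ((R g⁻¹).map (PadicInt.toZMod (p := p)))ᵀ
    rw [transpose_map]
  -- a functional from a column of the dual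
  have hrow : ∀ S : G →* Matrix (Fin (p + 1)) (Fin (p + 1)) (ZMod p),
      ∀ c : Fin (p + 1) → ZMod p, dualRep S H.x *ᵥ c = c → dualRep S H.y *ᵥ c = H.u⁻¹ • c →
      c ᵥ* S H.x = c ∧ c ᵥ* S H.y = H.u • c := by
    intro S c h1 h2
    rw [dualRep_apply, mulVec_transpose] at h1 h2
    constructor
    · conv_lhs => rw [← h1]
      rw [vecMul_vecMul, ← map_mul, inv_mul_cancel, map_one, vecMul_one]
    · have h3 := congrArg (fun q => q ᵥ* S H.y) h2
      simp only [vecMul_vecMul, ← map_mul, inv_mul_cancel, map_one, vecMul_one, smul_vecMul] at h3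
      have h4 := congrArg (fun q => H.u • q) h3
      simp only [smul_smul, mul_inv_cancel₀ hu0, one_smul] at h4
      exact h4.symm
  have htrace : ∀ S : G →* Matrix (Fin (p + 1)) (Fin (p + 1)) ℤ_[p],
      (∀ n : ℕ, H.y ^ n ≠ 1 → (S (H.y ^ n)).trace = w ^ n + w ^ ((H.e - 1) * n)) →
      (π.comp S H.y).trace = H.u + H.u⁻¹ := fun S hS => by
    have h := congrArg PadicInt.toZMod (hS 1 (by rw [pow_one]; exact H.toCtx.y_ne_one))
    rw [pow_one] at h
    refine (AddMonoidHom.map_trace (PadicInt.toZMod (p := p)).toAddMonoidHom (S H.y)).symm.trans (h.trans ?_)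
    simp [hwu, hui]
  have heF : ((H.e : ℕ) : ZMod p) ≠ 0 := fun h => by
    rw [CharP.cast_eq_zero_iff (ZMod p) p] at h
    have := Nat.le_of_dvd (by omega) h
    have := H.e_le
    omega
  have huu : H.u ^ H.e = 1 := hue
  -- build the vector from a functional when the norm kills the eigenspace
  have build : ∀ S : G →* Matrix (Fin (p + 1)) (Fin (p + 1)) (ZMod p), ∀ r : Fin (p + 1) → ZMod p,
      r ≠ 0 → r ᵥ* S H.x = r → r ᵥ* S H.y = H.u • r → H.normX S * H.projY S H.u = 0 →
      ∃ v, H.normX S *ᵥ v = 0 ∧ S H.y *ᵥ v = H.u • v ∧ r ⬝ᵥ v ≠ 0 := by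
    intro S r hr hrx hry h0
    obtain ⟨i, hi⟩ := Function.ne_iff.1 hr
    refine ⟨H.projY S H.u *ᵥ Pi.single i 1, ?_, ?_, ?_⟩
    · rw [mulVec_mulVec, h0, zero_mulVec]
    · rw [mulVec_mulVec, H.y_projY S hue, smul_mulVec]
    · have hpow : ∀ n, r ᵥ* S (H.y ^ n) = H.u ^ n • r := by
        intro n
        induction n with
        | zero => rw [pow_zero, map_one, vecMul_one, pow_zero, one_smul]
        | succ n ih => rw [pow_succ, map_mul, ← vecMul_vecMul, ih, smul_vecMul, hry, smul_smul, ← pow_succ]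
      rw [dotProduct_mulVec, projY, vecMul_sum, Finset.sum_congr rfl (g := fun _ => r) fun n _ => ?_]
      · rw [Finset.sum_const, Finset.card_range, ← Nat.cast_smul_eq_nsmul (ZMod p), smul_dotProduct,
          dotProduct_single, mul_one, smul_eq_mul]
        exact mul_ne_zero heF hi
      · rw [vecMul_smul, hpow, smul_smul, ← pow_add, show (H.e - 1) * n + n = H.e * n by
          rw [Nat.sub_one_mul]; have := Nat.le_mul_of_pos_left n (show 0 < H.e by omega); omega,
          pow_mul, hue, one_pow, one_smul]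
  by_cases hA : H.normX ρ * H.projY ρ H.u = 0
  · obtain ⟨c, hc0, hcx, hcy⟩ := H.exists_eigen_fixed ho (dualRep R) hw hwu (.inr rfl) hs' hy'
    rw [map_pow, hwu, hui] at hcy
    obtain ⟨hrx, hry⟩ := hrow ρ c (by rw [← hdual]; exact hcx) (by rw [← hdual]; exact hcy)
    obtain ⟨v, hv1, hv2, hv3⟩ := build ρ c hc0 hrx hry hA
    exact ⟨ρ, c, v, htrace R hy, hv1, hv2, hrx, hry, hv3⟩
  by_cases hB : H.normX (dualRep ρ) * H.projY (dualRep ρ) H.u = 0
  · obtain ⟨c, hc0, hcx, hcy⟩ := H.exists_eigen_fixed ho R hw hwu (.inr rfl) hs hy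
    rw [map_pow, hwu, hui] at hcy
    have hdd : ∀ g, dualRep (dualRep ρ) g = ρ g := fun g => by
      rw [dualRep_apply, dualRep_apply, inv_inv, transpose_transpose]
    obtain ⟨hrx, hry⟩ := hrow (dualRep ρ) c (by rw [hdd]; exact hcx) (by rw [hdd]; exact hcy)
    obtain ⟨v, hv1, hv2, hv3⟩ := build (dualRep ρ) c hc0 hrx hry hB
    exact ⟨dualRep ρ, c, v, hdual ▸ htrace (dualRep R) hy', hv1, hv2, hrx, hry, hv3⟩
  exfalso
  -- two eigenvalues in the image of the norm
  have hui1 : (H.u⁻¹) ^ H.e = 1 := by rw [inv_pow, hue, inv_one]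
  have hNd : H.normX (dualRep ρ) = (H.normX ρ)ᵀ := by
    rw [normX, normX, transpose_sum]
    refine Fintype.sum_bijective (fun i => -i) (Equiv.neg _).bijective _ _ fun i => ?_
    rw [dualRep_apply, inv_eq_of_mul_eq_one_right (show H.toCtx.X i * H.toCtx.X (-i) = 1 by
      rw [← H.toCtx.X_add, add_neg_cancel, H.toCtx.X_zero])]
  have hPd : H.projY (dualRep ρ) H.u = (H.projY ρ H.u⁻¹)ᵀ := by
    rw [projY, projY, transpose_sum]
    refine Finset.sum_bij' (fun n _ => (H.e - 1) * n % H.e) (fun n _ => (H.e - 1) * n % H.e)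
      (fun n _ => Finset.mem_range.2 (Nat.mod_lt _ (by omega)))
      (fun n _ => Finset.mem_range.2 (Nat.mod_lt _ (by omega))) ?_ ?_ ?_
    iterate 2
      intro n hn
      rw [Finset.mem_range] at hn
      rw [Nat.mul_mod, Nat.mod_mod, ← Nat.mul_mod, ← mul_assoc]
      obtain ⟨k, hk⟩ : ∃ k, H.e = k + 2 := ⟨H.e - 2, by omega⟩
      rw [hk] at hn ⊢
      rw [show k + 2 - 1 = k + 1 by omega, show (k + 1) * (k + 1) * n = n + (k + 2) * (k * n) by ring,
        Nat.add_mul_mod_self_left, Nat.mod_eq_of_lt hn]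
    intro n _
    rw [transpose_smul, dualRep_apply]
    rw [← pow_eq_pow_mod _ hye, inv_eq_of_mul_eq_one_right (show H.y ^ n * H.y ^ ((H.e - 1) * n) = 1 by
      rw [← pow_add, show n + (H.e - 1) * n = H.e * n by
        rw [Nat.sub_one_mul]; have := Nat.le_mul_of_pos_left n (show 0 < H.e by omega); omega,
        pow_mul, hye, one_pow])]
    congr 1
    rw [inv_pow, mul_comm (H.e - 1) ((H.e - 1) * n % H.e), pow_mul H.u ((H.e - 1) * n % H.e), ← pow_eq_pow_mod _ hue]
    refine eq_inv_of_mul_eq_one_left ?_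
    rw [← pow_succ', Nat.sub_add_cancel (by omega), pow_right_comm, hue, one_pow]
  have hB' : H.normX ρ * H.projY ρ H.u⁻¹ ≠ 0 := by
    intro h
    refine hB ?_
    have hcm : Commute (H.normX ρ) (H.projY ρ H.u⁻¹) := Commute.sum_right _ _ _ fun n _ =>
      Commute.smul_right (H.normX_comm ρ n).symm _
    rw [hNd, hPd, ← transpose_mul, ← hcm.eq, h, transpose_zero]
  have eig : ∀ a : ZMod p, a ^ H.e = 1 → H.normX ρ * H.projY ρ a ≠ 0 →
      ∃ v, v ≠ 0 ∧ v ∈ LinearMap.range (Matrix.toLinAlgEquiv' (H.normX ρ)) ∧ ρ H.y *ᵥ v = a • v := by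
    intro a ha h
    obtain ⟨j, hj⟩ : ∃ j, (H.normX ρ * H.projY ρ a).col j ≠ 0 := by
      by_contra hall
      push Not at hall
      exact h (Matrix.ext fun i j => congrFun (hall j) i)
    rw [← mulVec_single_one, ← mulVec_mulVec] at hj
    refine ⟨_, hj, ⟨H.projY ρ a *ᵥ Pi.single j 1, rfl⟩, ?_⟩
    rw [mulVec_mulVec, mulVec_mulVec]
    nth_rewrite 1 [← pow_one H.y]
    rw [H.normX_comm, pow_one, mul_assoc, H.y_projY ρ ha, mul_smul_comm, smul_mulVec, mulVec_mulVec]
  obtain ⟨v₁, hv1, hm1, he1⟩ := eig H.u hue hA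
  obtain ⟨v₂, hv2, hm2, he2⟩ := eig H.u⁻¹ hui1 hB'
  have hne : H.u⁻¹ ≠ H.u := fun h => by
    have h2 : H.u ^ 2 = 1 := by
      rw [pow_two]
      nth_rewrite 1 [← h]
      exact inv_mul_cancel₀ hu0
    obtain ⟨k, hk⟩ := ho
    rw [hk, pow_succ, pow_mul, h2, one_pow, one_mul] at hue
    exact H.toCtx.u_ne_one hue
  set T : Module.End (ZMod p) (Fin (p + 1) → ZMod p) := Matrix.toLinAlgEquiv' (ρ H.x) - 1 with hT
  have hTp : T ^ p = 0 := by
    rw [hT, ← map_one (Matrix.toLinAlgEquiv' (R := ZMod p) (n := Fin (p + 1))), ← map_sub, ← map_pow,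
      sub_pow_char_of_commute _ (Commute.one_right _), one_pow, ← map_pow ρ,
      show H.x ^ p = 1 from (congrArg (H.x ^ ·) H.hx.symm).trans (pow_orderOf_eq_one _), map_one, sub_self, map_zero]
  have hTN : T ^ (p - 1) = Matrix.toLinAlgEquiv' (H.normX ρ) := by
    have hpoly : (∑ i ∈ Finset.range p, (Polynomial.X : Polynomial (ZMod p)) ^ i) =
        (Polynomial.X - 1) ^ (p - 1) := by
      have hx1 : (Polynomial.X - 1 : Polynomial (ZMod p)) ≠ 0 := by
        simpa using Polynomial.X_sub_C_ne_zero (1 : ZMod p)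
      apply mul_right_cancel₀ hx1
      rw [geom_sum_mul, ← pow_succ, Nat.sub_add_cancel hp.out.one_le, sub_pow_char, one_pow]
    have h := congrArg (Polynomial.aeval (Matrix.toLinAlgEquiv' (ρ H.x))) hpoly
    simp only [map_sum, map_pow, Polynomial.aeval_X, map_sub, map_one] at h
    rw [hT, ← h, normX, map_sum]
    refine Finset.sum_bij' (fun i _ => (i : ZMod p)) (fun i _ => i.val) (fun _ _ => Finset.mem_univ _)
      (fun i _ => Finset.mem_range.2 (ZMod.val_lt i))
      (fun i hi => ZMod.val_cast_of_lt (Finset.mem_range.1 hi)) (fun i _ => ZMod.natCast_zmod_val i)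
      (fun i hi => by rw [H.toCtx.X_nat, map_pow, map_pow])
  have h2 : 2 ≤ Module.finrank (ZMod p) (LinearMap.range (T ^ (p - 1))) := by
    rw [hTN]
    have hli : LinearIndependent (ZMod p) ![(⟨v₁, hm1⟩ : LinearMap.range (Matrix.toLinAlgEquiv' (H.normX ρ))),
        ⟨v₂, hm2⟩] := by
      rw [LinearIndependent.pair_iff]
      intro s t hst
      have hst' : s • v₁ + t • v₂ = 0 := congrArg Subtype.val hst
      have h3 := congrArg (ρ H.y *ᵥ ·) hst'
      simp only [mulVec_add, mulVec_smul, he1, he2, mulVec_zero, smul_smul] at h3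
      have h4 : (t * (H.u⁻¹ - H.u)) • v₂ = 0 := by
        have h5 : (s * H.u) • v₁ + (t * H.u) • v₂ = 0 := by
          rw [mul_comm s, mul_comm t, ← smul_smul, ← smul_smul, ← smul_add, hst', smul_zero]
        rw [mul_sub, sub_smul, sub_eq_zero]
        exact add_left_cancel (h3.trans h5.symm)
      have ht := ((smul_eq_zero.1 h4).resolve_right hv2)
      rw [mul_eq_zero, sub_eq_zero, or_iff_left hne] at ht
      rw [ht, zero_smul, add_zero] at hst'
      exact ⟨(smul_eq_zero.1 hst').resolve_right hv1, ht⟩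
    simpa using hli.fintype_card_le_finrank
  have h3 := rank_step T hTp h2
  rw [Module.finrank_fin_fun] at h3
  have := hp.out.two_le
  omega

end CfsgLib.Perm.UniqueP.Hyp
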