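/-
Prime degree with a trivial intersection complement of odd order: a faithful representation of
dimension at most three over the prime field.
-/
import Cfsg.Agent.Lib.Perm.UniqueP.OddVector
import Cfsg.Agent.Lib.Perm.Groups.HeartPrime

set_option autoImplicit false
set_option linter.unusedSectionVars false

namespace CfsgLib.Perm.UniqueP.Hyp

open MulAction Matrix

variable {α : Type*} [Fintype α] [DecidableEq α] {p : ℕ} [hp : Fact p.Prime]
  {G : Subgroup (Equiv.Perm α)} (H : Hyp G p)

include H

omit H in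
/-- Summing over a permutation of order `p`: only the fixed points count. -/
theorem sum_orbit_split {Q M : Type*} [AddCommMonoid M] [DecidableEq Q] (σ : Equiv.Perm Q)
    (hσ : σ ^ p = 1) (Φ : Q → M)
    (h0 : ∀ q, σ q ≠ q → ∑ i ∈ Finset.range p, Φ ((σ ^ i) q) = 0) (s : Finset Q)
    (hs : ∀ q, q ∈ s ↔ σ q ∈ s) :
    ∑ q ∈ s, Φ q = ∑ q ∈ s.filter (fun q => σ q = q), Φ q := by
  induction s using Finset.strongInduction with
  | H s ih =>
    by_cases hall : ∀ q ∈ s, σ q = q
    · rw [Finset.filter_true_of_mem hall]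
    push Not at hall
    obtain ⟨q, hq, hne⟩ := hall
    set O := (Finset.range p).image (fun i => (σ ^ i) q) with hO
    have hper : ∀ i j, i < j → j < p → (σ ^ i) q ≠ (σ ^ j) q := by
      intro i j hij hj h
      refine hne ?_
      have hd : (σ ^ (j - i)) q = q := by
        have h2 : (σ ^ j) q = (σ ^ i) ((σ ^ (j - i)) q) := by
          rw [← Equiv.Perm.mul_apply, ← pow_add, Nat.add_sub_cancel' hij.le]
        rw [← h] at h2
        exact ((σ ^ i).injective h2).symm
      obtain ⟨k, hk⟩ := exists_pow_eq_self_of_coprime (x := σ) (n := j - i) (by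
        have ho : orderOf σ ∣ p := orderOf_dvd_of_pow_eq_one hσ
        refine Nat.Coprime.coprime_dvd_right ho (Nat.coprime_comm.1 ((hp.out.coprime_iff_not_dvd).2 fun hd => ?_))
        have := Nat.le_of_dvd (by omega) hd
        omega)
      have hfix : ∀ m : ℕ, ((σ ^ (j - i)) ^ m) q = q := fun m => by
        induction m with
        | zero => rfl
        | succ m ih => rw [pow_succ, Equiv.Perm.mul_apply, hd, ih]
      have := hfix k
      rwa [hk] at this
    have hclosed : ∀ w ∈ O, σ w ∈ O := by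
      intro w hw
      rw [hO, Finset.mem_image] at hw ⊢
      obtain ⟨i, hi, rfl⟩ := hw
      rw [Finset.mem_range] at hi
      by_cases hlt : i + 1 < p
      · exact ⟨i + 1, Finset.mem_range.2 hlt, by rw [pow_succ', Equiv.Perm.mul_apply]⟩
      · refine ⟨0, Finset.mem_range.2 hp.out.pos, ?_⟩
        rw [← Equiv.Perm.mul_apply, ← pow_succ', show i + 1 = p by omega, hσ]
        rfl
    have hOs : O ⊆ s := by
      intro w hw
      rw [hO, Finset.mem_image] at hw
      obtain ⟨i, -, rfl⟩ := hw
      induction i with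
      | zero => exact hq
      | succ i ih' => rw [pow_succ', Equiv.Perm.mul_apply]; exact (hs _).1 ih'
    have hOinv : ∀ w, w ∈ O ↔ σ w ∈ O := by
      intro w
      refine ⟨hclosed w, fun h => ?_⟩
      have h2 : ∀ n : ℕ, (σ ^ n) (σ w) ∈ O := fun n => by
        induction n with
        | zero => exact h
        | succ n ih' => rw [pow_succ', Equiv.Perm.mul_apply]; exact hclosed _ ih'
      have := h2 (p - 1)
      rwa [← Equiv.Perm.mul_apply, ← pow_succ, Nat.sub_add_cancel hp.out.one_le, hσ] at this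
    have hfilt : O.filter (fun w => σ w = w) = ∅ := by
      rw [Finset.filter_eq_empty_iff]
      intro w hw h
      rw [hO, Finset.mem_image] at hw
      obtain ⟨i, -, rfl⟩ := hw
      refine hne ?_
      apply (σ ^ i).injective
      rw [← Equiv.Perm.mul_apply, ← pow_succ, pow_succ', Equiv.Perm.mul_apply, h]
    have hsum : ∑ w ∈ O, Φ w = 0 := by
      rw [hO, Finset.sum_image]
      · exact h0 q hne
      · intro i hi j hj h
        rw [Finset.mem_coe, Finset.mem_range] at hi hj
        rcases lt_trichotomy i j with hl | hl | hl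
        · exact absurd h (hper i j hl hj)
        · exact hl
        · exact absurd h.symm (hper j i hl hi)
    have hlt : s \ O ⊂ s := Finset.sdiff_ssubset hOs ⟨q, Finset.mem_image.2 ⟨0, Finset.mem_range.2 hp.out.pos, rfl⟩⟩
    rw [← Finset.sum_sdiff hOs, hsum, add_zero, ih _ hlt fun w => by
      rw [Finset.mem_sdiff, Finset.mem_sdiff, ← hs, ← hOinv]]
    congr 1
    ext w
    simp only [Finset.mem_filter, Finset.mem_sdiff]
    refine ⟨fun h => ⟨h.1.1, h.2⟩, fun h => ⟨⟨h.1, fun hw => ?_⟩, h.2⟩⟩
    exact (Finset.eq_empty_iff_forall_notMem.1 hfilt w) (Finset.mem_filter.2 ⟨hw, h.2⟩)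

/-- A faithful representation of dimension at most three over the prime field. -/
theorem exists_small (ho : Odd H.e) :
    ∃ (k : ℕ) (τ : Representation (ZMod p) G (Fin k → ZMod p)), k ≤ 3 ∧ Function.Injective τ := by
  classical
  haveI : NeZero p := ⟨hp.out.ne_zero⟩
  obtain ⟨ρ, r, v, htry, hNv, hyv, hrx, hry, hrv⟩ := H.exists_vector ho
  set C := H.toCtx
  let F := ZMod p
  let V := Fin (p + 1) → F
  let L : Representation F G V :=
    (Matrix.toLinAlgEquiv' (R := F) (n := Fin (p + 1))).toMonoidHom.comp ρ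
  have hL : ∀ g w, L g w = ρ g *ᵥ w := fun g w => rfl
  let P := Cfsg.permRep F G α
  -- the cocycle of the translations
  let Fc : ZMod p → V := fun i => ∑ j ∈ Finset.range i.val, ρ (H.x ^ j) *ᵥ v
  have hFsucc : ∀ i : ZMod p, Fc (i + 1) = v + ρ H.x *ᵥ Fc i := by
    intro i
    have hshift : v + ρ H.x *ᵥ Fc i = ∑ j ∈ Finset.range (i.val + 1), ρ (H.x ^ j) *ᵥ v := by
      rw [Finset.sum_range_succ', pow_zero, map_one, one_mulVec]
      refine (add_comm _ _).trans (congrArg (· + v) ?_)
      refine (mulVec_sum _ _ _).trans (Finset.sum_congr rfl fun j _ => ?_)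
      rw [mulVec_mulVec, ← map_mul, ← pow_succ']
    rw [hshift]
    haveI : Fact (1 < p) := ⟨hp.out.one_lt⟩
    by_cases hlt : i.val + 1 < p
    · show ∑ j ∈ Finset.range (i + 1).val, _ = _
      rw [ZMod.val_add, ZMod.val_one, Nat.mod_eq_of_lt hlt]
    · have heq : i.val + 1 = p := by have := ZMod.val_lt i; omega
      show ∑ j ∈ Finset.range (i + 1).val, _ = _
      rw [ZMod.val_add, ZMod.val_one, heq, Nat.mod_self, Finset.range_zero, Finset.sum_empty]
      rw [normX, sum_mulVec] at hNv
      rw [← hNv]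
      refine Finset.sum_bij' (fun i _ => i.val) (fun j _ => (j : ZMod p))
        (fun i _ => Finset.mem_range.2 (ZMod.val_lt i)) (fun _ _ => Finset.mem_univ _)
        (fun i _ => ZMod.natCast_zmod_val i) (fun j hj => ZMod.val_cast_of_lt (Finset.mem_range.1 hj))
        (fun i _ => rfl)
  have hrpow : ∀ j : ℕ, r ᵥ* ρ (H.x ^ j) = r := fun j => by
    induction j with
    | zero => rw [pow_zero, map_one, vecMul_one]
    | succ j ih => rw [pow_succ, map_mul, ← vecMul_vecMul, ih, hrx]
  have hrF : ∀ i : ZMod p, r ⬝ᵥ Fc i = i * (r ⬝ᵥ v) := by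
    intro i
    show r ⬝ᵥ ∑ j ∈ Finset.range i.val, ρ (H.x ^ j) *ᵥ v = _
    rw [dotProduct_sum, Finset.sum_congr rfl fun j _ => by rw [dotProduct_mulVec, hrpow], Finset.sum_const,
      Finset.card_range, nsmul_eq_mul, ZMod.natCast_zmod_val]
  let f0 : (α → F) →ₗ[F] V :=
    { toFun := fun c => ∑ i : ZMod p, c (C.pt i) • Fc i
      map_add' := fun a b => by simp [add_smul, Finset.sum_add_distrib]
      map_smul' := fun a b => by simp [smul_smul, Finset.smul_sum] }
  let Z : Submodule F (α → F) := (Cfsg.permSumZero F G α).toSubmodule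
  have hZ : ∀ c, c ∈ Z ↔ ∑ i : ZMod p, c (C.pt i) = 0 := fun c => by
    rw [Heart.mem_sumZero, C.pt.sum_comp c]
  have hZinv : ∀ g c, c ∈ Z → P g c ∈ Z := fun g c hc => (Cfsg.permSumZero F G α).apply_mem_toSubmodule g hc
  have hPpt : ∀ (j i : ZMod p) c, P (C.X j) c (C.pt i) = c (C.pt (i - j)) := by
    intro j i c
    show c ((C.X j)⁻¹ • C.pt i) = _
    congr 1
    rw [inv_smul_eq_iff, C.X_smul_pt, add_sub_cancel]
  have hf0x : ∀ c ∈ Z, f0 (P H.x c) = ρ H.x *ᵥ f0 c := by
    intro c hc
    show ∑ i, P H.x c (C.pt i) • Fc i = ρ H.x *ᵥ ∑ i, c (C.pt i) • Fc i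
    rw [← C.X_one, mulVec_sum]
    rw [Fintype.sum_bijective (fun i => i - 1) (Equiv.subRight (1 : ZMod p)).bijective _
      (fun i => c (C.pt i) • Fc (i + 1)) fun i => by rw [sub_add_cancel, hPpt]]
    simp only [hFsucc, smul_add, Finset.sum_add_distrib, ← Finset.sum_smul, (hZ c).1 hc, zero_smul, zero_add,
      C.X_one]
    exact Finset.sum_congr rfl fun i _ => (mulVec_smul _ _ _).symm
  have hf0X : ∀ n : ℕ, ∀ c ∈ Z, f0 (P (H.x ^ n) c) = ρ (H.x ^ n) *ᵥ f0 c := by
    intro n
    induction n with
    | zero => intro c _; rw [pow_zero, map_one, map_one, Module.End.one_apply, one_mulVec]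
    | succ n ih =>
      intro c hc
      rw [pow_succ, map_mul, map_mul, Module.End.mul_apply, ih _ (hZinv _ _ hc), hf0x c hc, mulVec_mulVec]
  -- averaging over the cosets
  let A : G → (α → F) →ₗ[F] V := fun g => (L g).comp (f0.comp (P g⁻¹))
  have hA : ∀ g c, A g c = ρ g *ᵥ f0 (P g⁻¹ c) := fun g c => rfl
  have hAright : ∀ g h, h ∈ Subgroup.zpowers H.x → ∀ c ∈ Z, A (g * h) c = A g c := by
    intro g h hh c hc
    obtain ⟨i, rfl⟩ := C.exists_X hh
    rw [hA, hA, show (g * C.X i)⁻¹ = C.X (-i) * g⁻¹ by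
      rw [_root_.mul_inv_rev, inv_eq_of_mul_eq_one_right (show C.X i * C.X (-i) = 1 by
        rw [← C.X_add, add_neg_cancel, C.X_zero])], map_mul P, Module.End.mul_apply,
      show C.X (-i) = H.x ^ (-i).val from rfl, hf0X _ _ (hZinv _ _ hc), mulVec_mulVec, ← map_mul,
      mul_assoc g, show H.x ^ (-i).val = C.X (-i) from rfl, ← C.X_add, add_neg_cancel, C.X_zero, mul_one]
  have hAleft : ∀ h g c, A (h * g) (P h c) = ρ h *ᵥ A g c := by
    intro h g c
    rw [hA, hA, mulVec_mulVec, ← map_mul, ← Module.End.mul_apply, ← map_mul P, _root_.mul_inv_rev,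
      mul_assoc, inv_mul_cancel, mul_one]
  haveI : Fintype (G ⧸ Subgroup.zpowers H.x) := Fintype.ofFinite _
  let f : (α → F) →ₗ[F] V := ∑ q : G ⧸ Subgroup.zpowers H.x, A q.out
  have hf : ∀ c, f c = ∑ q : G ⧸ Subgroup.zpowers H.x, A q.out c := fun c => by simp [f]
  have hout : ∀ (g : G) (c : α → F), c ∈ Z → A (QuotientGroup.mk g : G ⧸ Subgroup.zpowers H.x).out c = A g c := by
    intro g c hc
    obtain ⟨⟨h, hh⟩, he⟩ := QuotientGroup.mk_out_eq_mul (Subgroup.zpowers H.x) g
    rw [he]
    exact hAright g h hh c hc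
  have hfeq : ∀ (g : G) (c : α → F), c ∈ Z → f (P g c) = ρ g *ᵥ f c := by
    intro g c hc
    rw [hf, hf, mulVec_sum]
    refine (Fintype.sum_bijective (fun q => g • q) (MulAction.bijective g) _ _ fun q => ?_).symm
    rw [← hAleft]
    have : (g • q : G ⧸ Subgroup.zpowers H.x) = QuotientGroup.mk (g * q.out) := by
      conv_lhs => rw [← QuotientGroup.out_eq' q]
      rfl
    rw [this, hout _ _ (hZinv _ _ hc)]
  -- the test vector
  let δ : α → F := Pi.single H.ω 1
  let z0 : α → F := P H.x δ - δ
  have hz0 : z0 ∈ Z := by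
    rw [hZ]
    simp only [z0, Pi.sub_apply, Finset.sum_sub_distrib]
    rw [← C.X_one, sub_eq_zero]
    refine Fintype.sum_bijective (fun i => i - 1) (Equiv.subRight (1 : ZMod p)).bijective _ _ fun i => ?_
    rw [hPpt]
  have hrf : r ⬝ᵥ f z0 ≠ 0 := by
    let Q := G ⧸ Subgroup.zpowers H.x
    let σ : Equiv.Perm Q := MulAction.toPermHom G Q H.x
    have hσ : σ ^ p = 1 := by
      rw [← map_pow, show H.x ^ p = 1 from (congrArg (H.x ^ ·) H.hx.symm).trans (pow_orderOf_eq_one _), map_one]
    have hσi : ∀ (i : ℕ) (q : Q), (σ ^ i) q = H.x ^ i • q := fun i q => by rw [← map_pow]; rfl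
    have hfixed : ∀ q : Q, σ q = q → r ⬝ᵥ A q.out z0 = r ⬝ᵥ v := by
      intro q hq
      have hn : q.out ∈ Subgroup.normalizer (Subgroup.zpowers H.x : Set G) := by
        have h1 : QuotientGroup.mk (H.x * q.out) = (QuotientGroup.mk q.out : Q) := by
          have h2 : σ q = q := hq
          rw [← QuotientGroup.out_eq' q] at h2
          exact h2
        rw [eq_comm, QuotientGroup.eq] at h1
        have hle : (Subgroup.zpowers H.x).map (MulAut.conj q.out⁻¹).toMonoidHom ≤ Subgroup.zpowers H.x := by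
          rw [MonoidHom.map_zpowers, Subgroup.zpowers_le]
          show q.out⁻¹ * H.x * q.out⁻¹⁻¹ ∈ _
          rw [inv_inv, mul_assoc]
          exact h1
        have heq := Subgroup.eq_of_le_of_card_ge hle
          (le_of_eq (Nat.card_congr ((Subgroup.zpowers H.x).equivMapOfInjective _ (MulEquiv.injective _)).toEquiv))
        have hinv : q.out⁻¹ ∈ Subgroup.normalizer (Subgroup.zpowers H.x : Set G) := by
          rw [Subgroup.mem_normalizer_iff]
          intro h
          constructor
          · intro hh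
            exact hle ⟨h, hh, rfl⟩
          · intro hh
            obtain ⟨h', hh', he⟩ := heq.symm.le hh
            have : h' = h := (MulAut.conj q.out⁻¹).injective he
            exact this ▸ hh'
        simpa using inv_mem hinv
      obtain ⟨i, n, hin⟩ := C.exists_eq_of_mem hn
      have hh : H.y ^ n * C.X ((H.u ^ n)⁻¹ * i) = q.out := by
        rw [hin]
        have := C.y_pow_conj n ((H.u ^ n)⁻¹ * i)
        rw [← mul_assoc (H.u ^ n), mul_inv_cancel₀ (pow_ne_zero _ C.u_ne_zero), one_mul] at this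
        rw [← this]
        group
        rfl
      rw [← hh, hAright _ _ (C.X_mem _) _ hz0, hA, dotProduct_mulVec]
      have hrn : r ᵥ* ρ (H.y ^ n) = H.u ^ n • r := by
        clear hin hh
        induction n with
        | zero => rw [pow_zero, map_one, vecMul_one, pow_zero, one_smul]
        | succ n ih => rw [pow_succ, map_mul, ← vecMul_vecMul, ih, smul_vecMul, hry, smul_smul, ← pow_succ]
      rw [hrn, smul_dotProduct, smul_eq_mul]
      have hval : ∀ i : ZMod p, P (H.y ^ n)⁻¹ z0 (C.pt i) =
          (if i = (H.u ^ n)⁻¹ then 1 else 0) - (if i = 0 then 1 else 0) := by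
        intro i
        show z0 (((H.y ^ n)⁻¹)⁻¹ • C.pt i) = _
        rw [inv_inv, C.y_smul_pt]
        show P H.x δ (C.pt (H.u ^ n * i)) - δ (C.pt (H.u ^ n * i)) = _
        rw [← C.X_one, hPpt]
        have hδ : ∀ j, δ (C.pt j) = if j = 0 then 1 else 0 := fun j => by
          have hω : H.ω = C.pt 0 := by rw [C.pt_apply, C.X_zero, one_smul]
          simp only [δ, Pi.single_apply, hω, C.pt.injective.eq_iff]
        rw [hδ, hδ]
        have hun := pow_ne_zero n C.u_ne_zero
        simp only [sub_eq_zero, mul_eq_zero, show H.u ^ n ≠ 0 from hun, false_or]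
        congr 1
        by_cases h : i = (H.u ^ n)⁻¹
        · rw [if_pos h, if_pos (by rw [h, mul_inv_cancel₀ hun])]
        · rw [if_neg h, if_neg fun h2 => h (eq_inv_of_mul_eq_one_right h2)]
      have : f0 (P (H.y ^ n)⁻¹ z0) = Fc (H.u ^ n)⁻¹ - Fc 0 := by
        show ∑ i, P (H.y ^ n)⁻¹ z0 (C.pt i) • Fc i = _
        simp only [hval, sub_smul, Finset.sum_sub_distrib, ite_smul, one_smul, zero_smul, Finset.sum_ite_eq',
          Finset.mem_univ, if_true]
      rw [this, dotProduct_sub, hrF, hrF, zero_mul, sub_zero, ← mul_assoc,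
        mul_inv_cancel₀ (pow_ne_zero _ C.u_ne_zero), one_mul]
    have hfree : ∀ q : Q, ∑ i ∈ Finset.range p, r ⬝ᵥ A ((σ ^ i) q).out z0 = 0 := by
      intro q
      have hone : ∀ i ∈ Finset.range p, r ⬝ᵥ A ((σ ^ i) q).out z0 =
          r ⬝ᵥ A q.out (P (H.x ^ i)⁻¹ z0) := by
        intro i _
        have hq' : (σ ^ i) q = QuotientGroup.mk (H.x ^ i * q.out) := by
          rw [hσi]
          conv_lhs => rw [← QuotientGroup.out_eq' q]
          rfl
        rw [hq', hout _ _ hz0]
        have h2 := hAleft (H.x ^ i) q.out (P (H.x ^ i)⁻¹ z0)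
        rw [← Module.End.mul_apply, ← map_mul P, mul_inv_cancel, map_one, Module.End.one_apply] at h2
        rw [h2, dotProduct_mulVec]
        rw [hrpow]
      rw [Finset.sum_congr rfl hone, ← dotProduct_sum, ← map_sum]
      have hs : ∑ i ∈ Finset.range p, P (H.x ^ i)⁻¹ z0 = 0 := by
        funext a
        obtain ⟨j, rfl⟩ := C.pt.surjective a
        rw [Finset.sum_apply, Pi.zero_apply, ← (hZ z0).1 hz0]
        refine Finset.sum_bij' (fun i _ => (j + (i : ZMod p))) (fun k _ => (k - j).val)
          (fun _ _ => Finset.mem_univ _) (fun k _ => Finset.mem_range.2 (ZMod.val_lt _))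
          (fun i hi => by rw [add_sub_cancel_left, ZMod.val_cast_of_lt (Finset.mem_range.1 hi)])
          (fun k _ => by rw [ZMod.natCast_zmod_val, add_sub_cancel]) fun i hi => ?_
        show z0 (((H.x ^ i)⁻¹)⁻¹ • C.pt j) = _
        rw [inv_inv, ← C.X_nat, C.X_smul_pt, add_comm]
      rw [hs, map_zero, dotProduct_zero]
    rw [hf, dotProduct_sum, sum_orbit_split σ hσ (fun q : Q => r ⬝ᵥ A q.out z0) (fun q _ => hfree q)
      Finset.univ (fun q => by simp), Finset.sum_congr rfl fun q hq => hfixed q (Finset.mem_filter.1 hq).2,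
      Finset.sum_const, ← Nat.cast_smul_eq_nsmul (ZMod p), smul_eq_mul]
    refine mul_ne_zero ?_ hrv
    have h1 := sum_orbit_split σ hσ (fun _ : Q => (1 : ZMod p)) (fun q _ => by
      rw [Finset.sum_const, Finset.card_range, nsmul_eq_mul, ZMod.natCast_self, zero_mul]) Finset.univ (by simp)
    rw [Finset.sum_const, Finset.sum_const, nsmul_eq_mul, nsmul_eq_mul, mul_one, mul_one] at h1
    rw [← h1, Finset.card_univ, ← Nat.card_eq_fintype_card]
    intro h
    rw [CharP.cast_eq_zero_iff (ZMod p) p] at h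
    refine H.hsyl ?_
    rw [Subgroup.card_eq_card_quotient_mul_card_subgroup (Subgroup.zpowers H.x), Nat.card_zpowers, H.hx, pow_two]
    exact mul_dvd_mul h dvd_rfl
  haveI : IsPretransitive G α := TwoP.transitive_of_order H.hα H.hx
  haveI : Nonempty α := ⟨H.ω⟩
  obtain ⟨Sy, hSy⟩ := C.isSylow
  haveI : IsPretransitive (Sy : Subgroup G) α := Heart.sylow_transitive (f := 1) (by rw [H.hα, pow_one]) Sy
  -- the kernel
  let W : Subrepresentation P := ⟨LinearMap.ker f ⊓ Z, fun g c hc => ⟨by
    show f (P g c) = 0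
    rw [hfeq g c hc.2, show f c = 0 from hc.1, mulVec_zero], hZinv g c hc.2⟩⟩
  let evω : (α → F) →ₗ[F] F := LinearMap.proj H.ω
  let S : Submodule F (α → F) := if W.toSubmodule = ⊥ then Z else Z ⊓ LinearMap.ker evω
  have hωpt : H.ω = C.pt 0 := by rw [C.pt_apply, C.X_zero, one_smul]
  have hSZ : S ≤ Z := by
    simp only [S]; split_ifs
    · exact le_rfl
    · exact inf_le_left
  have hconst : W.toSubmodule ≠ ⊥ → ∀ c, c ∈ W.toSubmodule ↔ ∃ a : F, c = fun _ => a := by
    intro hne c
    have h1 := Heart.one_mem F p (Sy : Subgroup G) Sy.isPGroup' W.toSubmodule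
      (fun g w hw => W.apply_mem_toSubmodule g hw) hne
    have hle : (Cfsg.permConstants F G α).toSubmodule ≤ W.toSubmodule := by
      intro w hw
      obtain ⟨a, rfl⟩ := Heart.mem_constants.1 hw
      have := W.toSubmodule.smul_mem a h1
      convert this using 1
      funext x
      simp
    rcases Heart.heart_irreducible H.hα G H.hins W hle inf_le_right with h | h
    · rw [h]; exact Heart.mem_constants
    · exfalso
      apply hrf
      have : z0 ∈ W.toSubmodule := by rw [h]; exact hz0
      rw [LinearMap.mem_ker.1 this.1, dotProduct_zero]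
  have hSinj : ∀ c ∈ S, f c = 0 → c = 0 := by
    intro c hc h
    by_cases hW : W.toSubmodule = ⊥
    · have : c ∈ W.toSubmodule := ⟨h, hSZ hc⟩
      rwa [hW, Submodule.mem_bot] at this
    · simp only [S, if_neg hW] at hc
      obtain ⟨a, rfl⟩ := (hconst hW c).1 ⟨h, hc.1⟩
      have ha : a = 0 := hc.2
      rw [ha]; rfl
  have himage : ∀ c ∈ Z, ∃ s ∈ S, f s = f c := by
    intro c hc
    by_cases hW : W.toSubmodule = ⊥
    · exact ⟨c, by simp only [S, if_pos hW]; exact hc, rfl⟩
    · have hk : (fun _ : α => c H.ω) ∈ W.toSubmodule := (hconst hW _).2 ⟨_, rfl⟩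
      refine ⟨c - fun _ => c H.ω, ?_, by rw [map_sub, LinearMap.mem_ker.1 hk.1, sub_zero]⟩
      simp only [S, if_neg hW]
      exact ⟨sub_mem hc hk.2, by simp [evω]⟩
  let I : Submodule F V := Z.map f
  have hIinv : ∀ g w, w ∈ I → L g w ∈ I := by
    rintro g _ ⟨c, hc, rfl⟩
    exact ⟨P g c, hZinv g c hc, by rw [hfeq g c hc]; rfl⟩
  have hIS : I = S.map f := le_antisymm (by
    rintro _ ⟨c, hc, rfl⟩
    obtain ⟨s, hs, he⟩ := himage c hc
    exact ⟨s, hs, he⟩) (Submodule.map_mono hSZ)
  let eS : S ≃ₗ[F] I := (LinearEquiv.ofInjective (f.domRestrict S) (fun a b h => Subtype.ext (sub_eq_zero.1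
    (hSinj _ (sub_mem a.2 b.2) (by rw [map_sub, sub_eq_zero]; exact h))))).trans
    (LinearEquiv.ofEq _ _ (by rw [LinearMap.range_domRestrict, hIS]))
  have hdim : p - 2 ≤ Module.finrank F S := by
    let ev : (α → F) →ₗ[F] F × F := (∑ a : α, (LinearMap.proj a : (α → F) →ₗ[F] F)).prod evω
    have hle : LinearMap.ker ev ≤ S := by
      intro c hc
      rw [LinearMap.mem_ker] at hc
      have h1 : c ∈ Z := by
        rw [Heart.mem_sumZero]
        simpa [ev] using congrArg Prod.fst hc
      simp only [S]; split_ifs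
      · exact h1
      · exact ⟨h1, LinearMap.mem_ker.2 (congrArg Prod.snd hc)⟩
    have h1 := LinearMap.finrank_range_add_finrank_ker ev
    have h2 := Submodule.finrank_le (LinearMap.range ev)
    have h3 := Submodule.finrank_mono hle
    rw [Module.finrank_prod, Module.finrank_self] at h2
    rw [Module.finrank_pi, H.hα] at h1
    omega
  let T0 : Representation F G (V ⧸ I) :=
    { toFun := fun g => I.mapQ I (L g) (fun w hw => hIinv g w hw)
      map_one' := by
        ext w
        simp [map_one]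
      map_mul' := fun g h => by
        ext w
        simp [map_mul] }
  have hQdim : Module.finrank F (V ⧸ I) ≤ 3 := by
    have h1 := I.finrank_quotient_add_finrank
    rw [Module.finrank_fin_fun, ← eS.finrank_eq] at h1
    omega
  have hnt : T0 H.y ≠ 1 := by
    intro h1
    let D : Module.End F V := L H.y - 1
    have hD : ∀ w, D w ∈ I := by
      intro w
      have := LinearMap.congr_fun h1 (Submodule.Quotient.mk w)
      exact (Submodule.Quotient.eq I).1 this
    let D' : Module.End F (α → F) := P H.y - 1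
    have hD' : ∀ c, D' c ∈ Z ⊓ LinearMap.ker evω := by
      intro c
      refine ⟨?_, ?_⟩
      · show D' c ∈ Z
        rw [Heart.mem_sumZero]
        show ∑ a, (c (H.y⁻¹ • a) - c a) = 0
        rw [Finset.sum_sub_distrib, sub_eq_zero]
        exact Fintype.sum_bijective (fun a => H.y⁻¹ • a) (MulAction.bijective _) _ _ fun a => rfl
      · show c (H.y⁻¹ • H.ω) - c H.ω = 0
        rw [inv_smul_eq_iff.2 H.hyω.symm, sub_self]
    have hD'S : ∀ c, D' c ∈ S := by
      intro c
      simp only [S]; split_ifs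
      · exact (hD' c).1
      · exact hD' c
    have t1 := LinearMap.trace_restrict_eq_of_forall_mem I D hD
    have t2 := LinearMap.trace_restrict_eq_of_forall_mem S D' hD'S
    have hconj : D.restrict (fun w (_ : w ∈ I) => hD w) = eS.conj (D'.restrict (fun w (_ : w ∈ S) => hD'S w)) := by
      refine LinearMap.ext fun w => ?_
      obtain ⟨s, rfl⟩ := eS.surjective w
      rw [LinearEquiv.conj_apply_apply, LinearEquiv.symm_apply_apply]
      apply Subtype.ext
      show ρ H.y *ᵥ f s.1 - f s.1 = f (P H.y s.1 - s.1)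
      rw [map_sub, hfeq _ _ (hSZ s.2)]
    rw [hconj, LinearMap.trace_conj', t2] at t1
    have hp0 : ((p : ℕ) : F) = 0 := ZMod.natCast_self p
    have e1 : LinearMap.trace F V D = H.u + H.u⁻¹ - 1 := by
      simp only [D, map_sub, LinearMap.trace_one, show Module.finrank F V = p + 1 from Module.finrank_fin_fun F]
      rw [show LinearMap.trace F V (L H.y) = (ρ H.y).trace from Matrix.trace_toLin'_eq _, htry]
      push_cast
      rw [hp0, zero_add]
    have e2 : LinearMap.trace F (α → F) D' = 1 := by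
      simp only [D', map_sub, LinearMap.trace_one, Module.finrank_pi, H.hα, hp0, sub_zero]
      rw [LinearMap.trace_eq_matrix_trace F (Pi.basisFun F α), LinearMap.toMatrix_eq_toMatrix', Matrix.trace]
      rw [Finset.sum_eq_single H.ω]
      · show LinearMap.toMatrix' (P H.y) H.ω H.ω = 1
        rw [LinearMap.toMatrix'_apply]
        show (Pi.single H.ω (1 : F) : α → F) (H.y⁻¹ • H.ω) = 1
        rw [inv_smul_eq_iff.2 H.hyω.symm, Pi.single_eq_same]
      · intro a _ ha
        show LinearMap.toMatrix' (P H.y) a a = 0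
        rw [LinearMap.toMatrix'_apply]
        show (Pi.single a (1 : F) : α → F) (H.y⁻¹ • a) = 0
        refine Pi.single_eq_of_ne (fun h => ?_) _
        obtain ⟨i, rfl⟩ := C.pt.surjective a
        have h' : C.y ^ 1 • C.pt i = C.pt i := by rw [pow_one]; exact smul_eq_iff_eq_inv_smul _ |>.2 h.symm
        rw [C.y_smul_pt, C.pt.injective.eq_iff, pow_one] at h'
        have h2 : (H.u - 1) * i = 0 := by linear_combination h'
        rcases mul_eq_zero.1 h2 with h3 | h3
        · exact C.u_ne_one (sub_eq_zero.1 h3)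
        · exact ha (by rw [h3, ← hωpt])
      · exact fun h => absurd (Finset.mem_univ _) h
    rw [e1, e2] at t1
    have hu2 : (H.u - 1) * (H.u - 1) = 0 := by
      have h2 : H.u + H.u⁻¹ = 2 := by linear_combination -t1
      have h3 := congrArg (H.u * ·) h2
      simp only [mul_add, mul_inv_cancel₀ (show H.u ≠ 0 from C.u_ne_zero)] at h3
      linear_combination h3
    exact C.u_ne_one (sub_eq_zero.1 (mul_self_eq_zero.1 hu2))
  let b := (Module.finBasis F (V ⧸ I)).equivFun
  refine ⟨Module.finrank F (V ⧸ I), (b.conjAlgEquiv F).toMonoidHom.comp T0, hQdim, ?_⟩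
  have hinj : Function.Injective T0 := by
    haveI := Fintype.ofFinite G
    haveI := H.isSimple
    rcases IsSimpleGroup.eq_bot_or_eq_top_of_normal (MonoidHom.ker T0) (MonoidHom.normal_ker _) with h | h
    · exact (MonoidHom.ker_eq_bot_iff T0).1 h
    · exact absurd (MonoidHom.mem_ker.1 (h ▸ Subgroup.mem_top H.y : H.y ∈ MonoidHom.ker T0)) hnt
  exact (b.conjAlgEquiv F).injective.comp hinj

end CfsgLib.Perm.UniqueP.Hyp
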