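/-
Prime degree with a trivial intersection complement of odd order: `p + 1` Sylow subgroups.
-/
import Cfsg.Agent.Lib.Perm.UniqueP.OddSmall
import Cfsg.Agent.Lib.Char.ClassMul

set_option autoImplicit false
set_option linter.unusedSectionVars false

namespace CfsgLib.Perm.UniqueP.Hyp

open MulAction Cfsg CfsgLib.Char
open scoped ComplexConjugate

variable {α : Type*} [Fintype α] [DecidableEq α] {p : ℕ} [hp : Fact p.Prime]
  {G : Subgroup (Equiv.Perm α)} (H : Hyp G p)

omit hp in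
/-- Two square-zero maps on a space of dimension at most two. -/
theorem two_nilpotent {F W : Type*} [Field F] [AddCommGroup W] [Module F W] [FiniteDimensional F W]
    (hW : Module.finrank F W ≤ 2) {A B : Module.End F W} (hA : IsNilpotent A) (hB : IsNilpotent B)
    (hA0 : A ≠ 0) :
    A * B = B * A ∨ ∃ c : F, c ≠ 0 ∧ A * A = 0 ∧ B * B = 0 ∧ A * B + B * A = c • (1 : Module.End F W) := by
  have hsq : ∀ T : Module.End F W, IsNilpotent T → T * T = 0 := fun T hT => by
    have h := LinearMap.aeval_self_charpoly T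
    rw [IsNilpotent.charpoly_eq_X_pow_finrank hT, map_pow, Polynomial.aeval_X] at h
    rw [← pow_two]
    exact pow_eq_zero_of_le hW h
  have hA2 := hsq A hA
  have hB2 := hsq B hB
  have hle : LinearMap.range A ≤ LinearMap.ker A := by
    rintro _ ⟨v, rfl⟩
    exact LinearMap.congr_fun hA2 v
  have h1 := LinearMap.finrank_range_add_finrank_ker A
  have h2 := Submodule.finrank_mono hle
  have h3 : 0 < Module.finrank F (LinearMap.range A) := Nat.pos_of_ne_zero fun h =>
    hA0 (LinearMap.range_eq_bot.1 (Submodule.finrank_eq_zero.1 h))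
  have hk : Module.finrank F (LinearMap.ker A) = 1 := by omega
  have hW2 : Module.finrank F W = 2 := by omega
  obtain ⟨a, ha, ha0⟩ := Submodule.exists_mem_ne_zero_of_ne_bot (show LinearMap.ker A ≠ ⊥ by
    intro h; rw [h, finrank_bot] at hk; exact absurd hk (by simp))
  have hspan : ∀ v, A v = 0 → ∃ t : F, t • a = v := fun v hv => by
    have h := (finrank_eq_one_iff_of_nonzero' (⟨a, ha⟩ : LinearMap.ker A) (fun h => ha0 (congrArg Subtype.val h))).1 hk
      ⟨v, hv⟩
    obtain ⟨t, ht⟩ := h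
    exact ⟨t, congrArg Subtype.val ht⟩
  have hAa : A a = 0 := ha
  have hAA : ∀ v, A (A v) = 0 := fun v => LinearMap.congr_fun hA2 v
  have hBB : ∀ v, B (B v) = 0 := fun v => LinearMap.congr_fun hB2 v
  by_cases hb : B a = 0
  · left
    by_cases hB0 : B = 0
    · rw [hB0, mul_zero, zero_mul]
    have hleB : LinearMap.range B ≤ LinearMap.ker B := by
      rintro _ ⟨v, rfl⟩
      exact hBB v
    have k1 := LinearMap.finrank_range_add_finrank_ker B
    have k2 := Submodule.finrank_mono hleB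
    have k3 : 0 < Module.finrank F (LinearMap.range B) := Nat.pos_of_ne_zero fun h =>
      hB0 (LinearMap.range_eq_bot.1 (Submodule.finrank_eq_zero.1 h))
    have hkB : Module.finrank F (LinearMap.ker B) = 1 := by omega
    have hspanB : ∀ v, B v = 0 → ∃ t : F, t • a = v := fun v hv => by
      obtain ⟨t, ht⟩ := (finrank_eq_one_iff_of_nonzero' (⟨a, hb⟩ : LinearMap.ker B)
        (fun h => ha0 (congrArg Subtype.val h))).1 hkB ⟨v, hv⟩
      exact ⟨t, congrArg Subtype.val ht⟩
    refine LinearMap.ext fun v => ?_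
    obtain ⟨t, ht⟩ := hspanB (B v) (hBB v)
    obtain ⟨s, hs⟩ := hspan (A v) (hAA v)
    show A (B v) = B (A v)
    rw [← ht, ← hs, map_smul, map_smul, hAa, hb, smul_zero, smul_zero]
  right
  set b := B a with hbdef
  obtain ⟨c, hc⟩ := hspan (A b) (hAA b)
  have hli : LinearIndependent F ![a, b] := by
    rw [LinearIndependent.pair_iff]
    intro s t hst
    have h := congrArg B hst
    rw [map_add, map_smul, map_smul, map_zero, ← hbdef, show B b = 0 from hBB a, smul_zero, add_zero] at h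
    have hs : s = 0 := (smul_eq_zero.1 h).resolve_right hb
    rw [hs, zero_smul, zero_add] at hst
    exact ⟨hs, (smul_eq_zero.1 hst).resolve_right hb⟩
  let bas := basisOfLinearIndependentOfCardEqFinrank hli (by rw [hW2, Fintype.card_fin])
  have hsum : A * B + B * A = c • (1 : Module.End F W) := by
    refine bas.ext fun i => ?_
    rw [coe_basisOfLinearIndependentOfCardEqFinrank]
    fin_cases i
    · show A (B a) + B (A a) = c • a
      rw [hAa, map_zero, add_zero, ← hbdef, hc]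
    · show A (B b) + B (A b) = c • b
      rw [show B b = 0 from hBB a, map_zero, zero_add, ← hc, map_smul]
  refine ⟨c, fun h => hA0 ?_, hA2, hB2, hsum⟩
  refine bas.ext fun i => ?_
  rw [coe_basisOfLinearIndependentOfCardEqFinrank]
  fin_cases i
  · exact hAa
  · show A b = 0
    rw [← hc, h, zero_smul]

include H

theorem card_zpowers_eq {g : G} (hg : orderOf g = p) :
    ∃ S : Sylow p G, (S : Subgroup G) = Subgroup.zpowers g := by
  obtain ⟨P, hP⟩ := H.toCtx.isSylow
  refine ⟨Sylow.ofCard (Subgroup.zpowers g) ?_, rfl⟩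
  rw [Nat.card_zpowers, hg, ← P.card_eq_multiplicity, hP, Nat.card_zpowers, H.hx]

/-- An element of order `p` is self-centralizing. -/
theorem mem_zpowers_of_commute {a g : G} (ha : orderOf a = p) (h : Commute g a) :
    g ∈ Subgroup.zpowers a := by
  obtain ⟨P, hP⟩ := H.toCtx.isSylow
  obtain ⟨S, hS⟩ := H.card_zpowers_eq ha
  obtain ⟨c, hc⟩ := MulAction.exists_smul_eq G P S
  have hmap : (Subgroup.zpowers H.x).map (MulAut.conj c).toMonoidHom = Subgroup.zpowers a := by
    rw [← hP, ← hS, ← hc, Sylow.coe_subgroup_smul, Subgroup.pointwise_smul_def]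
    rfl
  obtain ⟨w, hw, hwa⟩ := hmap.symm.le (Subgroup.mem_zpowers a)
  obtain ⟨i, rfl⟩ := H.toCtx.exists_X hw
  have hi : i ≠ 0 := fun h0 => by
    have hp1 := hp.out.one_lt
    rw [h0, H.toCtx.X_zero, map_one] at hwa
    rw [← hwa, orderOf_one] at ha
    omega
  have hc2 : Commute (c⁻¹ * g * c) (H.toCtx.X i) := by
    have e : a = c * H.toCtx.X i * c⁻¹ := hwa.symm
    rw [e] at h
    have := Commute.map h (MulAut.conj c⁻¹).toMonoidHom
    simpa [mul_assoc] using this
  rw [← hmap]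
  exact ⟨c⁻¹ * g * c, H.toCtx.cent_X hi hc2, by simp [mul_assoc]⟩

theorem eq_zpowers_of_commute {a g : G} (ha : orderOf a = p) (hg : orderOf g = p) (h : Commute g a) :
    Subgroup.zpowers g = Subgroup.zpowers a :=
  Subgroup.eq_of_le_of_card_ge (Subgroup.zpowers_le.2 (H.mem_zpowers_of_commute ha h))
    (by rw [Nat.card_zpowers, Nat.card_zpowers, ha, hg])

omit H in
theorem order_p_of_pow {g : G} (h1 : g ≠ 1) (h : g ^ p = 1) : orderOf g = p :=
  orderOf_eq_prime h h1

/-- Two subgroups of order `p` fixing a common vector agree. -/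
theorem eq_of_fix {k : ℕ} (hk : k ≤ 3) (τ : Representation (ZMod p) G (Fin k → ZMod p))
    (hτ : Function.Injective τ) {a b : G} (ha : orderOf a = p) (hb : orderOf b = p)
    {w : Fin k → ZMod p} (hw : w ≠ 0) (haw : τ a w = w) (hbw : τ b w = w) :
    Subgroup.zpowers a = Subgroup.zpowers b := by
  classical
  haveI : NeZero p := ⟨hp.out.ne_zero⟩
  let F := ZMod p
  let V := Fin k → F
  let S : Subgroup G :=
    { carrier := {g | τ g w = w}
      one_mem' := by simp
      mul_mem' := fun {g h} (hg : τ g w = w) (hh : τ h w = w) => by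
        show τ (g * h) w = w
        rw [map_mul, Module.End.mul_apply, hh, hg]
      inv_mem' := fun {g} (hg : τ g w = w) => by
        show τ g⁻¹ w = w
        conv_lhs => rw [← hg]
        rw [← Module.End.mul_apply, ← map_mul, inv_mul_cancel, map_one]
        rfl }
  let L : Submodule F V := Submodule.span F {w}
  have hL : ∀ g ∈ S, ∀ v ∈ L, τ g v ∈ L := by
    intro g hg v hv
    obtain ⟨t, rfl⟩ := Submodule.mem_span_singleton.1 hv
    rw [map_smul, show τ g w = w from hg]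
    exact L.smul_mem _ (Submodule.mem_span_singleton_self w)
  let σ : S →* Module.End F (V ⧸ L) :=
    { toFun := fun g => L.mapQ L (τ g.1) (fun v hv => hL g.1 g.2 v hv)
      map_one' := by ext v; simp
      map_mul' := fun g h => by ext v; simp }
  have hσapp : ∀ (g : S) (v : V), σ g (Submodule.Quotient.mk v) = Submodule.Quotient.mk (τ g.1 v) := fun _ _ => rfl
  -- the kernel consists of commuting elements of order dividing `p`
  have hker : ∀ g : S, σ g = 1 → (τ g.1 - 1) * (τ g.1 - 1) = 0 ∧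
      ∀ h : S, σ h = 1 → (τ g.1 - 1) * (τ h.1 - 1) = 0 := by
    have key : ∀ g h : S, σ h = 1 → (τ g.1 - 1) * (τ h.1 - 1) = 0 := by
      intro g h hh
      refine LinearMap.ext fun v => ?_
      have h1 : τ h.1 v - v ∈ L := (Submodule.Quotient.eq L).1 (by
        rw [← hσapp, hh]; rfl)
      obtain ⟨t, ht⟩ := Submodule.mem_span_singleton.1 h1
      show τ g.1 (τ h.1 v - v) - (τ h.1 v - v) = 0
      rw [← ht, map_smul, show τ g.1 w = w from g.2, sub_self]
    exact fun g hg => ⟨key g g hg, fun h hh => key g h hh⟩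
  have hkp : ∀ g : S, σ g = 1 → g.1 ^ p = 1 := by
    intro g hg
    apply hτ
    rw [map_pow, map_one]
    have h := (hker g hg).1
    have e : τ g.1 = 1 + (τ g.1 - 1) := by abel
    rw [e]
    have hn : ∀ n : ℕ, (1 + (τ g.1 - 1)) ^ n = 1 + (n : F) • (τ g.1 - 1) := fun n => by
      induction n with
      | zero => simp
      | succ n ih =>
        rw [pow_succ, ih, add_mul, one_mul, mul_add, mul_one, smul_mul_assoc, h, smul_zero, add_zero,
          Nat.cast_succ, add_smul, one_smul]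
        abel
    rw [hn, ZMod.natCast_self, zero_smul, add_zero]
  have habs : ∀ c : S, orderOf c.1 = p → ∀ g : S, σ g = 1 → g ≠ 1 →
      Subgroup.zpowers c.1 = Subgroup.zpowers g.1 := by
    intro c hc g hg hg1
    have hgp : orderOf g.1 = p := orderOf_eq_prime (hkp g hg) fun h => hg1 (Subtype.ext h)
    refine H.eq_zpowers_of_commute hgp hc ?_
    set g' : S := c * g * c⁻¹ with hg'
    have hg'1 : σ g' = 1 := by rw [hg', map_mul, map_mul, hg, mul_one, ← map_mul, mul_inv_cancel, map_one]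
    have hcomm : Commute g'.1 g.1 := by
      apply hτ
      rw [map_mul, map_mul]
      have h1 := (hker g hg).2 g' hg'1
      have h2 := (hker g' hg'1).2 g hg
      rw [sub_mul, one_mul, mul_sub, mul_one, sub_eq_zero] at h1 h2
      have e1 : τ g.1 * τ g'.1 = τ g.1 + (τ g'.1 - 1) := by rw [← h1]; abel
      have e2 : τ g'.1 * τ g.1 = τ g'.1 + (τ g.1 - 1) := by rw [← h2]; abel
      rw [e1, e2]
      abel
    obtain ⟨j, hj⟩ : ∃ j : ℕ, g.1 ^ j = g'.1 :=
      (mem_powers_iff_mem_zpowers (x := g.1)).mpr (H.mem_zpowers_of_commute hgp hcomm)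
    have hit : ∀ n : ℕ, c.1 ^ n * g.1 * (c.1 ^ n)⁻¹ = g.1 ^ j ^ n := by
      intro n
      induction n with
      | zero => simp
      | succ n ih =>
        have e : c.1 ^ (n + 1) * g.1 * (c.1 ^ (n + 1))⁻¹ = c.1 ^ n * (c.1 * g.1 * c.1⁻¹) * (c.1 ^ n)⁻¹ := by
          rw [pow_succ]; group
        rw [e, show c.1 * g.1 * c.1⁻¹ = g.1 ^ j from hj.symm, ← conj_pow, ih, ← pow_mul, ← pow_succ]
    have h1 := hit p
    rw [show c.1 ^ p = 1 by rw [← hc]; exact pow_orderOf_eq_one _, one_mul, inv_one, mul_one] at h1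
    have h2 : g.1 ^ j ^ p = g.1 ^ 1 := by rw [pow_one]; exact h1.symm
    rw [pow_eq_pow_iff_modEq, hgp, ← ZMod.natCast_eq_natCast_iff, Nat.cast_pow, ZMod.pow_card, Nat.cast_one] at h2
    have h3 : g.1 ^ j = g.1 ^ 1 := by
      rw [pow_eq_pow_iff_modEq, hgp, ← ZMod.natCast_eq_natCast_iff, h2, Nat.cast_one]
    rw [pow_one, hj] at h3
    show c.1 * g.1 = g.1 * c.1
    have h4 : c.1 * g.1 * c.1⁻¹ = g.1 := h3
    rwa [mul_inv_eq_iff_eq_mul] at h4
  by_cases hK : ∃ g : S, σ g = 1 ∧ g ≠ 1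
  · obtain ⟨g, hg, hg1⟩ := hK
    rw [habs ⟨a, haw⟩ ha g hg hg1, habs ⟨b, hbw⟩ hb g hg hg1]
  have hσinj : Function.Injective σ := by
    rw [← MonoidHom.ker_eq_bot_iff, Subgroup.eq_bot_iff_forall]
    intro g hg
    by_contra h
    exact hK ⟨g, MonoidHom.mem_ker.1 hg, h⟩
  set a' : S := ⟨a, haw⟩
  set b' : S := ⟨b, hbw⟩
  have hW : Module.finrank F (V ⧸ L) ≤ 2 := by
    have h1 := L.finrank_quotient_add_finrank
    rw [show Module.finrank F L = 1 from finrank_span_singleton hw,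
      show Module.finrank F V = k from Module.finrank_fin_fun F] at h1
    omega
  haveI : Nontrivial (V ⧸ L) := by
    by_contra hn
    rw [not_nontrivial_iff_subsingleton] at hn
    have h1 : a' = 1 := hσinj (Subsingleton.elim _ _)
    have h2 : a = 1 := congrArg Subtype.val h1
    have := hp.out.one_lt
    rw [h2, orderOf_one] at ha
    omega
  haveI : CharP (Module.End F (V ⧸ L)) p :=
    charP_of_injective_algebraMap (algebraMap F (Module.End F (V ⧸ L))).injective p
  have hpow : ∀ (g : G) (hg : g ∈ S), orderOf g = p → IsNilpotent (σ ⟨g, hg⟩ - 1) := by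
    intro g hg ho
    refine ⟨p, ?_⟩
    rw [sub_pow_char_of_commute _ (Commute.one_right _), one_pow, ← map_pow,
      show (⟨g, hg⟩ : S) ^ p = 1 from Subtype.ext (by
        show g ^ p = 1
        rw [← ho]; exact pow_orderOf_eq_one _), map_one, sub_self]
  obtain ⟨A, hAdef⟩ : ∃ A, A = σ a' - 1 := ⟨_, rfl⟩
  obtain ⟨B, hBdef⟩ : ∃ B, B = σ b' - 1 := ⟨_, rfl⟩
  have hσa : σ a' = 1 + A := by rw [hAdef]; abel
  have hσb : σ b' = 1 + B := by rw [hBdef]; abel
  have hA0 : A ≠ 0 := fun h => by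
    rw [hAdef, sub_eq_zero, ← map_one σ] at h
    have h2 : a = 1 := congrArg Subtype.val (hσinj h)
    have := hp.out.one_lt
    rw [h2, orderOf_one] at ha
    omega
  rcases two_nilpotent hW (hAdef ▸ hpow a haw ha : IsNilpotent A) (hBdef ▸ hpow b hbw hb : IsNilpotent B) hA0 with hAB | ⟨c, hc, hA2, hB2, hsum⟩
  · refine H.eq_zpowers_of_commute hb ha ?_
    have h1 : σ a' * σ b' = σ b' * σ a' := by
      rw [hσa, hσb]
      simp only [add_mul, mul_add, one_mul, mul_one, hAB]
      abel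
    rw [← map_mul, ← map_mul] at h1
    exact congrArg Subtype.val (hσinj h1)
  exfalso
  have hpowlin : ∀ {T : Module.End F (V ⧸ L)}, T * T = 0 → ∀ n : ℕ, (1 + T) ^ n = 1 + (n : F) • T := by
    intro T hT n
    induction n with
    | zero => simp
    | succ n ih =>
      rw [pow_succ, ih, add_mul, one_mul, mul_add, mul_one, smul_mul_assoc, hT, smul_zero, add_zero,
        Nat.cast_succ, add_smul, one_smul]
      abel
  set n := (c⁻¹).val with hn
  set g : S := a' ^ n * b' ^ (p - 1) * a' ^ n with hg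
  have hncast : (n : F) = c⁻¹ := ZMod.natCast_zmod_val _
  have hm : ((p - 1 : ℕ) : F) = -1 := by
    rw [Nat.cast_sub hp.out.one_le, ZMod.natCast_self, Nat.cast_one, zero_sub]
  have haba : A * B * A = c • A := by
    calc A * B * A = A * (A * B + B * A) - A * A * B := by rw [mul_add, mul_assoc, mul_assoc]; abel
      _ = c • A := by rw [hsum, hA2, zero_mul, sub_zero, mul_smul_comm, mul_one]
  have hσg : σ g = c⁻¹ • A - B := by
    rw [hg, map_mul, map_mul, map_pow, map_pow, hσa, hσb, hpowlin hA2, hpowlin hB2, hncast, hm]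
    simp only [add_mul, mul_add, one_mul, mul_one, smul_mul_assoc, mul_smul_comm, hA2, smul_zero, haba,
      smul_smul]
    have e : c⁻¹ • (B * A) + c⁻¹ • (A * B) = 1 := by
      rw [← smul_add, add_comm, hsum, smul_smul, inv_mul_cancel₀ hc, one_smul]
    have hcc : c⁻¹ * c = 1 := inv_mul_cancel₀ hc
    linear_combination (norm := skip) (-1 : F) • e
    match_scalars <;> first | ring1 | linear_combination c⁻¹ * hcc | linear_combination -c⁻¹ * hcc
  have hσg2 : σ (g * g) = -1 := by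
    rw [map_mul, hσg]
    simp only [sub_mul, mul_sub, smul_mul_assoc, mul_smul_comm, hA2, hB2, smul_zero, sub_zero, zero_sub]
    have e : c⁻¹ • (B * A) + c⁻¹ • (A * B) = 1 := by
      rw [← smul_add, add_comm, hsum, smul_smul, inv_mul_cancel₀ hc, one_smul]
    linear_combination (norm := module) (-1 : F) • e
  have hcm : Commute (g * g : S).1 a := by
    have h1 : (g * g) * a' = a' * (g * g) := hσinj (by rw [map_mul σ (g * g), map_mul σ a', hσg2]; exact LinearMap.ext fun v => by simp)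
    exact congrArg Subtype.val h1
  have hgp : (g * g : S).1 ^ p = 1 := by
    obtain ⟨j, hj⟩ := Subgroup.mem_zpowers_iff.1 (H.mem_zpowers_of_commute ha hcm)
    have hap : a ^ (p : ℤ) = 1 := by
      rw [zpow_natCast]
      exact (congrArg (a ^ ·) ha.symm).trans (pow_orderOf_eq_one a)
    rw [← hj, ← zpow_natCast, ← zpow_mul, mul_comm, zpow_mul, hap, one_zpow]
  have h2 : (-1 : Module.End F (V ⧸ L)) ^ p = 1 := by
    rw [← hσg2, ← map_pow, show (g * g) ^ p = 1 from Subtype.ext hgp, map_one]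
  have e1 : ((-1 : F) • (1 : Module.End F (V ⧸ L))) = -1 := LinearMap.ext fun v => by simp
  rw [← e1, smul_pow, one_pow, Odd.neg_one_pow (Nat.odd_iff.2 H.p_odd)] at h2
  have h3 : ((2 : ℕ) : Module.End F (V ⧸ L)) = 0 := by
    refine LinearMap.ext fun v => ?_
    have h4 := LinearMap.congr_fun h2 v
    simp only [LinearMap.smul_apply, Module.End.one_apply] at h4
    show ((2 : ℕ) : Module.End F (V ⧸ L)) v = 0
    rw [Module.End.natCast_apply]
    linear_combination (norm := module) (-1 : F) • h4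
  rw [CharP.cast_eq_zero_iff _ p] at h3
  have := Nat.le_of_dvd two_pos h3
  have := H.five_le
  omega

/-- The bound from the small representation. -/
theorem sylow_bound (ho : Odd H.e) : Nat.card (Sylow p G) * (p - 1) ≤ p ^ 3 - 1 := by
  classical
  obtain ⟨k, τ, hk, hτ⟩ := H.exists_small ho
  let V := Fin k → ZMod p
  have hgen : ∀ P : Sylow p G, ∃ g : G, orderOf g = p ∧ (P : Subgroup G) = Subgroup.zpowers g := by
    intro P
    obtain ⟨P₀, hP₀⟩ := H.toCtx.isSylow
    obtain ⟨c, rfl⟩ := MulAction.exists_smul_eq G P₀ P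
    refine ⟨MulAut.conj c H.x, by rw [MulEquiv.orderOf_eq]; exact H.hx, ?_⟩
    rw [Sylow.coe_subgroup_smul, hP₀]
    exact MonoidHom.map_zpowers (MulAut.conj c).toMonoidHom H.x
  have hfix : ∀ P : Sylow p G, ∃ w : V, w ≠ 0 ∧ ∀ g ∈ (P : Subgroup G), τ g w = w := by
    intro P
    obtain ⟨g, hg, hP⟩ := hgen P
    haveI : Nontrivial V := by
      by_contra hn
      rw [not_nontrivial_iff_subsingleton] at hn
      exact H.toCtx.x_ne_one (hτ (LinearMap.ext fun w => Subsingleton.elim _ _))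
    obtain ⟨v₀, hv₀⟩ := exists_ne (0 : V)
    have hp' : IsPGroup p (Subgroup.zpowers g) :=
      IsPGroup.of_card (n := 1) (by rw [Nat.card_zpowers, hg, pow_one])
    obtain ⟨w, -, hw0, hw⟩ := CfsgLib.Char.TITransfer.exists_fixed_ne_zero hp'
      (τ.comp (Subgroup.zpowers g).subtype) ⊤ (fun _ _ _ => Submodule.mem_top) (Submodule.mem_top (x := v₀)) hv₀
    exact ⟨w, hw0, fun h hh => hw ⟨h, hP ▸ hh⟩⟩
  choose w hw0 hwfix using hfix
  let f : Sylow p G × (ZMod p)ˣ → {v : V // v ≠ 0} := fun q =>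
    ⟨(q.2 : ZMod p) • w q.1, smul_ne_zero q.2.ne_zero (hw0 q.1)⟩
  have hf : Function.Injective f := by
    rintro ⟨P, c⟩ ⟨Q, d⟩ h
    have h' : (c : ZMod p) • w P = (d : ZMod p) • w Q := congrArg Subtype.val h
    obtain ⟨gP, hgP, hP⟩ := hgen P
    obtain ⟨gQ, hgQ, hQ⟩ := hgen Q
    have h1 : τ gP ((c : ZMod p) • w P) = (c : ZMod p) • w P := by
      rw [map_smul, hwfix P gP (hP ▸ Subgroup.mem_zpowers gP)]
    have h2 : τ gQ ((c : ZMod p) • w P) = (c : ZMod p) • w P := by
      rw [h', map_smul, hwfix Q gQ (hQ ▸ Subgroup.mem_zpowers gQ)]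
    have hPQ : P = Q := Sylow.ext (by
      rw [hP, hQ]; exact H.eq_of_fix hk τ hτ hgP hgQ (smul_ne_zero c.ne_zero (hw0 P)) h1 h2)
    subst hPQ
    exact Prod.ext rfl (Units.ext (smul_left_injective _ (hw0 P) h'))
  have h := Nat.card_le_card_of_injective f hf
  rw [Nat.card_prod, Nat.card_eq_fintype_card (α := (ZMod p)ˣ), ZMod.card_units] at h
  refine h.trans ?_
  have h2 : Nat.card {v : V // v ≠ 0} = p ^ k - 1 := by
    rw [Nat.card_eq_fintype_card, Fintype.card_subtype_compl, Fintype.card_subtype_eq, Fintype.card_fun,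
      Fintype.card_fin, ZMod.card]
  rw [h2]
  exact Nat.sub_le_sub_right (Nat.pow_le_pow_right hp.out.pos hk) 1

variable [Fintype G]

/-- The indicator of the class of the generator of the complement. -/
theorem class_indicator (ho : Odd H.e) {ζ : ℂ} (hζ : IsPrimitiveRoot ζ H.e) (g : G) [Decidable (IsConj H.y g)] :
    (if IsConj H.y g then (1 : ℂ) else 0) =
      -(H.e : ℂ)⁻¹ * ∑ i ∈ (Finset.range H.e).erase 0, (ζ⁻¹) ^ i * H.psi (ζ ^ i) g := by
  classical
  have he := H.one_lt_e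
  have h0 : 0 ∈ Finset.range H.e := Finset.mem_range.2 (by omega)
  have hz : ∀ i : ℕ, (ζ ^ i) ^ H.e = 1 := fun i => by rw [pow_right_comm, hζ.pow_eq_one, one_pow]
  have hζ0 : ζ ≠ 0 := hζ.ne_zero (by omega)
  have heC : (H.e : ℂ) ≠ 0 := Nat.cast_ne_zero.2 (by omega)
  have hsum : ∀ v : ℂ, v ^ H.e = 1 → ∑ i ∈ (Finset.range H.e).erase 0, v ^ i =
      (if v = 1 then (H.e : ℂ) else 0) - 1 := by
    intro v hv
    have h1 : ∑ n ∈ Finset.range H.e, v ^ n = (if v = 1 then (H.e : ℂ) else 0) := by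
      split_ifs with h
      · simp [h]
      · exact H.sum_root hv h
    rw [← h1, ← Finset.add_sum_erase _ _ h0, pow_zero]
    ring
  by_cases hg : ∃ x : G, x⁻¹ * g * x ∈ H.toCtx.E ∧ x⁻¹ * g * x ≠ 1
  swap
  · push Not at hg
    have hy : ¬ IsConj H.y g := fun h => by
      obtain ⟨c, hc⟩ := isConj_iff.1 h
      have e : c⁻¹ * g * c = H.y := by rw [← hc]; group
      have := hg c (e ▸ H.toCtx.y_mem)
      exact H.toCtx.y_ne_one (e ▸ this)
    rw [if_neg hy, Finset.sum_eq_zero, mul_zero]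
    intro i _
    rw [H.psi_eq_zero (hz i) hg, mul_zero]
  obtain ⟨x, hx, hx1⟩ := hg
  obtain ⟨n, hn⟩ := H.toCtx.exists_pow_of_mem hx
  have hn1 : H.y ^ n ≠ 1 := hn ▸ hx1
  have hconj : IsConj (H.y ^ n) g := isConj_iff.2 ⟨x, by rw [hn]; group⟩
  have hmodeq : ∀ m : ℕ, (H.y ^ n = H.y ^ m ↔ ζ ^ n = ζ ^ m) := fun m => by
    rw [pow_eq_pow_iff_modEq, (hζ.isOfFinOrder (by omega)).pow_eq_pow_iff_modEq, ← hζ.eq_orderOf]
    rfl
  have hiff : IsConj H.y g ↔ (ζ ^ n = ζ ∨ ζ ^ n * ζ = 1) := by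
    have h1 : IsConj H.y g ↔ (H.y ^ n = H.y ∨ H.y ^ n * H.y = 1) := by
      constructor
      · intro h
        obtain ⟨c, hc⟩ := isConj_iff.1 (h.trans hconj.symm)
        have hcN : c ∈ H.N := H.mem_N_of_conj H.toCtx.y_mem H.toCtx.y_ne_one (hc ▸ hn ▸ hx)
        by_cases hcE : c ∈ H.toCtx.E
        · left
          rw [← hc, (H.centralizes_E hcE H.toCtx.y_mem).eq, mul_inv_cancel_right]
        · right
          rw [← hc, H.inverted ho hcN hcE H.toCtx.y_mem, inv_mul_cancel]
      · rintro (h | h)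
        · exact h ▸ hconj
        · refine (isConj_iff.2 ⟨H.t, ?_⟩).trans hconj
          rw [H.inverted ho H.t_mem H.t_not_mem H.toCtx.y_mem]
          exact (eq_inv_of_mul_eq_one_left h).symm
    rw [h1]
    have e1 : (H.y ^ n = H.y ↔ ζ ^ n = ζ) := by simpa using hmodeq 1
    have e2 : (H.y ^ n * H.y = 1 ↔ ζ ^ n * ζ = 1) := by
      rw [← pow_succ, ← pow_succ, hζ.pow_eq_one_iff_dvd]
      exact ⟨fun h => orderOf_dvd_of_pow_eq_one h, fun h => orderOf_dvd_iff_pow_eq_one.1 h⟩
    rw [e1, e2]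
  have hval : ∀ i, H.psi (ζ ^ i) g = 2 - (ζ ^ n) ^ i - ((ζ ^ n)⁻¹) ^ i := fun i => by
    obtain ⟨c, hc⟩ := isConj_iff.1 hconj
    rw [← hc, H.isClassFunction_psi _ (H.y ^ n) c, H.psi_pow (hz i) hn1,
      eq_inv_of_mul_eq_one_left (H.z_pow_r ho (hz i) n), inv_pow, pow_right_comm]
  rw [Finset.sum_congr rfl (g := fun i => 2 * (ζ⁻¹) ^ i - (ζ⁻¹ * ζ ^ n) ^ i - ((ζ * ζ ^ n)⁻¹) ^ i) fun i _ => by
      rw [hval, mul_inv_rev, mul_pow, mul_pow]; ring]
  have r1 : (ζ⁻¹) ^ H.e = 1 := by rw [inv_pow, hζ.pow_eq_one, inv_one]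
  rw [Finset.sum_sub_distrib, Finset.sum_sub_distrib, ← Finset.mul_sum, hsum _ r1,
    hsum _ (by rw [mul_pow, r1, pow_right_comm, hζ.pow_eq_one, one_pow, one_mul]),
    hsum _ (by rw [inv_pow, mul_pow, hζ.pow_eq_one, pow_right_comm, hζ.pow_eq_one, one_pow, one_mul, inv_one])]
  have c1 : (ζ⁻¹ * ζ ^ n = 1) ↔ ζ ^ n = ζ := by
    rw [inv_mul_eq_one₀ hζ0, eq_comm]
  have c2 : ((ζ * ζ ^ n)⁻¹ = 1) ↔ ζ ^ n * ζ = 1 := by rw [inv_eq_one, mul_comm]
  rw [if_neg (inv_ne_one.2 (hζ.ne_one he))]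
  have hboth : ζ ^ n = ζ → ζ ^ n * ζ ≠ 1 := fun h1 h2 => by
    rw [h1, ← pow_two, hζ.pow_eq_one_iff_dvd] at h2
    have := Nat.le_of_dvd two_pos h2
    obtain ⟨k, hk⟩ := ho
    omega
  by_cases a1 : ζ ^ n = ζ
  · rw [if_pos (hiff.2 (.inl a1)), if_pos (c1.2 a1), if_neg (fun h => hboth a1 (c2.1 h))]
    field_simp
    ring
  · by_cases a2 : ζ ^ n * ζ = 1
    · rw [if_pos (hiff.2 (.inr a2)), if_neg (fun h => a1 (c1.1 h)), if_pos (c2.2 a2)]
      field_simp
      ring
    · rw [if_neg (fun h => (hiff.1 h).elim a1 a2), if_neg (fun h => a1 (c1.1 h)), if_neg (fun h => a2 (c2.1 h))]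
      ring

theorem card_sylow_dvd (ho : Odd H.e) : p + 1 ∣ Nat.card (Sylow p G) := by
  classical
  haveI := Fintype.ofFinite (IrrCharacter G)
  have he := H.one_lt_e
  have he0 : H.e ≠ 0 := by omega
  set ζ := Complex.exp (2 * Real.pi * Complex.I / H.e)
  have hζ : IsPrimitiveRoot ζ H.e := Complex.isPrimitiveRoot_exp H.e he0
  have hcentY : Subgroup.centralizer ({H.y} : Set G) = H.toCtx.E := by
    ext g
    rw [Subgroup.mem_centralizer_singleton_iff]
    constructor
    · intro h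
      by_contra hgE
      have hgN := H.mem_N_of_commute H.toCtx.y_mem H.toCtx.y_ne_one h
      have h1 := H.inverted ho hgN hgE H.toCtx.y_mem
      rw [h, mul_inv_cancel_right, eq_inv_iff_mul_eq_one, ← pow_two] at h1
      have := Nat.le_of_dvd two_pos (orderOf_dvd_of_pow_eq_one h1)
      obtain ⟨k, hk⟩ := ho
      rw [show orderOf H.y = H.e from rfl] at this
      omega
    · exact fun hg => (H.centralizes_E hg H.toCtx.y_mem).eq
  have heC : (H.e : ℂ) ≠ 0 := Nat.cast_ne_zero.2 he0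
  have hz : ∀ i : ℕ, (ζ ^ i) ^ H.e = 1 := fun i => by rw [pow_right_comm, hζ.pow_eq_one, one_pow]
  have hone : IsIrrCharacter G (fun _ => (1 : ℂ)) := by simpa using isIrrCharacter_lin (1 : G →* ℂˣ)
  let χ1 : IrrCharacter G := ⟨_, hone⟩
  let X : ℕ → IrrCharacter G := fun i =>
    if h : ζ ^ i ≠ 1 then ⟨H.chi (ζ ^ i), H.chi_irr_odd ho (hz i) h⟩ else χ1
  have hX : ∀ i ∈ (Finset.range H.e).erase 0, (X i : G → ℂ) = H.chi (ζ ^ i) := fun i hi => by
    rw [Finset.mem_erase, Finset.mem_range] at hi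
    simp only [X, dif_pos (hζ.pow_ne_one_of_pos_of_lt hi.1 hi.2)]
  -- values at `y` through the indicator
  have hY : ∀ χ : IrrCharacter G, conj ((χ : G → ℂ) H.y) = -∑ i ∈ (Finset.range H.e).erase 0,
      (ζ⁻¹) ^ i * ((if χ1 = χ then 1 else 0) + (if H.θ = χ then 1 else 0) - (if X i = χ then 1 else 0)) := by
    intro χ
    let δf : G → ℂ := fun g => if IsConj H.y g then 1 else 0
    have hδ : classInner δf (χ : G → ℂ) = (H.e : ℂ)⁻¹ * conj ((χ : G → ℂ) H.y) := by
      have hcard : (Nat.card {g : G // IsConj H.y g} : ℂ) * (H.e : ℂ) = (Nat.card G : ℂ) := by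
        rw [card_isConj, hcentY, ← H.card_E, ← Nat.cast_mul, Subgroup.index_mul_card]
      have hG0 : (Nat.card G : ℂ) ≠ 0 := Nat.cast_ne_zero.2 Nat.card_pos.ne'
      rw [classInner, Finset.sum_congr rfl (g := fun g => if IsConj H.y g then conj ((χ : G → ℂ) H.y) else 0) fun g _ => ?_]
      · rw [← Finset.sum_filter, Finset.sum_const, nsmul_eq_mul, ← Fintype.card_subtype, ← Nat.card_eq_fintype_card,
          ← hcard]
        have hc0 : (Nat.card {g : G // IsConj H.y g} : ℂ) ≠ 0 := fun h => hG0 (by rw [← hcard, h, zero_mul])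
        field_simp
      · simp only [δf]
        split_ifs with h
        · obtain ⟨c, hc⟩ := isConj_iff.1 h
          rw [one_mul, ← hc, isClassFunction_irr χ H.y c]
        · rw [zero_mul]
    have hexp : δf = fun g => ∑ i ∈ (Finset.range H.e).erase 0,
        (-(H.e : ℂ)⁻¹ * (ζ⁻¹) ^ i) * H.psi (ζ ^ i) g := funext fun g => by
      show (if IsConj H.y g then (1 : ℂ) else 0) = _
      rw [H.class_indicator ho hζ g, Finset.mul_sum]
      exact Finset.sum_congr rfl fun i _ => by ring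
    have hlin : classInner δf (χ : G → ℂ) = ∑ i ∈ (Finset.range H.e).erase 0,
        (-(H.e : ℂ)⁻¹ * (ζ⁻¹) ^ i) * classInner (H.psi (ζ ^ i)) (χ : G → ℂ) := by
      rw [hexp, classInner, Finset.sum_congr rfl fun g _ => Finset.sum_mul _ _ _, Finset.sum_comm, Finset.mul_sum]
      refine Finset.sum_congr rfl fun i _ => ?_
      rw [classInner, ← mul_assoc (-(H.e : ℂ)⁻¹ * (ζ⁻¹) ^ i), mul_comm (-(H.e : ℂ)⁻¹ * (ζ⁻¹) ^ i), mul_assoc,
        Finset.mul_sum _ _ (-(H.e : ℂ)⁻¹ * (ζ⁻¹) ^ i)]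
      congr 1
      exact Finset.sum_congr rfl fun g _ => mul_assoc _ _ _
    rw [hδ] at hlin
    have key : ∀ i ∈ (Finset.range H.e).erase 0, classInner (H.psi (ζ ^ i)) (χ : G → ℂ) =
        (if χ1 = χ then 1 else 0) + (if H.θ = χ then 1 else 0) - (if X i = χ then 1 else 0) := by
      intro i hi
      have e : H.psi (ζ ^ i) = (χ1 : G → ℂ) + (H.θ : G → ℂ) - (X i : G → ℂ) := by
        funext g
        rw [Pi.sub_apply, Pi.add_apply, hX i hi, chi_apply]
        show H.psi (ζ ^ i) g = 1 + (H.θ : G → ℂ) g - _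
        ring
      rw [e, classInner_sub_left, classInner_add_left, classInner_irr, classInner_irr, classInner_irr]
    have h2 := congrArg ((H.e : ℂ) * ·) hlin
    simp only [← mul_assoc, mul_inv_cancel₀ heC, one_mul] at h2
    rw [h2, Finset.mul_sum, ← Finset.sum_neg_distrib]
    refine Finset.sum_congr rfl fun i hi => ?_
    rw [key i hi]
    field_simp
  have hxi : p ∣ orderOf H.x⁻¹ := by rw [orderOf_inv, H.hx]
  have hx0 : p ∣ orderOf H.x := by rw [H.hx]
  have hp1 : (p : ℂ) + 1 ≠ 0 := by exact_mod_cast Nat.succ_ne_zero p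
  have hsum : ∑ χ : IrrCharacter G,
      (χ : G → ℂ) H.x * (χ : G → ℂ) H.x⁻¹ * conj ((χ : G → ℂ) H.y) / (χ : G → ℂ) 1 = (p : ℂ) / ((p : ℂ) + 1) := by
    set F : IrrCharacter G → ℂ := fun χ => (χ : G → ℂ) H.x * (χ : G → ℂ) H.x⁻¹ / (χ : G → ℂ) 1
    have e : ∀ χ : IrrCharacter G,
        (χ : G → ℂ) H.x * (χ : G → ℂ) H.x⁻¹ * conj ((χ : G → ℂ) H.y) / (χ : G → ℂ) 1 =
          ∑ i ∈ (Finset.range H.e).erase 0, -(ζ⁻¹) ^ i * ((if χ1 = χ then F χ else 0) +
            (if H.θ = χ then F χ else 0) - (if X i = χ then F χ else 0)) := by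
      intro χ
      rw [show (χ : G → ℂ) H.x * (χ : G → ℂ) H.x⁻¹ * conj ((χ : G → ℂ) H.y) / (χ : G → ℂ) 1 =
        F χ * conj ((χ : G → ℂ) H.y) by simp only [F]; ring, hY, ← Finset.sum_neg_distrib, Finset.mul_sum]
      refine Finset.sum_congr rfl fun i _ => ?_
      split_ifs <;> ring
    rw [Finset.sum_congr rfl fun χ _ => e χ, Finset.sum_comm]
    simp only [← Finset.mul_sum, Finset.sum_sub_distrib, Finset.sum_add_distrib, Finset.sum_ite_eq,
      Finset.mem_univ, if_true]
    have F1 : F χ1 = 1 := by simp [F, χ1]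
    have Fθ : F H.θ = 0 := by simp only [F]; rw [H.θ_singular hx0]; ring
    rw [Finset.sum_congr rfl (g := fun i => (ζ⁻¹) ^ i * (-(p : ℂ) / ((p : ℂ) + 1))) fun i hi => ?_]
    · rw [← Finset.sum_mul]
      have h0 : 0 ∈ Finset.range H.e := Finset.mem_range.2 (by omega)
      have hs := H.sum_root (w := ζ⁻¹) (by rw [inv_pow, hζ.pow_eq_one, inv_one]) (inv_ne_one.2 (hζ.ne_one he))
      rw [← Finset.add_sum_erase _ _ h0, pow_zero] at hs
      rw [show ∑ i ∈ (Finset.range H.e).erase 0, (ζ⁻¹) ^ i = -1 by linear_combination hs]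
      ring
    · have FX : F (X i) = 1 / ((p : ℂ) + 1) := by
        simp only [F, hX i hi]
        rw [H.chi_singular (hz i) hx0, H.chi_singular (hz i) hxi, H.chi_one (hz i), one_mul]
      rw [F1, Fθ, FX]
      field_simp
      ring
  have h := classConst_formula H.x H.x⁻¹ H.y
  rw [finsum_eq_sum_of_fintype, hsum, card_isConj, card_isConj, H.toCtx.centralizer_x] at h
  have hcx : Subgroup.centralizer ({H.x⁻¹} : Set G) = Subgroup.zpowers H.x := by
    rw [← H.toCtx.centralizer_x]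
    ext g
    rw [Subgroup.mem_centralizer_singleton_iff, Subgroup.mem_centralizer_singleton_iff]
    exact ⟨fun hc => by simpa using (Commute.inv_right hc).eq, fun hc => (Commute.inv_right hc).eq⟩
  rw [hcx] at h
  have hidx : (Subgroup.zpowers H.x).index = Nat.card (Sylow p G) * H.e := by
    have h1 := Subgroup.index_mul_card (Subgroup.zpowers H.x)
    rw [Nat.card_zpowers, H.hx] at h1
    obtain ⟨P, hP⟩ := H.toCtx.isSylow
    have h2 : Nat.card G = Nat.card (Sylow p G) * (p * H.e) := by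
      rw [Sylow.card_eq_index_normalizer P, show (P : Set G) = (Subgroup.zpowers H.x : Set G) from
        congrArg SetLike.coe hP, e, ← H.toCtx.card_normalizer, Subgroup.index_mul_card]
    refine Nat.eq_of_mul_eq_mul_right hp.out.pos ?_
    rw [h1, h2]; ring
  have hG : (Nat.card G : ℂ) = ((Subgroup.zpowers H.x).index : ℂ) * (p : ℂ) := by
    rw [← Subgroup.index_mul_card (Subgroup.zpowers H.x), Nat.card_zpowers, H.hx, Nat.cast_mul]
  rw [hG, hidx] at h
  have hn0 : ((Nat.card (Sylow p G) * H.e : ℕ) : ℂ) ≠ 0 :=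
    Nat.cast_ne_zero.2 (mul_ne_zero Nat.card_pos.ne' he0)
  have hp0 : (p : ℂ) ≠ 0 := Nat.cast_ne_zero.2 hp.out.ne_zero
  have hnat : classConst H.x H.x⁻¹ H.y * (p + 1) = Nat.card (Sylow p G) * H.e := by
    have h' : ((classConst H.x H.x⁻¹ H.y * (p + 1) : ℕ) : ℂ) = ((Nat.card (Sylow p G) * H.e : ℕ) : ℂ) := by
      set k : ℂ := ((Nat.card (Sylow p G) * H.e : ℕ) : ℂ)
      push_cast
      rw [h]
      field_simp
    exact_mod_cast h'
  refine Nat.Coprime.dvd_of_dvd_mul_right ?_ ⟨_, hnat.symm.trans (mul_comm _ _)⟩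
  rw [Nat.coprime_iff_gcd_eq_one]
  set d := Nat.gcd (p + 1) H.e with hd
  have h1 : d ∣ p - 1 := (Nat.gcd_dvd_right _ _).trans H.e_dvd
  have h2 : d ∣ 2 := by
    have := Nat.dvd_sub (Nat.gcd_dvd_left (p + 1) H.e) h1
    rwa [show p + 1 - (p - 1) = 2 by have := hp.out.two_le; omega] at this
  rcases (Nat.dvd_prime Nat.prime_two).1 h2 with h3 | h3
  · exact h3
  · obtain ⟨k, hk⟩ := ho
    have h4 : 2 ∣ H.e := h3 ▸ Nat.gcd_dvd_right _ _
    omega

theorem card_sylow_odd (ho : Odd H.e) : Nat.card (Sylow p G) = p + 1 := by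
  obtain ⟨k, hk⟩ := H.card_sylow_dvd ho
  have hmod := card_sylow_modEq_one p G
  have hb := H.sylow_bound ho
  rw [hk] at hmod hb ⊢
  have hk1 : k ≡ 1 [MOD p] := by
    refine Nat.ModEq.trans ?_ hmod
    rw [add_mul, one_mul, add_comm]
    exact (Nat.modEq_iff_dvd' (Nat.le_add_right _ _)).2 ⟨k, by rw [Nat.add_sub_cancel_left]⟩
  have h5 := H.five_le
  rcases Nat.lt_or_ge k p with hlt | hge
  · have : k = 1 := by
      have h := hk1
      rw [Nat.ModEq, Nat.mod_eq_of_lt hlt, Nat.mod_eq_of_lt (by omega)] at h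
      exact h
    rw [this, mul_one]
  · exfalso
    have hk2 : p + 1 ≤ k := by
      rcases Nat.lt_or_ge p k with h | h
      · exact h
      · obtain rfl : k = p := le_antisymm h hge
        rw [Nat.ModEq, Nat.mod_self, Nat.mod_eq_of_lt (by omega)] at hk1
        omega
    obtain ⟨q, rfl⟩ : ∃ q, p = q + 1 := ⟨p - 1, by omega⟩
    simp only [Nat.add_sub_cancel] at hb
    have h1 : (q + 1 + 1) * (q + 1 + 1) * q ≤ (q + 1 + 1) * k * q :=
      Nat.mul_le_mul_right _ (Nat.mul_le_mul_left _ hk2)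
    have h2 : (q + 1) ^ 3 = q * q * q + 3 * (q * q) + 3 * q + 1 := by ring
    have h3 : (q + 1 + 1) * (q + 1 + 1) * q = q * q * q + 4 * (q * q) + 4 * q := by ring
    have h4 : 0 < q * q := Nat.mul_pos (by omega) (by omega)
    omega

end CfsgLib.Perm.UniqueP.Hyp
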