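/-
Prime degree with a unique character of degree `p` and a trivial intersection complement: the group
is `PSL(2,p)` with `p` one of `5`, `7`, `11`.
-/
import Cfsg.Agent.Lib.Perm.UniqueP.Even
import Cfsg.Agent.Lib.Perm.UniqueP.OddSylow
import Cfsg.Agent.Lib.Perm.PrimeTwoP.Main
import Cfsg.Agent.S0996
import Cfsg.Agent.S0806
import Cfsg.Agent.S0252
import Cfsg.Agent.S0253

set_option autoImplicit false
set_option linter.unusedSectionVars false

namespace CfsgLib.Perm.UniqueP

open MulAction

universe u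

variable {α : Type u} [Fintype α] [DecidableEq α] {p : ℕ} [hp : Fact p.Prime]

theorem exists_hyp (hα : Fintype.card α = p) (G : Subgroup (Equiv.Perm α)) [IsPretransitive G α]
    (huniq : ∃! χ : Cfsg.IrrCharacter G, Cfsg.charDegree (χ : G → ℂ) = p) (P : Sylow p G) (E : Subgroup G)
    (hPE : (P : Subgroup G) ⊔ E = Subgroup.normalizer ((P : Subgroup G) : Set G))
    (hPE' : (P : Subgroup G) ⊓ E = ⊥)
    (hNE : Nat.card (Subgroup.normalizer (E : Set G)) = 2 * Nat.card E)
    (hTI : ∀ g : G, g ∉ Subgroup.normalizer (E : Set G) → E ⊓ E.map (MulAut.conj g).toMonoidHom = ⊥) :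
    Nonempty (Hyp G p) := by
  classical
  haveI := Fintype.ofFinite G
  haveI : NeZero p := ⟨hp.out.ne_zero⟩
  have hsq : ¬ p ^ 2 ∣ Nat.card G := by
    intro h
    have h2 := h.trans (Subgroup.card_subgroup_dvd_card G)
    rw [Nat.card_perm, Nat.card_eq_fintype_card, hα, pow_two, ← Nat.mul_factorial_pred hp.out.ne_zero] at h2
    exact Nat.not_lt.2 ((hp.out.dvd_factorial).1 (Nat.dvd_of_mul_dvd_mul_left hp.out.pos h2))
      (Nat.sub_lt hp.out.pos one_pos)
  have hpG : p ∣ Nat.card G := by
    obtain ⟨a⟩ : Nonempty α := Fintype.card_pos_iff.1 (by rw [hα]; exact hp.out.pos)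
    have h := index_stabilizer_of_transitive G a
    rw [Nat.card_eq_fintype_card (α := α), hα] at h
    exact h ▸ Subgroup.index_dvd_card _
  have hP : Nat.card (P : Subgroup G) = p := by
    have h1 := (hp.out.pow_dvd_iff_le_factorization Nat.card_pos.ne').not.1 hsq
    have h2 := (hp.out.pow_dvd_iff_le_factorization (k := 1) Nat.card_pos.ne').1 (by rw [pow_one]; exact hpG)
    rw [P.card_eq_multiplicity, show (Nat.card G).factorization p = 1 by omega, pow_one]
  obtain ⟨c, hc⟩ := exists_prime_orderOf_dvd_card' (G := (P : Subgroup G)) p (dvd_of_eq hP.symm)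
  set x : G := (c : G) with hxdef
  have hx : orderOf x = p := by rw [hxdef, Subgroup.orderOf_coe, hc]
  have hxP : (P : Subgroup G) = Subgroup.zpowers x :=
    ((Subgroup.eq_of_le_of_card_ge (Subgroup.zpowers_le.2 c.2) (by rw [Nat.card_zpowers, hx, hP]))).symm
  obtain ⟨a₀⟩ : Nonempty α := Fintype.card_pos_iff.1 (by rw [hα]; exact hp.out.pos)
  have hcent : ∀ g : G, Commute g x → g ∈ Subgroup.zpowers x := by
    intro g hg
    obtain ⟨k, -, hk⟩ := TwoP.exists_pow hα hx a₀ (g • a₀)
    have : g = x ^ k := by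
      refine Subtype.ext (Equiv.ext fun b => ?_)
      obtain ⟨j, -, rfl⟩ := TwoP.exists_pow hα hx a₀ b
      show g • x ^ j • a₀ = x ^ k • x ^ j • a₀
      rw [← mul_smul, (hg.pow_right j).eq, mul_smul, ← hk, ← mul_smul, ← mul_smul, pow_mul_comm]
    exact this ▸ Subgroup.pow_mem _ (Subgroup.mem_zpowers x) k
  have hEN : E ≤ Subgroup.normalizer ((P : Subgroup G) : Set G) := hPE ▸ le_sup_right
  -- the complement is cyclic
  haveI : IsCyclic (P : Subgroup G) := isCyclic_of_prime_card hP
  haveI : IsCyclic (MulAut (P : Subgroup G)) := by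
    haveI : IsCyclic (ZMod (Nat.card (P : Subgroup G)))ˣ := by rw [hP]; infer_instance
    exact (IsCyclic.mulAutMulEquiv (P : Subgroup G)).isCyclic.2 inferInstance
  let φ : E →* MulAut (P : Subgroup G) :=
    (Subgroup.normalizerMonoidHom (P : Subgroup G)).comp (Subgroup.inclusion hEN)
  have hφ : Function.Injective φ := by
    rw [← MonoidHom.ker_eq_bot_iff, Subgroup.eq_bot_iff_forall]
    intro g hg
    have h1 : Subgroup.inclusion hEN g ∈ (Subgroup.normalizerMonoidHom (P : Subgroup G)).ker := hg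
    rw [Subgroup.normalizerMonoidHom_ker, Subgroup.mem_subgroupOf, Subgroup.mem_centralizer_iff] at h1
    have h2 : (g : G) ∈ (P : Subgroup G) ⊓ E :=
      ⟨by rw [hxP]; exact hcent _ (h1 x c.2).symm, g.2⟩
    rw [hPE', Subgroup.mem_bot] at h2
    exact Subtype.ext h2
  haveI : IsCyclic E := isCyclic_of_injective φ hφ
  obtain ⟨y₀, hy₀⟩ := IsCyclic.exists_generator (α := E)
  set y : G := (y₀ : G) with hydef
  have hEy : E = Subgroup.zpowers y := by
    refine le_antisymm (fun g hg => ?_) (Subgroup.zpowers_le.2 y₀.2)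
    obtain ⟨k, hk⟩ := Subgroup.mem_zpowers_iff.1 (hy₀ ⟨g, hg⟩)
    exact Subgroup.mem_zpowers_iff.2 ⟨k, congrArg Subtype.val hk⟩
  have hyN : y ∈ Subgroup.normalizer ((P : Subgroup G) : Set G) := hEN y₀.2
  obtain ⟨k, hk⟩ : ∃ k : ℕ, x ^ k = y * x * y⁻¹ := by
    have h := (Subgroup.mem_normalizer_iff.1 hyN x).1 c.2
    rw [hxP] at h
    exact (mem_powers_iff_mem_zpowers (x := x)).mpr h
  have hxp : ∀ n : ℕ, x ^ n = x ^ ((n : ZMod p).val) := fun n => by
    rw [ZMod.val_natCast]
    exact ((congrArg (fun q => x ^ (n % q)) hx.symm).trans (pow_mod_orderOf x n)).symm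
  have hins : ¬ Group.IsSolvable G := by
    intro hs
    haveI : (P : Subgroup G).Normal := TwoP.sylow_normal_of_solvable hα G hs P hP
    have hall : ∀ g : G, ∃ a ∈ (P : Subgroup G), ∃ b ∈ E, a * b = g := by
      intro g
      have hg : g ∈ (P : Subgroup G) ⊔ E := by
        rw [hPE, Subgroup.normalizer_eq_top_iff.2 inferInstance]
        exact Subgroup.mem_top g
      rwa [Subgroup.mem_sup_of_normal_left] at hg
    have h1 : Nat.card G ≤ p * Nat.card E := by
      rw [← hP, ← Nat.card_prod]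
      refine Nat.card_le_card_of_surjective (fun q : ↥(P : Subgroup G) × ↥E => (q.1 : G) * (q.2 : G)) fun g => ?_
      obtain ⟨a, ha, b, hb, he⟩ := hall g
      exact ⟨(⟨a, ha⟩, ⟨b, hb⟩), he⟩
    have h2 : Nat.card E ≤ p - 1 := by
      have h := Nat.card_le_card_of_injective φ hφ
      rw [Nat.card_congr (IsCyclic.mulAutMulEquiv (P : Subgroup G)).toEquiv, hP, Nat.card_eq_fintype_card
        (α := (ZMod p)ˣ), ZMod.card_units] at h
      exact h
    obtain ⟨χ, hχ, -⟩ := huniq
    haveI := Fintype.ofFinite (Cfsg.IrrCharacter G)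
    have h3 := Finset.single_le_sum (f := fun χ : Cfsg.IrrCharacter G => Cfsg.charDegree (χ : G → ℂ) ^ 2)
      (fun _ _ => Nat.zero_le _) (Finset.mem_univ χ)
    have hsum : ∑ χ : Cfsg.IrrCharacter G, Cfsg.charDegree (χ : G → ℂ) ^ 2 = Nat.card G := by
      have h := CfsgLib.Char.sum_degree_sq (G := G)
      rw [Finset.sum_congr rfl fun χ _ => by rw [(CfsgLib.Block.charDegree_eq χ).1]] at h
      exact_mod_cast h
    rw [hsum] at h3
    simp only [hχ, pow_two] at h3
    have h4 : p * Nat.card E ≤ p * (p - 1) := Nat.mul_le_mul_left _ h2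
    have h5 : p * (p - 1) < p * p := Nat.mul_lt_mul_of_pos_left (Nat.sub_lt hp.out.pos one_pos) hp.out.pos
    omega
  set u : ZMod p := (k : ZMod p) with hu
  -- a fixed point of the complement
  obtain ⟨ω, hω⟩ : ∃ ω : α, y • ω = ω := by
    obtain ⟨b, -, hb⟩ := TwoP.exists_pow hα hx a₀ (y • a₀)
    by_cases hu1 : u = 1
    · have hyx : Commute y x := by
        have h := hk
        rw [hxp, ← hu, hu1, ZMod.val_one_eq_one_mod, Nat.mod_eq_of_lt hp.out.one_lt, pow_one] at h
        exact (mul_inv_eq_iff_eq_mul.1 h.symm)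
      have : y ∈ (P : Subgroup G) ⊓ E := ⟨by rw [hxP]; exact hcent y hyx, y₀.2⟩
      rw [hPE', Subgroup.mem_bot] at this
      exact ⟨a₀, by rw [this, one_smul]⟩
    · set cc : ZMod p := (b : ZMod p) / (1 - u) with hcc
      refine ⟨x ^ cc.val • a₀, ?_⟩
      have hconj : y * x ^ cc.val = x ^ (k * cc.val) * y := by
        rw [pow_mul, hk, conj_pow, inv_mul_cancel_right]
      rw [← mul_smul, hconj, mul_smul, ← hb, ← mul_smul, ← pow_add, hxp]
      congr 2
      congr 1
      rw [Nat.cast_add, Nat.cast_mul, ZMod.natCast_zmod_val, ← hu, hcc]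
      have : (1 : ZMod p) - u ≠ 0 := sub_ne_zero.2 (Ne.symm hu1)
      field_simp
      ring
  refine ⟨{ hα := hα, x := x, hx := hx, y := y, ω := ω, u := u, hyx := by rw [hu, ← hxp, hk], hyω := hω,
            hsup := by rw [← hEy, ← hxP]; exact hPE, hsyl := hsq, hins := hins, hNE := ?_, hTI := ?_,
            huniq := huniq }⟩
  · rw [← Nat.card_zpowers, ← hEy]; exact hNE
  · intro g hg
    rw [← hEy] at hg ⊢
    exact hTI g hg

/-- In characteristic two, `SL(2,q)` has no element of order four. -/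
theorem pow_two_of_pow_four {F : Type*} [Field F] [CharP F 2] (g : Matrix.SpecialLinearGroup (Fin 2) F)
    (h : g ^ 4 = 1) : g ^ 2 = 1 := by
  set N : Matrix (Fin 2) (Fin 2) F := g.1 - 1 with hN
  have hN4 : N ^ 4 = 0 := by
    rw [hN, show (4 : ℕ) = 2 ^ 2 by norm_num, sub_pow_char_pow_of_commute _ _ (Commute.one_right _), one_pow,
      show g.1 ^ (2 ^ 2) = 1 by
        rw [← Matrix.SpecialLinearGroup.coe_pow, show (2 : ℕ) ^ 2 = 4 by norm_num, h]; rfl, sub_self]
  have hN2 : N ^ 2 = 0 := by
    have hch := Matrix.aeval_self_charpoly N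
    rw [(Matrix.isNilpotent_charpoly_sub_pow_of_isNilpotent ⟨4, hN4⟩).eq_zero |> sub_eq_zero.1, map_pow,
      Polynomial.aeval_X, Fintype.card_fin] at hch
    exact hch
  refine Subtype.ext ?_
  rw [Matrix.SpecialLinearGroup.coe_pow]
  have : g.1 = N + 1 := by rw [hN, sub_add_cancel]
  rw [this, add_pow_char_of_commute _ (Commute.one_right _), hN2, one_pow, zero_add]
  rfl

/-- A commuting family for an element of order two. -/
theorem card_le_centralizer {F : Type*} [Field F] [Fintype F] [CharP F 2]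
    (g : Matrix.SpecialLinearGroup (Fin 2) F) (h : g ^ 2 = 1) (h1 : g ≠ 1) :
    Fintype.card F ≤ Nat.card (Subgroup.centralizer ({g} : Set (Matrix.SpecialLinearGroup (Fin 2) F))) := by
  classical
  set N : Matrix (Fin 2) (Fin 2) F := g.1 - 1 with hN
  have hN2 : N ^ 2 = 0 := by
    rw [hN, sub_pow_char_of_commute _ (Commute.one_right _), one_pow, ← Matrix.SpecialLinearGroup.coe_pow, h]
    exact sub_self _
  have hN0 : N ≠ 0 := fun h0 => h1 (Subtype.ext (sub_eq_zero.1 h0))
  have hnil : IsNilpotent N := ⟨2, hN2⟩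
  have htr : N 0 0 + N 1 1 = 0 := by
    have := (Matrix.isNilpotent_trace_of_isNilpotent hnil).eq_zero
    simpa [Matrix.trace, Fin.sum_univ_two] using this
  have hdet : N 0 0 * N 1 1 - N 0 1 * N 1 0 = 0 := by
    have := congrArg Matrix.det hN2
    rw [Matrix.det_pow, Matrix.det_zero, sq_eq_zero_iff, Matrix.det_fin_two] at this
    exact this
  let f : F → Subgroup.centralizer ({g} : Set (Matrix.SpecialLinearGroup (Fin 2) F)) := fun t =>
    ⟨⟨1 + t • N, by
      rw [Matrix.det_fin_two]
      simp only [Matrix.add_apply, Matrix.one_apply_eq, Matrix.smul_apply, smul_eq_mul,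
        Matrix.one_apply_ne (show (0 : Fin 2) ≠ 1 by decide), Matrix.one_apply_ne (show (1 : Fin 2) ≠ 0 by decide)]
      linear_combination t * htr + t * t * hdet⟩, by
      refine Subgroup.mem_centralizer_singleton_iff.2 (Subtype.ext ?_)
      show (1 + t • N) * g.1 = g.1 * (1 + t • N)
      have e : g.1 = N + 1 := by rw [hN, sub_add_cancel]
      rw [e]
      exact (((Commute.one_left _).add_left (((Commute.refl N).smul_left t).add_right
        (Commute.one_right _)))).eq⟩
  rw [← Nat.card_eq_fintype_card]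
  refine Nat.card_le_card_of_injective f fun s t hst => ?_
  have h2 : (1 : Matrix (Fin 2) (Fin 2) F) + s • N = 1 + t • N := congrArg (fun q => q.1.1) hst
  exact smul_left_injective F hN0 (add_left_cancel h2)

theorem main (hα : Fintype.card α = p) (G : Subgroup (Equiv.Perm α)) [IsPretransitive G α]
    (huniq : ∃! χ : Cfsg.IrrCharacter G, Cfsg.charDegree (χ : G → ℂ) = p) (P : Sylow p G) (E : Subgroup G)
    (hPE : (P : Subgroup G) ⊔ E = Subgroup.normalizer ((P : Subgroup G) : Set G))
    (hPE' : (P : Subgroup G) ⊓ E = ⊥)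
    (hNE : Nat.card (Subgroup.normalizer (E : Set G)) = 2 * Nat.card E)
    (hTI : ∀ g : G, g ∉ Subgroup.normalizer (E : Set G) → E ⊓ E.map (MulAut.conj g).toMonoidHom = ⊥) :
    (p = 5 ∨ p = 7 ∨ p = 11) ∧ ∃ (F : Type) (_ : Field F) (_ : Fintype F), Fintype.card F = p ∧
      Nonempty (G ≃* Matrix.ProjectiveSpecialLinearGroup (Fin 2) F) := by
  classical
  obtain ⟨H⟩ := exists_hyp hα G huniq P E hPE hPE' hNE hTI
  haveI := Fintype.ofFinite G
  have hfew : 2 * Nat.card (Sylow p G) < (p + 1) * (p + 2) := by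
    rcases Nat.even_or_odd H.e with he | he
    · exact H.few_sylow_even he
    · rw [H.card_sylow_odd he, mul_comm]
      exact Nat.mul_lt_mul_of_pos_left (by have := H.five_le; omega) (by omega)
  have h5 := H.five_le
  rcases Cfsg.Agent.S0996.result H.perfect p H.x H.hx H.toCtx.centralizer_x hfew with
    ⟨F, iF, iFt, hF, -, ⟨φ⟩⟩ | ⟨m, F, iF, iFt, hF, hpm, -, ⟨φ⟩⟩
  · refine ⟨?_, F, iF, iFt, hF, ⟨φ⟩⟩
    by_contra hno
    push Not at hno
    have hq : p ∉ ({2, 3, 5, 7, 9, 11} : Finset ℕ) := by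
      have h9 : p ≠ 9 := fun h => absurd (h ▸ hp.out) (by norm_num)
      simp only [Finset.mem_insert, Finset.mem_singleton]
      omega
    obtain ⟨a₀⟩ : Nonempty α := ⟨H.ω⟩
    have hidx : (stabilizer G a₀).index = p := by
      rw [index_stabilizer_of_transitive, Nat.card_eq_fintype_card, hα]
    have h1 := (Cfsg.Agent.S0806.result hF hq).1 ((stabilizer G a₀).map φ.toMonoidHom) (fun h => by
      have h2 : ((stabilizer G a₀).map φ.toMonoidHom).index = p :=
        (Subgroup.index_map_equiv (stabilizer G a₀) φ).trans hidx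
      rw [h, Subgroup.index_top] at h2
      omega)
    have h2 : ((stabilizer G a₀).map φ.toMonoidHom).index = p :=
      (Subgroup.index_map_equiv (stabilizer G a₀) φ).trans hidx
    omega
  · -- characteristic two
    haveI : CharP F 2 := by
      obtain ⟨q, hq⟩ := CharP.exists F
      obtain ⟨n, hqp, hn⟩ := @FiniteField.card F _ _ q hq
      rw [hF] at hn
      have h2 : q ∣ 2 ^ m := hn ▸ dvd_pow_self q n.pos.ne'
      rwa [(Nat.prime_dvd_prime_iff_eq hqp Nat.prime_two).1 (hqp.dvd_of_dvd_pow h2)] at hq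
    have hbot : Subgroup.center (Matrix.SpecialLinearGroup (Fin 2) F) = ⊥ := by
      rw [Subgroup.eq_bot_iff_forall]
      intro g hg
      obtain ⟨r, hr, hrg⟩ := Matrix.SpecialLinearGroup.mem_center_iff.1 hg
      have hr1 : r = 1 := by
        rw [Fintype.card_fin] at hr
        have h2 : (r - 1) ^ 2 = 0 := by rw [sub_pow_char, hr, one_pow, sub_self]
        exact sub_eq_zero.1 (pow_eq_zero_iff two_ne_zero |>.1 h2)
      exact Subtype.ext (by rw [← hrg, hr1, map_one]; rfl)
    let π : G ≃* Matrix.SpecialLinearGroup (Fin 2) F :=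
      φ.trans ((QuotientGroup.quotientMulEquivOfEq hbot).trans QuotientGroup.quotientBot)
    have hpe : H.e ∣ 2 ^ m := by
      exact H.e_dvd.trans (dvd_of_eq (by omega))
    obtain ⟨j, hj, hje⟩ := (Nat.dvd_prime_pow Nat.prime_two).1 hpe
    have he1 := H.one_lt_e
    have hj1 : j = 1 := by
      rcases Nat.lt_or_ge j 2 with h | h
      · interval_cases j <;> simp_all
      exfalso
      obtain ⟨l, hl⟩ : 4 ∣ H.e := hje ▸ (show 4 ∣ 2 ^ j from (show 4 = 2 ^ 2 by norm_num) ▸ pow_dvd_pow 2 h)
      have h4 : π (H.y ^ l) ^ 4 = 1 := by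
        rw [← map_pow, ← pow_mul, mul_comm, ← hl]
        exact (congrArg π (pow_orderOf_eq_one H.y)).trans (map_one π)
      have h2 := pow_two_of_pow_four _ h4
      rw [← map_pow, ← pow_mul] at h2
      have h3 : H.y ^ (l * 2) = 1 := π.injective (h2.trans (map_one π).symm)
      have := Nat.le_of_dvd (by omega) (orderOf_dvd_of_pow_eq_one h3)
      rw [show orderOf H.y = H.e from rfl] at this
      omega
    have he2 : H.e = 2 := by rw [hje, hj1, pow_one]
    have heven : Even H.e := he2 ▸ even_two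
    have hcard : Nat.card (Subgroup.centralizer ({H.y} : Set G)) = 4 := by
      have h := H.centralizer_z heven
      rw [he2, show 2 / 2 = 1 by norm_num, pow_one] at h
      rw [h, H.card_N, he2]
    have hy2 : π H.y ^ 2 = 1 := by
      rw [← map_pow]
      exact (congrArg (fun n => π (H.y ^ n)) he2.symm).trans ((congrArg π (pow_orderOf_eq_one H.y)).trans (map_one π))
    have hq4 : Fintype.card F ≤ 4 := by
      have h := card_le_centralizer (π H.y) hy2 (fun h => H.toCtx.y_ne_one (π.injective (h.trans (map_one π).symm)))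
      have e : Nat.card (Subgroup.centralizer ({π H.y} : Set (Matrix.SpecialLinearGroup (Fin 2) F))) = 4 := by
        rw [← hcard]
        refine Nat.card_congr (π.toEquiv.subtypeEquiv fun g => ?_).symm
        rw [Subgroup.mem_centralizer_singleton_iff, Subgroup.mem_centralizer_singleton_iff]
        show g * H.y = H.y * g ↔ π g * π H.y = π H.y * π g
        rw [← map_mul, ← map_mul, π.injective.eq_iff]
      omega
    have hm : 2 ^ m = 4 := by
      rw [hF] at hq4
      rcases Nat.lt_or_ge m 2 with h | h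
      · interval_cases m <;> omega
      · have : 2 ^ 2 ≤ 2 ^ m := Nat.pow_le_pow_right (by norm_num) h
        omega
    have hp5 : p = 5 := by omega
    refine ⟨.inl hp5, ?_⟩
    subst hp5
    refine ⟨ZMod 5, inferInstance, inferInstance, ZMod.card 5, ?_⟩
    obtain ⟨e4⟩ := Cfsg.Agent.S0252.result (F := F) (hF.trans hm)
    obtain ⟨e5⟩ := Cfsg.Agent.S0253.result (F := ZMod 5) (ZMod.card 5)
    exact ⟨φ.trans (e4.trans e5.symm)⟩

end CfsgLib.Perm.UniqueP
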